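import Groth.Agent.AGStr.Chev.AffProper

/-!
The affine part of a smooth group over an algebraically closed field.
-/

set_option autoImplicit false
set_option maxHeartbeats 800000

universe u

open CategoryTheory CategoryTheory.Limits AlgebraicGeometry MonoidalCategory CartesianMonoidalCategory MonObj GrpObj

namespace Groth.Agent.AGStr.Chev

/-- An affine smooth connected group maps into the kernel of a homomorphism to a proper group. -/
theorem exists_factor_kernel {k : Type u} [Field k] {H G L Q : Over (Spec (CommRingCat.of k))} [GrpObj H] [GrpObj G]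
    [GrpObj Q] [IsAffine H.left] [Smooth H.hom] [ConnectedSpace H.left] [IsProper Q.hom] (l : L ⟶ G) (q : G ⟶ Q)
    [IsMonHom q] (hk : AlgGrp.IsKernel l q) (h : H ⟶ G) [IsMonHom h] : ∃ f : H ⟶ L, f ≫ l = h :=
  ⟨hk.lift h (toUnit H) ((hom_eq_one (h ≫ q)).trans rfl), hk.lift_fst _ _ _⟩

/-- A morphism from a connected scheme through the identity factors through the identity component. -/
theorem exists_lift_component {k : Type u} [Field k] {H G G₀ : Over (Spec (CommRingCat.of k))} [GrpObj H] [GrpObj G]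
    [ConnectedSpace H.left] (e : G₀ ⟶ G) [IsOpenImmersion e.left]
    (hr : Set.range e.left = connectedComponent (η[G].left (IsLocalRing.closedPoint k))) (h : H ⟶ G) [IsMonHom h] :
    ∃ f : H ⟶ G₀, f ≫ e = h := by
  have hrange : Set.range h.left ⊆ Set.range e.left := by
    rw [hr]
    refine (isPreconnected_range h.left.continuous).subset_connectedComponent ⟨η[H].left (IsLocalRing.closedPoint k), ?_⟩
    rw [← Scheme.Hom.comp_apply, ← Over.comp_left, IsMonHom.one_hom]
  exact ⟨Over.homMk (IsOpenImmersion.lift e.left h.left hrange)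
    (by rw [← Over.w e, IsOpenImmersion.lift_fac_assoc]; exact Over.w h),
    Over.OverMorphism.ext (IsOpenImmersion.lift_fac _ _ _)⟩

variable {k : Type u} [Field k] [IsAlgClosed k]

/-- A connected smooth group with finitely many rational points is trivial. -/
theorem isIso_of_finite_points (N : Over (Spec (CommRingCat.of k))) [GrpObj N] [Smooth N.hom] [QuasiCompact N.hom]
    [ConnectedSpace N.left] [Finite (pts k k ⟶ N)] : IsIso N.hom := by
  haveI : IsSeparated N.hom := GrpSchLib.AntiAffine.isSeparated_grp N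
  haveI : IsReduced N.left := GrpSchLib.isReduced_of_smooth_field N.hom
  haveI : JacobsonSpace N.left := LocallyOfFiniteType.jacobsonSpace N.hom
  have hfin : (closedPoints N.left).Finite :=
    (Set.finite_range fun g : pts k k ⟶ N => g.left (IsLocalRing.closedPoint k)).subset fun x hx => point_exists hx
  have hall : closedPoints N.left = Set.univ := by
    have hc : IsClosed (closedPoints N.left) := by
      rw [← Set.biUnion_of_singleton (closedPoints N.left)]
      exact hfin.isClosed_biUnion fun _ h => h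
    rw [← hc.closure_eq, closure_closedPoints]
  haveI : Finite N.left := Set.finite_univ_iff.mp (hall ▸ hfin)
  haveI : T1Space N.left := ⟨fun x => (hall.symm ▸ Set.mem_univ x : x ∈ closedPoints N.left)⟩
  haveI : DiscreteTopology N.left := inferInstance
  haveI : Subsingleton N.left := PreconnectedSpace.trivial_of_discrete
  have h1 : (toUnit N ≫ η[N] : N ⟶ N) = 𝟙 N := hom_ext_points fun r => point_ext (Subsingleton.elim _ _)
  haveI : IsIso (toUnit N) := ⟨η[N], h1, toUnit_unique _ _⟩
  rw [show N.hom = (toUnit N).left by rw [← Over.w (toUnit N)]; rfl]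
  exact (Over.forget _).map_isIso (toUnit N)

/-- The affine part of a smooth group of finite type over an algebraically closed field. -/
theorem exists_affPart (G : Over (Spec (CommRingCat.of k))) [GrpObj G] [Smooth G.hom] [QuasiCompact G.hom] :
    ∃ (N : Over (Spec (CommRingCat.of k))) (_ : GrpObj N) (i : N ⟶ G), IsMonHom i ∧ IsClosedImmersion i.left ∧
      Smooth N.hom ∧ ConnectedSpace N.left ∧ IsAffine N.left ∧ AlgGrp.IsNormalHom i ∧
      ∀ (H : Over (Spec (CommRingCat.of k))) [GrpObj H] (h : H ⟶ G) [IsMonHom h] [Smooth H.hom] [ConnectedSpace H.left]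
        [IsAffine H.left], ∃ f : H ⟶ N, f ≫ i = h := by
  obtain ⟨G₀, _, e, _, heo, hec, hl₀, hq₀, hc₀, hg₀, hen, hs₀, hr⟩ := exists_neutral G
  haveI := heo; haveI := hec; haveI := hl₀; haveI := hq₀; haveI := hc₀
  haveI := hs₀ inferInstance
  obtain ⟨L, _, l, Q, _, q, _, hlc, hLa, hLs, hLc, hln, _, hqs, hqf, hk, hQp, hQs, hQc⟩ := exists_chevalley G₀
  haveI := hlc; haveI := hLa; haveI := hLs; haveI := hLc; haveI := hQp
  haveI : Mono e := (Over.forget _).mono_of_mono_map (inferInstanceAs (Mono e.left))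
  haveI : IsClosedImmersion (l ≫ e).left := inferInstanceAs (IsClosedImmersion (l.left ≫ e.left))
  refine ⟨L, inferInstance, l ≫ e, inferInstance, inferInstance, inferInstance, inferInstance, inferInstance, ?_, ?_⟩
  · haveI : Smooth (G ⊗ L).hom := inferInstanceAs (Smooth (pullback.fst G.hom L.hom ≫ G.hom))
    haveI : IsReduced (G ⊗ L).left := GrpSchLib.isReduced_of_smooth_field (G ⊗ L).hom
    obtain ⟨c, hc⟩ := hen (G ⊗ L) (fst G L) (snd G L ≫ l)
    have hcq : c ≫ q = toUnit _ ≫ η[Q] := by
      refine hom_ext_points fun r => ?_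
      -- conjugation by a rational point gives a homomorphism from `L`
      let g : pts k k ⟶ G := r ≫ fst G L
      let cg : L ⟶ G₀ := lift (toPt L ≫ g) (𝟙 L) ≫ c
      have hcg : cg ≫ e = (toPt L ≫ g) * (l ≫ e) * (toPt L ≫ g)⁻¹ := by
        rw [show cg ≫ e = lift (toPt L ≫ g) (𝟙 L) ≫ c ≫ e from Category.assoc _ _ _, ← hc]
        simp [MonObj.comp_mul, GrpObj.comp_inv]
      haveI : IsMonHom cg := by
        constructor
        · rw [← cancel_mono e, Category.assoc, hcg, MonObj.comp_mul, MonObj.comp_mul, GrpObj.comp_inv,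
            IsMonHom.one_hom e, IsMonHom.one_hom (l ≫ e)]
          simp [MonObj.one_eq_one]
        · rw [← cancel_mono e, Category.assoc, hcg, Category.assoc, IsMonHom.mul_hom e,
            tensorHom_comp_tensorHom_assoc, hcg, MonObj.mul_eq_mul, MonObj.mul_eq_mul]
          simp only [MonObj.comp_mul, MonObj.mul_comp, GrpObj.comp_inv, tensorHom_fst, tensorHom_snd]
          rw [← Category.assoc, toPt_unique ((fst L L * snd L L) ≫ toPt L) (toPt (L ⊗ L)),
            show fst L L ≫ toPt L ≫ g = toPt (L ⊗ L) ≫ g by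
              rw [← Category.assoc, toPt_unique (fst L L ≫ toPt L) (toPt (L ⊗ L))],
            show snd L L ≫ toPt L ≫ g = toPt (L ⊗ L) ≫ g by
              rw [← Category.assoc, toPt_unique (snd L L ≫ toPt L) (toPt (L ⊗ L))]]
          group
      have hr' : r ≫ c = (r ≫ snd G L) ≫ cg := by
        rw [show (r ≫ snd G L) ≫ cg = ((r ≫ snd G L) ≫ lift (toPt L ≫ g) (𝟙 L)) ≫ c from
          (Category.assoc _ _ _).symm, comp_lift, Category.comp_id, ← Category.assoc (r ≫ snd G L),
          toPt_unique ((r ≫ snd G L) ≫ toPt L) (𝟙 (pts k k)), Category.id_comp]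
        congr 1
        exact hom_ext _ _ (by simp [g]) (by simp)
      rw [← Category.assoc, hr', Category.assoc, hom_eq_one (cg ≫ q), MonObj.comp_one, ← Category.assoc, comp_toUnit]
      rfl
    intro T g m
    refine ⟨lift g m ≫ hk.lift c (toUnit _) hcq, ?_⟩
    rw [Category.assoc, ← Category.assoc (hk.lift _ _ _), hk.lift_fst, ← hc]
    simp [MonObj.comp_mul, GrpObj.comp_inv]
  · intro H _ h _ _ _ _
    obtain ⟨f, hf⟩ := exists_lift_component e hr h
    haveI : IsMonHom f := by
      constructor
      · rw [← cancel_mono e, Category.assoc, hf, IsMonHom.one_hom, IsMonHom.one_hom]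
      · rw [← cancel_mono e, Category.assoc, hf, IsMonHom.mul_hom, Category.assoc, IsMonHom.mul_hom,
          tensorHom_comp_tensorHom_assoc, hf]
    obtain ⟨f', hf'⟩ := exists_factor_kernel l q hk f
    exact ⟨f', by rw [reassoc_of% hf', hf]⟩

/-- The quotient by the affine part has trivial affine part. -/
theorem isIso_of_normal_quotient {G N Q M : Over (Spec (CommRingCat.of k))} [GrpObj G] [GrpObj N] [GrpObj Q] [GrpObj M]
    [Smooth G.hom] [QuasiCompact G.hom] [LocallyOfFiniteType Q.hom] [QuasiCompact Q.hom]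
    (i : N ⟶ G) [IsMonHom i] [IsAffine N.left]
    (hmax : ∀ (H : Over (Spec (CommRingCat.of k))) [GrpObj H] (h : H ⟶ G) [IsMonHom h] [IsClosedImmersion h.left]
      [Smooth H.hom] [ConnectedSpace H.left] [IsAffine H.left], AlgGrp.IsNormalHom h → ∃ f : H ⟶ N, f ≫ i = h)
    (q : G ⟶ Q) [IsMonHom q] [Surjective q.left] [Flat q.left] (hk : AlgGrp.IsKernel i q)
    (j : M ⟶ Q) [IsMonHom j] [IsClosedImmersion j.left] [Smooth M.hom] [ConnectedSpace M.left] [IsAffine M.left]
    (hn : AlgGrp.IsNormalHom j) : IsIso M.hom := by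
  haveI : QuasiCompact M.hom := inferInstance
  haveI := isAffineHom_of_isKernel i q hk
  let P : Over (Spec (CommRingCat.of k)) := pullback q j
  let π : P ⟶ G := pullback.fst q j
  haveI : Mono j := (Over.forget _).mono_of_mono_map (inferInstanceAs (Mono j.left))
  haveI : Mono π := inferInstance
  have hpl : IsPullback π.left (pullback.snd q j).left q.left j.left :=
    (IsPullback.of_hasPullback q j).map (Over.forget _)
  haveI : IsClosedImmersion π.left := MorphismProperty.of_isPullback hpl.flip ‹IsClosedImmersion j.left›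
  haveI : IsAffineHom (pullback.snd q j).left := MorphismProperty.of_isPullback hpl ‹IsAffineHom q.left›
  haveI : IsAffine P.left := isAffine_of_isAffineHom (pullback.snd q j).left
  have hpmem : ∀ {T : Over (Spec (CommRingCat.of k))} (g : T ⟶ G), (∃ y : T ⟶ M, y ≫ j = g ≫ q) → ∃ z : T ⟶ P, z ≫ π = g :=
    fun g ⟨y, hy⟩ => ⟨pullback.lift g y hy.symm, pullback.lift_fst _ _ _⟩
  obtain ⟨e, he⟩ := hpmem η[G] ⟨η[M], by rw [IsMonHom.one_hom, IsMonHom.one_hom]⟩
  obtain ⟨μ', hμ'⟩ := hpmem ((fst P P ≫ π) * (snd P P ≫ π))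
    ⟨(fst P P ≫ pullback.snd q j) * (snd P P ≫ pullback.snd q j), by
      rw [MonObj.mul_comp, MonObj.mul_comp, Category.assoc, Category.assoc, Category.assoc, Category.assoc,
        ← pullback.condition]⟩
  obtain ⟨v, hv⟩ := hpmem π⁻¹ ⟨(pullback.snd q j)⁻¹, by rw [GrpObj.inv_comp, GrpObj.inv_comp, ← pullback.condition]⟩
  obtain ⟨str, hπ⟩ := GrpSchLib.exists_grpObj_of_mono π e he μ' hμ' v hv
  letI := str
  haveI := hπ
  have hPn : AlgGrp.IsNormalHom π := by
    intro T g z
    obtain ⟨y, hy⟩ := hn T (g ≫ q) (z ≫ pullback.snd q j)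
    obtain ⟨w, hw⟩ := hpmem (g * (z ≫ π) * g⁻¹) ⟨y, by
      rw [← hy, MonObj.mul_comp, MonObj.mul_comp, GrpObj.inv_comp, Category.assoc, Category.assoc, pullback.condition]⟩
    exact ⟨w, hw.symm⟩
  obtain ⟨C, _, m, _, _, hCs, hCc, -, hCa, hCn, -, F, hF⟩ := exists_core π
  haveI := hCs; haveI := hCc; haveI := hCa inferInstance
  haveI : IsClosedImmersion (m ≫ π).left := inferInstanceAs (IsClosedImmersion (m.left ≫ π.left))
  obtain ⟨f, hf⟩ := hmax C (m ≫ π) (hCn hPn)
  have hfinrange : (Set.range fun g : pts k k ⟶ M => g ≫ j).Finite := by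
    refine (F.finite_toSet.image fun a => a ≫ π ≫ q).subset ?_
    rintro _ ⟨g, rfl⟩
    obtain ⟨gG, hgG⟩ := point_exists_mem (X := G) (Z := q.left ⁻¹' {(g ≫ j).left (IsLocalRing.closedPoint k)})
      ((point_closed (g ≫ j)).preimage q.left.continuous).isLocallyClosed (q.left.surjective _)
    have hgG' : gG ≫ q = g ≫ j := point_ext hgG
    obtain ⟨z, hz⟩ := hpmem gG ⟨g, hgG'.symm⟩
    obtain ⟨a, ha, g₀, hg₀⟩ := hF z
    refine ⟨a, ha, ?_⟩
    show a ≫ π ≫ q = g ≫ j
    have h1 : (g₀ ≫ m ≫ π) ≫ q = 1 := by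
      rw [← hf, Category.assoc, Category.assoc, hk.w, ← Category.assoc, ← Category.assoc, comp_toUnit]
      rfl
    rw [← hgG', ← hz, ← hg₀, MonObj.mul_comp, MonObj.mul_comp, Category.assoc g₀, h1, _root_.mul_one, Category.assoc]
  haveI := hfinrange.to_subtype
  haveI : Finite (pts k k ⟶ M) :=
    Finite.of_injective (fun g => (⟨g ≫ j, g, rfl⟩ : Set.range fun g : pts k k ⟶ M => g ≫ j))
      fun a b h => (cancel_mono j).mp (congrArg Subtype.val h)
  exact isIso_of_finite_points M

end Groth.Agent.AGStr.Chev
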