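import Groth.Agent.AGStr.Chev.Structure
import Groth.Agent.GrpSchLib.QuotAffine
import Groth.Agent.AGStr.NeutralAffine
import Mathlib.AlgebraicGeometry.Artinian

/-!
Homomorphisms from connected smooth affine groups to proper groups are trivial.
-/

set_option autoImplicit false

universe u

open CategoryTheory CategoryTheory.Limits AlgebraicGeometry MonoidalCategory CartesianMonoidalCategory MonObj GrpObj

namespace Groth.Agent.AGStr.Chev

variable {k : Type u} [Field k]

/-- A homomorphism from a connected smooth affine group to a proper group is trivial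
(algebraically closed field). -/
theorem hom_eq_one_algClosed [IsAlgClosed k] {L Q : Over (Spec (CommRingCat.of k))} [GrpObj L] [GrpObj Q]
    [IsAffine L.left] [Smooth L.hom] [ConnectedSpace L.left] [IsProper Q.hom] (f : L ⟶ Q) [IsMonHom f] : f = 1 := by
  haveI : QuasiCompact L.hom := inferInstance
  haveI : IsReduced L.left := GrpSchLib.isReduced_of_smooth_field L.hom
  obtain ⟨N, _, i, _, _, hn, hk⟩ := GrpSchLib.exists_kernel f
  obtain ⟨Q', _, q, _, hQ'a, hQ'l, hfl, hsu, hk'⟩ := GrpSchLib.NormalQuot.exists_quot L N i hn
  haveI := hQ'a; haveI := hQ'l; haveI := hfl; haveI := hsu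
  haveI : QuasiCompact Q'.hom := inferInstance
  obtain ⟨j, hj, hqj, -⟩ := S3280.result k L N Q' Q q i hk' f hk.w
  haveI := hj
  have hlift : ∀ g : pts k k ⟶ Q', ∃ l : pts k k ⟶ L, l ≫ q = g := fun g => by
    obtain ⟨l, hl⟩ := point_exists_mem (X := L) (Z := q.left ⁻¹' {g.left (IsLocalRing.closedPoint k)})
      ((point_closed g).preimage q.left.continuous).isLocallyClosed (q.left.surjective _)
    exact ⟨l, point_ext hl⟩
  haveI : IsFinite j.left := by
    refine isFinite_of_finite_ker j ((Set.finite_singleton 1).subset fun g hg => ?_)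
    obtain ⟨l, rfl⟩ := hlift g
    have hl : l ≫ f = toUnit _ ≫ η[Q] := by rw [← hqj, ← Category.assoc]; exact hg
    show l ≫ q = 1
    rw [← hk.lift_fst l (toUnit _) hl, Category.assoc, hk'.w, ← Category.assoc, comp_toUnit]
    rfl
  haveI : IsFinite Q'.hom := by
    haveI : IsProper Q'.hom := by rw [← Over.w j]; infer_instance
    exact IsFinite.iff_isProper_and_isAffineHom.mpr ⟨inferInstance, inferInstance⟩
  haveI : IsLocallyArtinian (Spec (CommRingCat.of k)) := inferInstance
  haveI : IsLocallyArtinian Q'.left := IsLocallyArtinian.of_locallyQuasiFinite Q'.hom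
  haveI : ConnectedSpace Q'.left := FBaseLib.connectedSpace_of_surjective q.left
  haveI : Subsingleton Q'.left := PreconnectedSpace.trivial_of_discrete
  refine hom_ext_points fun r => ?_
  rw [← hqj, ← Category.assoc, show r ≫ q = 1 from point_ext (Subsingleton.elim _ _), MonObj.one_comp,
    MonObj.comp_one]

/-- A homomorphism from a connected smooth affine group to a proper group is trivial. -/
theorem hom_eq_one {L Q : Over (Spec (CommRingCat.of k))} [GrpObj L] [GrpObj Q]
    [IsAffine L.left] [Smooth L.hom] [ConnectedSpace L.left] [IsProper Q.hom] (f : L ⟶ Q) [IsMonHom f] : f = 1 := by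
  let s := Spec.map (CommRingCat.ofHom (algebraMap k (AlgebraicClosure k)))
  let F := Over.pullback s
  haveI : QuasiCompact L.hom := inferInstance
  haveI : Smooth (F.obj L).hom := inferInstanceAs (Smooth (pullback.snd L.hom s))
  haveI : ConnectedSpace (F.obj L).left := connectedSpace_pullback (AlgebraicClosure k) s
  haveI : IsProper (F.obj Q).hom := inferInstanceAs (IsProper (pullback.snd Q.hom s))
  haveI : IsAffineHom (F.obj L).hom := inferInstanceAs (IsAffineHom (pullback.snd L.hom s))
  haveI : IsAffine (F.obj L).left := isAffine_of_isAffineHom (F.obj L).hom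
  have h1 : F.map f = F.map (1 : L ⟶ Q) := (hom_eq_one_algClosed (F.map f)).trans (Functor.map_one F).symm
  haveI : Surjective s := ⟨fun y => ⟨IsLocalRing.closedPoint _, @Subsingleton.elim (PrimeSpectrum k) inferInstance _ _⟩⟩
  haveI : Flat s := inferInstance
  haveI : Epi (pullback.fst L.hom s) := Flat.epi_of_flat_of_surjective _
  refine Over.OverMorphism.ext ((cancel_epi (pullback.fst L.hom s)).mp ?_)
  have h2 := congrArg (fun m : F.obj L ⟶ F.obj Q => m.left ≫ pullback.fst Q.hom s) h1
  dsimp [F, Over.pullback] at h2
  exact ((pullback.lift_fst _ _ _).symm.trans h2).trans (pullback.lift_fst _ _ _)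

end Groth.Agent.AGStr.Chev
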