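import Groth.Agent.AGStr.Chev.AffProper
import Groth.Agent.H23.RatProductK

/-!
Pointed maps from connected groups to abelian varieties are homomorphisms; the Albanese property
of a quotient with connected affine kernel.
-/

set_option autoImplicit false

universe u

open CategoryTheory CategoryTheory.Limits AlgebraicGeometry MonoidalCategory CartesianMonoidalCategory MonObj GrpObj

namespace Groth.Agent.AGStr.Chev

variable {k : Type u} [Field k]

/-- A pointed map from a smooth connected group to an abelian variety is a homomorphism. -/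
theorem isMonHom_of_one_proper {G B : Over (Spec (CommRingCat.of k))} [GrpObj G] [GrpObj B] [Smooth G.hom]
    [QuasiCompact G.hom] [ConnectedSpace G.left] [IsProper B.hom] [Smooth B.hom] [ConnectedSpace B.left]
    (f : G ⟶ B) (hf : η[G] ≫ f = 1) : IsMonHom f := by
  haveI : IsSeparated G.hom := GrpSchLib.AntiAffine.isSeparated_grp G
  haveI : GeometricallyIntegral G.hom := QuasiRetr.geometricallyIntegral_of_smooth G
  haveI : GeometricallyIntegral B.hom := geometricallyIntegral_of_proper B
  have h1 := GrpSchLib.AntiAffine.one_comp f hf G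
  let φ : G ⊗ G ⟶ B := (fst G G ≫ f) * (snd G G ≫ f) * ((fst G G * snd G G) ≫ f)⁻¹
  have hl : lift (𝟙 G) (toUnit G ≫ η[G]) ≫ φ = 1 := by
    simp only [φ, MonObj.comp_mul, GrpObj.comp_inv, ← Category.assoc, lift_fst, lift_snd]
    rw [show toUnit G ≫ η[G] = (1 : G ⟶ G) from rfl, h1, _root_.mul_one, _root_.mul_one, Category.id_comp,
      mul_inv_cancel]
  have hr : lift (toUnit G ≫ η[G]) (𝟙 G) ≫ φ = 1 := by
    simp only [φ, MonObj.comp_mul, GrpObj.comp_inv, ← Category.assoc, lift_fst, lift_snd]
    rw [show toUnit G ≫ η[G] = (1 : G ⟶ G) from rfl, h1, _root_.one_mul, _root_.one_mul, Category.id_comp,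
      mul_inv_cancel]
  have key : φ = 1 := (H23.RatProductK.eq_const η[G] η[G] 1 φ (hl.trans (MonObj.comp_one _).symm)
    (hr.trans (MonObj.comp_one _).symm)).trans (MonObj.comp_one _)
  have hmul : (fst G G * snd G G) ≫ f = (fst G G ≫ f) * (snd G G ≫ f) := (mul_inv_eq_one.mp key).symm
  refine ⟨hf.trans (MonObj.one_eq_one _).symm, ?_⟩
  rw [MonObj.mul_eq_mul, MonObj.mul_eq_mul, hmul, MonObj.comp_mul, tensorHom_fst, tensorHom_snd]

/-- A quotient with connected affine kernel onto a proper group has the Albanese property. -/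
theorem existsUnique_factor {G N A B : Over (Spec (CommRingCat.of k))} [GrpObj G] [GrpObj N] [GrpObj A] [GrpObj B]
    [Smooth G.hom] [QuasiCompact G.hom] [ConnectedSpace G.left] [IsAffine N.left] [Smooth N.hom]
    [ConnectedSpace N.left] (i : N ⟶ G) [IsMonHom i] [IsProper A.hom] (α : G ⟶ A) [IsMonHom α]
    [Surjective α.left] [Flat α.left] (hk : AlgGrp.IsKernel i α)
    [IsProper B.hom] [Smooth B.hom] [ConnectedSpace B.left] (f : G ⟶ B) : ∃! g : A ⟶ B, α ≫ g = f := by
  haveI : IsCommMonObj B := by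
    haveI := geometricallyIntegral_of_proper B
    exact isCommMonObj_of_isProper_of_geometricallyIntegral B
  let f' : G ⟶ B := f * (toUnit G ≫ η[G] ≫ f)⁻¹
  have hf' : η[G] ≫ f' = 1 := by
    simp only [f', MonObj.comp_mul, GrpObj.comp_inv]
    rw [← Category.assoc η[G] (toUnit G), toUnit_unique (η[G] ≫ toUnit G) (𝟙 _), Category.id_comp, mul_inv_cancel]
  haveI := isMonHom_of_one_proper f' hf'
  obtain ⟨g, hg, hgf, hu⟩ := S3280.result k G N A B α i hk f'
    ((hom_eq_one (i ≫ f')).trans rfl)
  refine ⟨g * (toUnit A ≫ η[G] ≫ f), ?_, fun g' hg' => ?_⟩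
  · show α ≫ (g * (toUnit A ≫ η[G] ≫ f)) = f
    rw [MonObj.comp_mul, hgf, ← Category.assoc α, comp_toUnit]
    exact inv_mul_cancel_right f _
  · have := hu (g' * (toUnit A ≫ η[G] ≫ f)⁻¹) (by
      rw [MonObj.comp_mul, GrpObj.comp_inv, hg', ← Category.assoc α, comp_toUnit])
    rw [← this]
    exact (inv_mul_cancel_right g' _).symm

end Groth.Agent.AGStr.Chev
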