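import Groth.Agent.AGStr.Chev.Structure

/-!
The affinization with anti-affine kernel; homomorphisms surjective on rational points.
-/

set_option autoImplicit false
set_option maxHeartbeats 1000000

universe u

open CategoryTheory CategoryTheory.Limits AlgebraicGeometry MonoidalCategory CartesianMonoidalCategory MonObj GrpObj

namespace Groth.Agent.AGStr.Chev

/-- The affinization together with its anti-affine kernel. -/
theorem exists_antiAffine_kernel {k : Type u} [Field k] (G : Over (Spec (CommRingCat.of k))) [GrpObj G]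
    [LocallyOfFiniteType G.hom] [QuasiCompact G.hom] :
    ∃ (A : Over (Spec (CommRingCat.of k))) (_ : GrpObj A) (a : A ⟶ G) (I : Over (Spec (CommRingCat.of k))) (_ : GrpObj I)
      (p : G ⟶ I), IsMonHom a ∧ IsClosedImmersion a.left ∧ LocallyOfFiniteType A.hom ∧ QuasiCompact A.hom ∧
      Function.Bijective A.hom.appTop ∧ Smooth A.hom ∧ ConnectedSpace A.left ∧
      IsMonHom p ∧ IsAffine I.left ∧ LocallyOfFiniteType I.hom ∧ Flat p.left ∧ Surjective p.left ∧
      Function.Bijective p.left.appTop ∧ AlgGrp.IsKernel a p := by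
  haveI := GrpSchLib.AntiAffine.isSeparated_grp G
  obtain ⟨I, _, p, hp, hI, hlft, hfl, hs, hb⟩ := GrpSchLib.Affinization.exists_affinization G
  haveI := hp; haveI := hI; haveI := hlft; haveI := hfl; haveI := hs
  haveI : IsSeparated I.hom := inferInstance
  obtain ⟨A, _, a, _, _, han, hak⟩ := GrpSchLib.exists_kernel p
  haveI : LocallyOfFiniteType A.hom := by rw [← Over.w a]; infer_instance
  haveI : QuasiCompact A.hom := by rw [← Over.w a]; infer_instance
  have hA : Function.Bijective A.hom.appTop := by
    obtain ⟨_, -, -, hker⟩ := GrpSchLib.AffinizationKer.main G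
    haveI : IsIso p.left.appTop := (ConcreteCategory.isIso_iff_bijective _).mpr hb
    let m : I.left ⟶ Spec Γ(G.left, ⊤) := I.left.toSpecΓ ≫ inv (Spec.map p.left.appTop)
    have hm : G.left.toSpecΓ = p.left ≫ m := by
      rw [← Category.assoc, Scheme.toSpecΓ_naturality, Category.assoc, IsIso.hom_inv_id, Category.comp_id]
    let N := GrpSchLib.AffinizationKer.ker G
    let n : N ⟶ G := Over.homMk (pullback.fst G.left.toSpecΓ (η[G].left ≫ G.left.toSpecΓ)) (by
      haveI : Mono m := inferInstance
      have hw : pullback.fst G.left.toSpecΓ (η[G].left ≫ G.left.toSpecΓ) ≫ p.left =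
          pullback.snd G.left.toSpecΓ (η[G].left ≫ G.left.toSpecΓ) ≫ η[I].left := by
        rw [← cancel_mono m, Category.assoc, Category.assoc, ← hm, ← IsMonHom.one_hom p, Over.comp_left,
          Category.assoc, ← hm]
        exact pullback.condition
      rw [← Over.w p, reassoc_of% hw, Over.w η[I]]
      rfl)
    have hn : n ≫ p = toUnit N ≫ η[I] := by
      refine Over.OverMorphism.ext ?_
      haveI : Mono m := inferInstance
      rw [← cancel_mono m]
      simp only [Over.comp_left, Category.assoc]
      show pullback.fst _ _ ≫ p.left ≫ m = (toUnit N).left ≫ η[I].left ≫ m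
      rw [← hm, ← IsMonHom.one_hom p, Over.comp_left, Category.assoc, ← hm, pullback.condition]
      congr 1
    have ha : a.left ≫ G.left.toSpecΓ = A.hom ≫ η[G].left ≫ G.left.toSpecΓ := by
      have h1 : a.left ≫ p.left = A.hom ≫ (η[G] ≫ p).left := by
        rw [← Over.comp_left, hak.w, IsMonHom.one_hom]; rfl
      rw [hm, ← Category.assoc, h1, Over.comp_left, Category.assoc, Category.assoc]
    let e₁ : A ⟶ N := Over.homMk (pullback.lift a.left A.hom ha) (by
      show pullback.lift _ _ _ ≫ pullback.snd _ _ ≫ _ = _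
      rw [pullback.lift_snd_assoc]; exact Category.comp_id _)
    let e₂ : N ⟶ A := hak.lift n (toUnit N) hn
    have h12 : e₁ ≫ n = a := Over.OverMorphism.ext (pullback.lift_fst _ _ _)
    have h21 : e₂ ≫ a = n := hak.lift_fst _ _ _
    haveI : Mono a := (Over.forget _).mono_of_mono_map (inferInstanceAs (Mono a.left))
    haveI : Mono n.left := by
      haveI : IsSplitMono η[G].left := ⟨⟨⟨G.hom, Over.w η[G]⟩⟩⟩
      haveI : Mono (η[G].left ≫ G.left.toSpecΓ) := by
        haveI : IsSplitMono η[I].left := ⟨⟨⟨I.hom, Over.w η[I]⟩⟩⟩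
        rw [hm, ← Category.assoc, ← Over.comp_left, IsMonHom.one_hom]
        infer_instance
      exact inferInstanceAs (Mono (pullback.fst G.left.toSpecΓ (η[G].left ≫ G.left.toSpecΓ)))
    haveI : Mono n := (Over.forget _).mono_of_mono_map (inferInstanceAs (Mono n.left))
    have hiso : IsIso e₁ := ⟨e₂, by rw [← cancel_mono a, Category.assoc, h21, h12, Category.id_comp],
      by rw [← cancel_mono n, Category.assoc, h12, h21, Category.id_comp]⟩
    haveI : IsIso e₁.left := (Over.forget _).map_isIso e₁
    haveI : IsIso e₁.left.appTop := inferInstanceAs (IsIso (Scheme.Γ.map e₁.left.op))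
    rw [← Over.w e₁, Scheme.Hom.comp_appTop]
    exact (ConcreteCategory.bijective_of_isIso e₁.left.appTop).comp hker
  haveI := GrpSchLib.AntiAffineSmooth.smooth (G := A) hA
  exact ⟨A, inferInstance, a, I, inferInstance, p, inferInstance, inferInstance, inferInstance, inferInstance, hA,
    inferInstance, GrpSchLib.AntiAffine.connectedSpace_of_bijective hA, hp, hI, hlft, hfl, hs, hb, hak⟩

/-- Anti-affine groups map into the kernel of a homomorphism to an affine group. -/
theorem exists_factor_antiAffine_kernel {k : Type u} [Field k] {A G I M : Over (Spec (CommRingCat.of k))} [GrpObj G]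
    [GrpObj I] [GrpObj M] [IsAffine I.left] (a : A ⟶ G) (p : G ⟶ I) [IsMonHom p] (hk : AlgGrp.IsKernel a p)
    (hM : Function.Bijective M.hom.appTop) (j : M ⟶ G) [IsMonHom j] : ∃ f : M ⟶ A, f ≫ a = j :=
  ⟨hk.lift j (toUnit M) (by
    rw [GrpSchLib.AntiAffine.eq_const_of_isAffine hM (j ≫ p) η[M], IsMonHom.one_hom (j ≫ p)]), hk.lift_fst _ _ _⟩

variable {k : Type u} [Field k] [IsAlgClosed k]

/-- A homomorphism which is surjective on rational points is surjective. -/
theorem surjective_of_points {H G : Over (Spec (CommRingCat.of k))} [GrpObj H] [GrpObj G] [LocallyOfFiniteType H.hom]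
    [QuasiCompact H.hom] [LocallyOfFiniteType G.hom] (f : H ⟶ G) [IsMonHom f]
    (h : ∀ g : pts k k ⟶ G, ∃ x : pts k k ⟶ H, x ≫ f = g) : Surjective f.left := by
  haveI : QuasiCompact f.left := quasiCompact_left f
  have hc := GrpSchLib.HomClosedRange.isClosed_range f
  refine ⟨fun y => ?_⟩
  haveI : JacobsonSpace G.left := LocallyOfFiniteType.jacobsonSpace G.hom
  have hsub : closedPoints G.left ⊆ Set.range f.left := by
    intro z hz
    obtain ⟨g, rfl⟩ := point_exists hz
    obtain ⟨x, rfl⟩ := h g
    exact ⟨x.left (IsLocalRing.closedPoint k), rfl⟩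
  exact closure_minimal hsub hc (by rw [closure_closedPoints]; trivial)

end Groth.Agent.AGStr.Chev
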