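import Groth.Agent.AGStr.Chev.Repr
import Groth.Agent.VarDim.Basic
import Groth.Agent.NagataLib.Field
import Groth.Agent.N12Aux.Basic
import Mathlib.RingTheory.DiscreteValuationRing.TFAE
import Mathlib.RingTheory.Ideal.KrullsHeightTheorem
import Mathlib.RingTheory.LocalRing.LocalSubring
import Mathlib.RingTheory.IntegralClosure.IntegrallyClosed
import Mathlib.RingTheory.IntegralClosure.IsIntegralClosure.Basic
import Mathlib.RingTheory.Valuation.Integral

/-!
Divisorial valuation rings of function fields and their normal affine models.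
-/

set_option autoImplicit false

universe u

open Order

namespace Groth.Agent.AGStr.Chev

variable {k : Type u} [Field k] {K : Type u} [Field K] [Algebra k K]

/-- The residue field of `O` contains `m` algebraically independent elements over `k`. -/
def ResGe (k : Type u) [Field k] {K : Type u} [Field K] [Algebra k K] (O : ValuationSubring K) (m : ℕ) : Prop :=
  ∃ r : Fin m → K, (∀ i, r i ∈ O) ∧
    ∀ P : MvPolynomial (Fin m) k, P ≠ 0 → MvPolynomial.aeval r P ≠ 0 ∧ (MvPolynomial.aeval r P)⁻¹ ∈ O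

theorem inv_notMem_iff {O : ValuationSubring K} {a : K} (ha : a ∈ O) :
    ¬ IsUnit (⟨a, ha⟩ : O) ↔ (a = 0 ∨ a⁻¹ ∉ O) := by
  constructor
  · intro h
    by_contra! hc
    exact h (IsUnit.of_mul_eq_one ⟨a⁻¹, hc.2⟩ (Subtype.ext (mul_inv_cancel₀ hc.1)))
  · rintro h hu
    obtain ⟨v, hv⟩ := isUnit_iff_exists_inv.mp hu
    have hv' : a * (v : K) = 1 := congrArg Subtype.val hv
    rcases h with rfl | h
    · simp at hv'
    · exact h (eq_inv_of_mul_eq_one_right hv' ▸ v.2)

/-- A normal affine model of the field inside a valuation ring, containing given elements. -/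
theorem exists_normalModel (O : ValuationSubring K) (hk : ∀ c : k, algebraMap k K c ∈ O)
    (hfg : ∃ t : Finset K, IntermediateField.adjoin k (t : Set K) = ⊤) (S : Finset K) (hS : ∀ s ∈ S, s ∈ O) :
    ∃ A : Subalgebra k K, A.FG ∧ (∀ s ∈ S, s ∈ A) ∧ (∀ a : A, (a : K) ∈ O) ∧ IsFractionRing A K ∧
      IsIntegrallyClosed A := by
  classical
  obtain ⟨t, ht⟩ := hfg
  let t' : Finset K := t.image fun x => if x ∈ O then x else x⁻¹
  let A₀ : Subalgebra k K := Algebra.adjoin k ((S ∪ t' : Finset K) : Set K)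
  let Osub : Subalgebra k K := { O.toSubring with algebraMap_mem' := hk }
  have hA₀O : A₀ ≤ Osub := Algebra.adjoin_le fun x hx => by
    rcases Finset.mem_union.mp hx with hx | hx
    · exact hS x hx
    · obtain ⟨y, -, rfl⟩ := Finset.mem_image.mp hx
      by_cases hy : y ∈ O
      · rw [if_pos hy]; exact hy
      · rw [if_neg hy]; exact (O.mem_or_inv_mem y).resolve_left hy
  let F : IntermediateField k K := IntermediateField.adjoin k (A₀ : Set K)
  have hF : F = ⊤ := top_unique (ht ▸ IntermediateField.adjoin_le_iff.mpr fun x hx => by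
    have hx' : (if x ∈ O then x else x⁻¹) ∈ F := IntermediateField.subset_adjoin _ _
      (Algebra.subset_adjoin (Finset.mem_union_right _ (Finset.mem_image_of_mem _ hx)))
    by_cases hy : x ∈ O
    · rwa [if_pos hy] at hx'
    · rw [if_neg hy] at hx'; simpa using F.inv_mem hx')
  haveI : IsFractionRing A₀ K := IsFractionRing.of_field _ _ fun z => by
    have hz : z ∈ F := by rw [hF]; exact IntermediateField.mem_top
    rw [show F = IntermediateField.adjoin k (A₀ : Set K) from rfl, IntermediateField.mem_adjoin_iff_div,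
      Algebra.adjoin_eq] at hz
    obtain ⟨r, hr, s, hs, rfl⟩ := hz
    exact ⟨⟨r, hr⟩, ⟨s, hs⟩, rfl⟩
  haveI : Algebra.FiniteType k A₀ := (Subalgebra.fg_iff_finiteType _).mp ⟨_, rfl⟩
  haveI : Module.Finite A₀ (integralClosure A₀ K) := N12Aux.finite_of_isN2 (NagataLib.isN2_of_finiteType k A₀) K K
  let A : Subalgebra k K := (integralClosure A₀ K).restrictScalars k
  refine ⟨A, ?_, fun s hs => (integralClosure A₀ K).algebraMap_mem ⟨s, Algebra.subset_adjoin (Finset.mem_union_left _ hs)⟩,
    fun a => ?_, ?_, ?_⟩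
  · exact (Subalgebra.fg_iff_finiteType _).mpr
      ((inferInstance : Algebra.FiniteType k A₀).trans
        (inferInstance : Algebra.FiniteType A₀ (integralClosure A₀ K)) : Algebra.FiniteType k (integralClosure A₀ K))
  · have h1 : IsIntegral A₀ (a : K) := a.2
    have h2 : IsIntegral O (a : K) := by
      letI : Algebra A₀ O := (Subring.inclusion (T := O.toSubring) (S := A₀.toSubring) hA₀O).toAlgebra
      haveI : IsScalarTower A₀ O K := IsScalarTower.of_algebraMap_eq fun _ => rfl
      exact h1.tower_top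
    obtain ⟨⟨o, ho⟩, he⟩ := IsIntegrallyClosed.isIntegral_iff.mp h2
    exact he ▸ ho
  · exact IsFractionRing.of_field _ _ fun z => by
      obtain ⟨r, s, -, e⟩ := IsFractionRing.div_surjective A₀ z
      exact ⟨⟨(r : K), (integralClosure A₀ K).algebraMap_mem r⟩, ⟨(s : K), (integralClosure A₀ K).algebraMap_mem s⟩, e.symm⟩
  · exact (integralClosure.isIntegrallyClosedOfFiniteExtension K : IsIntegrallyClosed (integralClosure A₀ K))

theorem trdeg_eq (A : Subalgebra k K) [IsFractionRing A K] {n : ℕ} (hn : Algebra.trdeg k K = n) :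
    Algebra.trdeg k A = n := by
  haveI : Algebra.IsAlgebraic A K := IsLocalization.isAlgebraic K (nonZeroDivisors A)
  haveI : FaithfulSMul k A := (faithfulSMul_iff_algebraMap_injective k A).mpr (algebraMap k A).injective
  have h := trdeg_add_eq k A (A := K)
  rwa [trdeg_eq_zero (R := A) (A := K), add_zero, hn] at h

/-- A height one prime of a normal model gives a divisorial valuation ring. -/
theorem exists_divisorialRing (A : Subalgebra k K) (hA : A.FG) [IsFractionRing A K] [IsIntegrallyClosed A] {n : ℕ}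
    (hn : Algebra.trdeg k K = n) (q : Ideal A) [q.IsPrime] (hq0 : q ≠ ⊥) (hq : q.height ≤ 1) :
    ∃ O : ValuationSubring K, Model A q O ∧ ResGe k O (n - 1) ∧ Algebra.trdeg k (A ⧸ q) < n ∧
      ((n - 1 : ℕ) : Cardinal) ≤ Algebra.trdeg k (A ⧸ q) ∧
      (∀ f : K, f ∈ O ↔ ∃ num den : A, den ∉ q ∧ f * (den : K) = num) := by
  classical
  haveI : Algebra.FiniteType k A := (Subalgebra.fg_iff_finiteType _).mp hA
  haveI : IsNoetherianRing A := Algebra.FiniteType.isNoetherianRing k A
  let R := Localization.AtPrime q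
  haveI : IsDomain R := IsLocalization.isDomain_localization q.primeCompl_le_nonZeroDivisors
  haveI : IsNoetherianRing R := IsLocalization.isNoetherianRing q.primeCompl R ‹_›
  haveI : IsIntegrallyClosed R := isIntegrallyClosed_of_isLocalization R q.primeCompl q.primeCompl_le_nonZeroDivisors
  have huniq : ∀ P : Ideal R, P ≠ ⊥ → P.IsPrime → P = IsLocalRing.maximalIdeal R := by
    intro P hP0 hP
    have hle : P ≤ IsLocalRing.maximalIdeal R := IsLocalRing.le_maximalIdeal hP.ne_top
    by_contra hne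
    have hlt : P.comap (algebraMap A R) < q :=
      lt_of_lt_of_eq (lt_of_le_of_ne (Ideal.comap_mono hle) fun e => hne (by
        rw [← IsLocalization.map_comap q.primeCompl R P, Ideal.under_def, e]
        exact IsLocalization.map_comap q.primeCompl R _)) (Localization.AtPrime.under_maximalIdeal (I := q))
    haveI := hP
    have h1 := Ideal.height_strict_mono_of_isPrime hlt
    have h2 : (P.comap (algebraMap A R)).height ≠ 0 := by
      intro h0
      have hmin : P.comap (algebraMap A R) ∈ minimalPrimes A := Ideal.height_eq_zero_iff.mp h0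
      rw [IsDomain.minimalPrimes_eq_singleton_bot, Set.mem_singleton_iff] at hmin
      exact hP0 (by rw [← IsLocalization.map_comap q.primeCompl R P, Ideal.under_def, hmin, Ideal.map_bot])
    have h3 := Order.one_le_iff_pos.mpr (pos_iff_ne_zero.mpr h2)
    exact absurd (h3.trans_lt h1) (not_lt.mpr hq)
  have hT := tfae_of_isNoetherianRing_of_isLocalRing_of_isDomain R
  have h34 : IsIntegrallyClosed R ∧ ∀ P : Ideal R, P ≠ ⊥ → P.IsPrime → P = IsLocalRing.maximalIdeal R :=
    ⟨inferInstance, huniq⟩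
  obtain ⟨π₀, hπ₀⟩ : (IsLocalRing.maximalIdeal R).IsPrincipal := (hT.out 3 4).mp h34
  obtain ⟨⟨π, ⟨s₀, hs₀⟩⟩, hπe⟩ := IsLocalization.surj q.primeCompl π₀
  have hmax : IsLocalRing.maximalIdeal R = Ideal.span {algebraMap A R π} := by
    rw [hπ₀, ← hπe, Ideal.submodule_span_eq]
    exact (Ideal.span_singleton_mul_right_unit (IsLocalization.map_units R (⟨s₀, hs₀⟩ : q.primeCompl)) π₀).symm
  have hπq : π ∈ q := by
    have h := Localization.AtPrime.under_maximalIdeal (I := q)
    rw [← SetLike.ext_iff.mp h π, Ideal.under_def, Ideal.mem_comap, hmax]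
    exact Ideal.mem_span_singleton_self _
  have hπ0 : π ≠ 0 := by
    rintro rfl
    refine hq0 ?_
    refine (Localization.AtPrime.under_maximalIdeal (I := q)).symm.trans ?_
    rw [Ideal.under_def, hmax, map_zero, Ideal.span_singleton_zero]
    exact Ideal.comap_bot_of_injective _ (IsLocalization.injective R q.primeCompl_le_nonZeroDivisors)
  have hinj := IsLocalization.injective R q.primeCompl_le_nonZeroDivisors
  have hfac : ∀ a : A, a ≠ 0 → ∃ (r : ℕ) (d a' : A), d ∉ q ∧ a' ∉ q ∧ d * a = π ^ r * a' := by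
    intro a ha
    haveI : IsPrincipalIdealRing R := (hT.out 3 0).mp h34
    have hπ' : algebraMap A R π ≠ 0 := (map_ne_zero_iff _ hinj).mpr hπ0
    haveI : IsDiscreteValuationRing R :=
      { not_a_field' := fun e => hπ' (by simpa [hmax, Ideal.span_singleton_eq_bot] using e) }
    have hirr : Irreducible (algebraMap A R π) := (IsDiscreteValuationRing.irreducible_iff_uniformizer _).mpr hmax
    obtain ⟨r, u, hu⟩ := IsDiscreteValuationRing.eq_unit_mul_pow_irreducible ((map_ne_zero_iff _ hinj).mpr ha) hirr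
    obtain ⟨⟨a', ⟨d, hd⟩⟩, hue⟩ := IsLocalization.surj q.primeCompl (u : R)
    refine ⟨r, d, a', hd, ?_, hinj ?_⟩
    · intro ha'
      have h1 : IsUnit (algebraMap A R a') := hue ▸ u.isUnit.mul (IsLocalization.map_units R (⟨d, hd⟩ : q.primeCompl))
      exact IsLocalRing.notMem_maximalIdeal.mpr h1
        ((IsLocalization.AtPrime.to_map_mem_maximal_iff R q a').mpr ha')
    · simp only [map_mul, map_pow]
      rw [hu, ← hue]; ring
  -- the valuation ring
  let T : Subring K :=
    { carrier := {f | ∃ num den : A, den ∉ q ∧ f * (den : K) = num}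
      mul_mem' := by
        rintro f f' ⟨a, b, hb, h⟩ ⟨a', b', hb', h'⟩
        exact ⟨a * a', b * b', fun e => (Ideal.IsPrime.mem_or_mem ‹_› e).elim hb hb', by push_cast; rw [← h, ← h']; ring⟩
      one_mem' := ⟨1, 1, q.ne_top_iff_one.mp (Ideal.IsPrime.ne_top ‹_›), by simp⟩
      add_mem' := by
        rintro f f' ⟨a, b, hb, h⟩ ⟨a', b', hb', h'⟩
        exact ⟨a * b' + a' * b, b * b', fun e => (Ideal.IsPrime.mem_or_mem ‹_› e).elim hb hb', by push_cast; rw [← h, ← h']; ring⟩
      zero_mem' := ⟨0, 1, q.ne_top_iff_one.mp (Ideal.IsPrime.ne_top ‹_›), by simp⟩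
      neg_mem' := by
        rintro f ⟨a, b, hb, h⟩
        exact ⟨-a, b, hb, by push_cast; rw [← h]; ring⟩ }
  have hne0 : ∀ {d : A}, d ∉ q → (d : K) ≠ 0 := fun hd e => hd (Subtype.ext e (a2 := (0 : A)) ▸ q.zero_mem)
  have hπK : (π : K) ≠ 0 := fun e => hπ0 (Subtype.ext e)
  let O : ValuationSubring K := ValuationSubring.ofSubring T fun f => by
    obtain ⟨a, b, hb, rfl⟩ := IsFractionRing.div_surjective A f
    show (_ : Prop) ∨ _
    by_cases ha : a = 0
    · left; rw [ha, map_zero, zero_div]; exact T.zero_mem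
    obtain ⟨r, d, a', hd, ha', e⟩ := hfac a ha
    obtain ⟨s, d', b', hd', hb', e'⟩ := hfac b (nonZeroDivisors.ne_zero hb)
    have haK : (a : K) ≠ 0 := fun h => ha (Subtype.ext h)
    have hbK : (b : K) ≠ 0 := fun h => nonZeroDivisors.ne_zero hb (Subtype.ext h)
    have eK : (d : K) * (a : K) = (π : K) ^ r * (a' : K) := congrArg Subtype.val e
    have eK' : (d' : K) * (b : K) = (π : K) ^ s * (b' : K) := congrArg Subtype.val e'
    show ((a : K) / b) ∈ T ∨ ((a : K) / b)⁻¹ ∈ T
    rcases le_total s r with h | h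
    · left
      refine ⟨π ^ (r - s) * a' * d', d * b', fun e => (Ideal.IsPrime.mem_or_mem ‹_› e).elim hd hb', ?_⟩
      push_cast
      rw [div_mul_eq_mul_div, div_eq_iff hbK]
      have e3 : (π : K) ^ r = (π : K) ^ (r - s) * (π : K) ^ s := by rw [← pow_add, Nat.sub_add_cancel h]
      linear_combination (b' : K) * eK - ((π : K) ^ (r - s) * (a' : K)) * eK' + ((a' : K) * b') * e3
    · right
      refine ⟨π ^ (s - r) * b' * d, d' * a', fun e => (Ideal.IsPrime.mem_or_mem ‹_› e).elim hd' ha', ?_⟩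
      push_cast
      rw [inv_div, div_mul_eq_mul_div, div_eq_iff haK]
      have e3 : (π : K) ^ s = (π : K) ^ (s - r) * (π : K) ^ r := by rw [← pow_add, Nat.sub_add_cancel h]
      linear_combination (a' : K) * eK' - ((π : K) ^ (s - r) * (b' : K)) * eK + ((a' : K) * b') * e3
  have hmemO : ∀ f : K, f ∈ O ↔ ∃ num den : A, den ∉ q ∧ f * (den : K) = num := fun f => Iff.rfl
  have hinv : ∀ a : A, a ∉ q → (a : K)⁻¹ ∈ O := fun a ha => (hmemO _).mpr ⟨1, a, ha, by simp [hne0 ha]⟩
  -- the dimension formula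
  obtain ⟨N, hN, hNt⟩ := VarDim.exists_dim_eq_trdeg k A
  have hNn : N = n := by exact_mod_cast hNt.symm.trans (trdeg_eq A hn)
  obtain ⟨M, hMd, hMt⟩ := VarDim.exists_dim_eq_trdeg k (A ⧸ q)
  have hfor := VarDim.height_add_coheight_eq k N A hN ⟨q, ‹_›⟩
  have hco : coheight (⟨q, ‹_›⟩ : PrimeSpectrum A) = (M : ℕ∞) := by
    have := VarDim.coheight_eq_ringKrullDim_quotient (⟨q, ‹_›⟩ : PrimeSpectrum A)
    rw [hMd] at this
    exact_mod_cast this
  rw [hco, ← PrimeSpectrum.height_eq_orderHeight, hNn] at hfor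
  have hfor' : q.height + (M : ℕ∞) = (n : ℕ∞) := hfor
  have hfin : q.height ≠ ⊤ := ne_top_of_le_ne_top (by simp) hq
  obtain ⟨h, hh⟩ := ENat.ne_top_iff_exists.mp hfin
  have hpos : h ≠ 0 := fun h0 => by
    have hmin : q ∈ minimalPrimes A := Ideal.height_eq_zero_iff.mp (by
      rw [← hh, h0, Nat.cast_zero])
    rw [IsDomain.minimalPrimes_eq_singleton_bot, Set.mem_singleton_iff] at hmin
    exact hq0 hmin
  rw [← hh] at hfor' hq
  have hh1 : h ≤ 1 := by exact_mod_cast hq
  have hM : h + M = n := by exact_mod_cast hfor'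
  refine ⟨O, ⟨hA, ‹_›, fun a => (hmemO _).mpr ⟨a, 1, q.ne_top_iff_one.mp (Ideal.IsPrime.ne_top ‹_›), by simp⟩, hinv,
    fun a ha ha0 hi => ?_, fun f hf => (hmemO f).mp hf, π, hπq, hπ0, hfac⟩, ?_, ?_,
    by rw [hMt]; exact_mod_cast (by omega : n - 1 ≤ M), hmemO⟩
  · obtain ⟨num, den, hden, e⟩ := (hmemO _).mp hi
    have e' : den = a * num := Subtype.ext (by
      push_cast
      rw [← e, mul_inv_cancel_left₀ ha0])
    exact hden (e' ▸ q.mul_mem_right _ ha)
  · haveI : Nontrivial (A ⧸ q) := Ideal.Quotient.nontrivial_iff.mpr (Ideal.IsPrime.ne_top ‹_›)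
    haveI : FaithfulSMul k (A ⧸ q) := (faithfulSMul_iff_algebraMap_injective k (A ⧸ q)).mpr (algebraMap k (A ⧸ q)).injective
    obtain ⟨s, hs⟩ := exists_isTranscendenceBasis k (A ⧸ q)
    have hcard : Cardinal.mk s = (n - 1 : ℕ) := by
      rw [hs.cardinalMk_eq_trdeg, hMt]
      congr 1
      omega
    haveI : Fintype s := (Cardinal.lt_aleph0_iff_fintype.mp (hcard ▸ Cardinal.natCast_lt_aleph0)).some
    have hc : Fintype.card s = n - 1 := by
      have := Cardinal.mk_fintype s
      rw [hcard] at this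
      exact_mod_cast this.symm
    let e := (Fintype.equivFinOfCardEq hc).symm
    choose r hr using fun i => Ideal.Quotient.mk_surjective (e i : A ⧸ q)
    refine ⟨fun i => (r i : K), fun i => (hmemO _).mpr ⟨r i, 1, q.ne_top_iff_one.mp (Ideal.IsPrime.ne_top ‹_›), by simp⟩,
      fun P hP => ?_⟩
    have h1 : MvPolynomial.aeval (fun i => (r i : K)) P = ((MvPolynomial.aeval r P : A) : K) :=
      (MvPolynomial.comp_aeval_apply r A.val P).symm
    have h2 : MvPolynomial.aeval r P ∉ q := fun hm => hP (by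
      refine (hs.1.comp _ e.injective) ?_
      rw [map_zero]
      have h3 : (Ideal.Quotient.mkₐ k q) (MvPolynomial.aeval r P) = 0 := Ideal.Quotient.eq_zero_iff_mem.mpr hm
      refine Eq.trans ?_ h3
      refine Eq.trans ?_ (MvPolynomial.comp_aeval_apply r (Ideal.Quotient.mkₐ k q) P).symm
      congr 2
      funext i
      exact (hr i).symm)
    exact h1 ▸ ⟨hne0 h2, hinv _ h2⟩
  · rw [hMt]
    exact_mod_cast (by omega : M < n)

/-- A divisorial valuation ring has a normal model. -/
theorem exists_model (O : ValuationSubring K) (hk : ∀ c : k, algebraMap k K c ∈ O)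
    (hfg : ∃ t : Finset K, IntermediateField.adjoin k (t : Set K) = ⊤) {n : ℕ} (hn : Algebra.trdeg k K = n)
    (hO : O ≠ ⊤) (hres : ResGe k O (n - 1)) :
    ∃ (A : Subalgebra k K) (p : Ideal A), IsFractionRing A K ∧ Model A p O ∧ Algebra.trdeg k (A ⧸ p) < n := by
  classical
  obtain ⟨r, hr, hind⟩ := hres
  obtain ⟨A, hA, hrA, hAO, hfrac, hint⟩ := exists_normalModel O hk hfg (Finset.univ.image r) (by
    intro s hs; obtain ⟨i, -, rfl⟩ := Finset.mem_image.mp hs; exact hr i)
  haveI := hfrac; haveI := hint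
  haveI : Algebra.FiniteType k A := (Subalgebra.fg_iff_finiteType _).mp hA
  let jA : A →+* O := A.val.toRingHom.codRestrict O.toSubring hAO
  let p : Ideal A := (IsLocalRing.maximalIdeal O).comap jA
  haveI : p.IsPrime := Ideal.IsPrime.comap _
  have hp : ∀ a : A, a ∈ p ↔ ((a : K) = 0 ∨ (a : K)⁻¹ ∉ O) := fun a => by
    rw [← inv_notMem_iff (hAO a)]
    exact IsLocalRing.mem_maximalIdeal (jA a)
  have hp0 : p ≠ ⊥ := by
    intro h0
    refine hO (top_unique fun f _ => ?_)
    obtain ⟨a, b, hb, rfl⟩ := IsFractionRing.div_surjective A f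
    refine div_eq_mul_inv (algebraMap A K a) _ ▸ O.mul_mem _ _ (hAO a) ?_
    by_contra hn'
    have : b ∈ p := (hp b).mpr (Or.inr hn')
    rw [h0] at this
    exact nonZeroDivisors.ne_zero hb this
  -- the quotient has the residue transcendence degree
  have hge : ((n - 1 : ℕ) : Cardinal) ≤ Algebra.trdeg k (A ⧸ p) := by
    have hx : AlgebraicIndependent k fun i => Ideal.Quotient.mk p (⟨r i, hrA _ (Finset.mem_image_of_mem _ (Finset.mem_univ i))⟩ : A) := by
      rw [algebraicIndependent_iff]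
      intro P hP
      by_contra hP0
      let r' : Fin (n - 1) → A := fun i => ⟨r i, hrA _ (Finset.mem_image_of_mem _ (Finset.mem_univ i))⟩
      have h1 : MvPolynomial.aeval r' P ∈ p := by
        rw [← Ideal.Quotient.eq_zero_iff_mem]
        exact (MvPolynomial.comp_aeval_apply r' (Ideal.Quotient.mkₐ k p) P).trans hP
      have h2 : ((MvPolynomial.aeval r' P : A) : K) = MvPolynomial.aeval r P :=
        MvPolynomial.comp_aeval_apply r' A.val P
      rcases (hp _).mp h1 with h | h <;> rw [h2] at h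
      · exact (hind P hP0).1 h
      · exact h (hind P hP0).2
    simpa using hx.lift_cardinalMk_le_trdeg
  obtain ⟨N, hN, hNt⟩ := VarDim.exists_dim_eq_trdeg k A
  have hNn : N = n := by exact_mod_cast hNt.symm.trans (trdeg_eq A hn)
  obtain ⟨M, hMd, hMt⟩ := VarDim.exists_dim_eq_trdeg k (A ⧸ p)
  have hco : coheight (⟨p, ‹_›⟩ : PrimeSpectrum A) = (M : ℕ∞) := by
    have := VarDim.coheight_eq_ringKrullDim_quotient (⟨p, ‹_›⟩ : PrimeSpectrum A)
    rw [hMd] at this
    exact_mod_cast this
  have hfor := VarDim.height_add_coheight_eq k N A hN ⟨p, ‹_›⟩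
  rw [hco, ← PrimeSpectrum.height_eq_orderHeight, hNn] at hfor
  have hfor' : p.height + (M : ℕ∞) = (n : ℕ∞) := hfor
  rw [hMt] at hge
  have hge' : n - 1 ≤ M := by exact_mod_cast hge
  have hht : p.height ≤ 1 := by
    have hfin : p.height ≠ ⊤ := fun e => by rw [e, top_add] at hfor'; exact ENat.top_ne_coe n hfor'
    obtain ⟨h, hh⟩ := ENat.ne_top_iff_exists.mp hfin
    rw [← hh] at hfor' ⊢
    have : h + M = n := by exact_mod_cast hfor'
    exact_mod_cast (by omega : h ≤ 1)
  obtain ⟨O', hM', -, htr, -, hO'⟩ := exists_divisorialRing A hA hn p hp0 hht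
  refine ⟨A, p, inferInstance, ?_, htr⟩
  have hne0 : ∀ {d : A}, d ∉ p → (d : K) ≠ 0 := fun hd e => hd ((hp _).mpr (Or.inl e))
  suffices h : O' = O by exact h ▸ hM'
  ext f
  constructor
  · intro hf
    obtain ⟨num, den, hden, e⟩ := (hO' f).mp hf
    have hi : (den : K)⁻¹ ∈ O := not_not.mp fun hn' => hden ((hp den).mpr (Or.inr hn'))
    rw [(eq_mul_inv_iff_mul_eq₀ (hne0 hden)).mpr e]
    exact O.mul_mem _ _ (hAO num) hi
  · intro hf
    rcases O'.mem_or_inv_mem f with h | h
    · exact h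
    by_cases hf0 : f = 0
    · rw [hf0]; exact O'.zero_mem
    obtain ⟨num, den, hden, e⟩ := (hO' _).mp h
    have hnum : num ∉ p := fun hm => by
      have hi : (den : K)⁻¹ ∈ O := not_not.mp fun hn' => hden ((hp den).mpr (Or.inr hn'))
      rcases (hp num).mp hm with h0 | h0
      · rw [← e] at h0
        exact mul_ne_zero (inv_ne_zero hf0) (hne0 hden) h0
      · exact h0 (by rw [← e, mul_inv, inv_inv]; exact O.mul_mem _ _ hf hi)
    refine (hO' f).mpr ⟨den, num, hnum, ?_⟩
    rw [← e, mul_inv_cancel_left₀ hf0]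

/-- A valuation ring avoiding finitely many elements gives a divisorial one doing the same. -/
theorem exists_divisorial (O₁ : ValuationSubring K) (hk : ∀ c : k, algebraMap k K c ∈ O₁)
    (hfg : ∃ t : Finset K, IntermediateField.adjoin k (t : Set K) = ⊤) {n : ℕ} (hn : Algebra.trdeg k K = n)
    (s : Finset K) (hs : s.Nonempty) (hs₁ : ∀ a ∈ s, a ∉ O₁) :
    ∃ (A : Subalgebra k K) (p : Ideal A) (O : ValuationSubring K), IsFractionRing A K ∧ Model A p O ∧
      ((n - 1 : ℕ) : Cardinal) ≤ Algebra.trdeg k (A ⧸ p) ∧ ∀ a ∈ s, a ∉ O := by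
  classical
  have hne0 : ∀ a ∈ s, a ≠ 0 := fun a ha e => hs₁ a ha (e ▸ O₁.zero_mem)
  obtain ⟨a₀, ha₀, hmin⟩ := Finset.exists_min_image s (fun a => O₁.valuation a) hs
  have hdiv : ∀ a ∈ s, a⁻¹ * a₀ ∈ O₁ := fun a ha => by
    rw [← O₁.valuation_le_one_iff, map_mul, map_inv₀, inv_mul_le_one₀ ((Valuation.pos_iff _).mpr (hne0 a ha))]
    exact hmin a ha
  obtain ⟨A, hA, hSA, hAO, hfrac, hint⟩ := exists_normalModel O₁ hk hfg ({a₀⁻¹} ∪ s.image fun a => a⁻¹ * a₀) (by
    intro x hx
    rcases Finset.mem_union.mp hx with hx | hx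
    · rw [Finset.mem_singleton.mp hx]; exact (O₁.mem_or_inv_mem a₀).resolve_left (hs₁ a₀ ha₀)
    · obtain ⟨a, ha, rfl⟩ := Finset.mem_image.mp hx; exact hdiv a ha)
  haveI := hfrac; haveI := hint
  haveI : Algebra.FiniteType k A := (Subalgebra.fg_iff_finiteType _).mp hA
  haveI : IsNoetherianRing A := Algebra.FiniteType.isNoetherianRing k A
  let b : A := ⟨a₀⁻¹, hSA _ (Finset.mem_union_left _ (Finset.mem_singleton_self _))⟩
  have hb0 : b ≠ 0 := fun e => inv_ne_zero (hne0 a₀ ha₀) (congrArg Subtype.val e)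
  have hbne : Ideal.span {b} ≠ ⊤ := fun e => by
    obtain ⟨c, hc⟩ := Ideal.span_singleton_eq_top.mp e |>.exists_right_inv
    have hc' : a₀⁻¹ * (c : K) = 1 := congrArg Subtype.val hc
    rw [inv_mul_eq_one₀ (hne0 a₀ ha₀)] at hc'
    exact hs₁ a₀ ha₀ (hc' ▸ hAO c)
  obtain ⟨q, hq⟩ := Ideal.nonempty_minimalPrimes hbne
  haveI := hq.1.1
  have hht : q.height ≤ 1 := Ideal.height_le_one_of_isPrincipal_of_mem_minimalPrimes _ q hq
  have hbq : b ∈ q := hq.1.2 (Ideal.mem_span_singleton_self b)
  have hq0 : q ≠ ⊥ := fun e => hb0 (by rw [e] at hbq; exact hbq)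
  obtain ⟨O, hM, -, -, hres, -⟩ := exists_divisorialRing A hA hn q hq0 hht
  refine ⟨A, q, O, inferInstance, hM, hres, fun a ha hmem => ?_⟩
  let c : A := ⟨a⁻¹ * a₀, hSA _ (Finset.mem_union_right _ (Finset.mem_image_of_mem _ ha))⟩
  have hcb : ((b * c : A) : K) = a⁻¹ := by
    show a₀⁻¹ * (a⁻¹ * a₀) = a⁻¹
    field_simp [hne0 a₀ ha₀]
  exact hM.inv_notMem (b * c) (q.mul_mem_right _ hbq) (by rw [hcb]; exact inv_ne_zero (hne0 a ha))
    (by rwa [hcb, inv_inv])

end Groth.Agent.AGStr.Chev
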