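import Groth.Agent.AGStr.Chev.AffPart
import Groth.Agent.GrpSchLib.DomHom
import Groth.Agent.Triage.SchDense

/-!
Images of smooth connected affine groups; the affine part and quotients.
-/

set_option autoImplicit false
set_option maxHeartbeats 800000

universe u

open CategoryTheory CategoryTheory.Limits AlgebraicGeometry MonoidalCategory CartesianMonoidalCategory MonObj GrpObj

namespace Groth.Agent.AGStr.Chev

/-- The image of a smooth connected affine group is a smooth connected affine closed subgroup. -/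
theorem exists_image_affine {k : Type u} [Field k] {N Q : Over (Spec (CommRingCat.of k))} [GrpObj N] [GrpObj Q]
    [IsAffine N.left] [Smooth N.hom] [ConnectedSpace N.left] [LocallyOfFiniteType Q.hom] [QuasiCompact Q.hom]
    (f : N ⟶ Q) [IsMonHom f] :
    ∃ (S : Over (Spec (CommRingCat.of k))) (_ : GrpObj S) (j : S ⟶ Q) (p : N ⟶ S), IsMonHom j ∧ IsClosedImmersion j.left ∧
      IsMonHom p ∧ Surjective p.left ∧ Flat p.left ∧ p ≫ j = f ∧ Smooth S.hom ∧ ConnectedSpace S.left ∧ IsAffine S.left := by
  haveI : IsSeparated Q.hom := GrpSchLib.AntiAffine.isSeparated_grp Q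
  haveI : QuasiCompact f.left := quasiCompact_left f
  obtain ⟨S, _, j, p, hj, hp, hpj, hjc, hker, hqc, hs⟩ := GrpSchLib.DomHom.exists_schImage f
  haveI := hj; haveI := hp; haveI := hjc; haveI := hqc; haveI := hs
  haveI : IsReduced N.left := GrpSchLib.isReduced_of_smooth_field N.hom
  haveI : IsSchemeTheoreticallyDominant p.left := (isSchemeTheoreticallyDominant_iff _).mpr hker
  haveI : IsReduced S.left := Triage.SchDense.isReduced_of_isReduced p.left inferInstance
  haveI : Flat p.left := GrpSchLib.DomHom.flat p p.left.denseRange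
  haveI : LocallyOfFiniteType S.hom := by rw [← Over.w j]; infer_instance
  haveI : QuasiCompact S.hom := by rw [← Over.w j]; infer_instance
  exact ⟨S, inferInstance, j, p, hj, hjc, hp, hs, inferInstance, hpj, GrpSchLib.smooth_of_quotient p,
    FBaseLib.connectedSpace_of_surjective p.left, GrpSchLib.isAffine_of_quotient p⟩

variable {k : Type u} [Field k] [IsAlgClosed k]

/-- Rational points lift along surjections. -/
theorem point_lift {X Y : Over (Spec (CommRingCat.of k))} [LocallyOfFiniteType X.hom] [LocallyOfFiniteType Y.hom]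
    (f : X ⟶ Y) [Surjective f.left] (y : pts k k ⟶ Y) : ∃ x : pts k k ⟶ X, x ≫ f = y := by
  obtain ⟨x, hx⟩ := point_exists_mem (X := X) (Z := f.left ⁻¹' {y.left (IsLocalRing.closedPoint k)})
    ((point_closed y).preimage f.left.continuous).isLocallyClosed (f.left.surjective _)
  exact ⟨x, point_ext hx⟩

/-- The image of a normal subgroup under a surjection is normal. -/
theorem isNormalHom_image {G N Q S : Over (Spec (CommRingCat.of k))} [GrpObj G] [GrpObj N] [GrpObj Q] [GrpObj S]
    [Smooth G.hom] [Smooth N.hom] [Smooth Q.hom] [Smooth S.hom]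
    (i : N ⟶ G) (hn : AlgGrp.IsNormalHom i) (q : G ⟶ Q) [IsMonHom q] [Surjective q.left]
    (j : S ⟶ Q) [IsMonHom j] [IsClosedImmersion j.left] (p : N ⟶ S) [Surjective p.left] (h : p ≫ j = i ≫ q) :
    AlgGrp.IsNormalHom j := by
  haveI : Smooth (Q ⊗ S).hom := inferInstanceAs (Smooth (pullback.fst Q.hom S.hom ≫ Q.hom))
  haveI : IsReduced (Q ⊗ S).left := GrpSchLib.isReduced_of_smooth_field (Q ⊗ S).hom
  let c : Q ⊗ S ⟶ Q := fst Q S * (snd Q S ≫ j) * (fst Q S)⁻¹
  have hr : Set.range c.left ⊆ Set.range j.left := by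
    haveI : JacobsonSpace (Q ⊗ S).left := LocallyOfFiniteType.jacobsonSpace (Q ⊗ S).hom
    have hc : IsClosed (c.left ⁻¹' Set.range j.left) := j.left.isClosedEmbedding.isClosed_range.preimage c.left.continuous
    intro y hy
    obtain ⟨z, rfl⟩ := hy
    have hsub : closedPoints (Q ⊗ S).left ⊆ c.left ⁻¹' Set.range j.left := by
      intro x hx
      obtain ⟨r, rfl⟩ := point_exists hx
      obtain ⟨g, hg⟩ := point_lift q (r ≫ fst Q S)
      obtain ⟨n, hn'⟩ := point_lift p (r ≫ snd Q S)
      obtain ⟨n', hn''⟩ := hn (pts k k) g n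
      refine ⟨(n' ≫ p).left (IsLocalRing.closedPoint k), ?_⟩
      show ((n' ≫ p).left ≫ j.left) _ = (r.left ≫ c.left) _
      rw [← Over.comp_left, ← Over.comp_left, Category.assoc, h, ← Category.assoc, ← hn'']
      simp only [c, MonObj.comp_mul, GrpObj.comp_inv, ← Category.assoc]
      rw [← hn', ← hg, Category.assoc n p, h, MonObj.mul_comp, MonObj.mul_comp, GrpObj.inv_comp, Category.assoc]
    exact closure_minimal hsub hc (by rw [closure_closedPoints]; trivial)
  obtain ⟨l, hl⟩ := H23.RedSub.exists_lift_closed c.left j.left hr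
  intro T g m
  refine ⟨lift g m ≫ Over.homMk l (by rw [← Over.w j, ← Category.assoc, hl]; exact Over.w c), ?_⟩
  rw [Category.assoc, show Over.homMk l _ ≫ j = c from Over.OverMorphism.ext hl]
  simp [c, MonObj.comp_mul, GrpObj.comp_inv]

/-- A connected affine smooth subgroup of a quotient is trivial in any quotient in which the affine part dies. -/
theorem eq_one_of_affPart {G N T M : Over (Spec (CommRingCat.of k))} [GrpObj G] [GrpObj N] [GrpObj T] [GrpObj M]
    [Smooth G.hom] [QuasiCompact G.hom] [LocallyOfFiniteType T.hom] [QuasiCompact T.hom]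
    (i : N ⟶ G) [IsMonHom i]
    (hmax : ∀ (H : Over (Spec (CommRingCat.of k))) [GrpObj H] (h : H ⟶ G) [IsMonHom h] [IsClosedImmersion h.left]
      [Smooth H.hom] [ConnectedSpace H.left] [IsAffine H.left], AlgGrp.IsNormalHom h → ∃ f : H ⟶ N, f ≫ i = h)
    (t : G ⟶ T) [IsMonHom t] [Surjective t.left] [Flat t.left] (hi : i ≫ t = 1)
    [IsAffine M.left] [Smooth M.hom] [ConnectedSpace M.left] (m : M ⟶ T) [IsMonHom m] : m = 1 := by
  haveI : IsSeparated T.hom := GrpSchLib.AntiAffine.isSeparated_grp T
  haveI : QuasiCompact t.left := quasiCompact_left t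
  haveI : LocallyOfFinitePresentation t.left := by
    haveI : IsLocallyNoetherian T.left := LocallyOfFiniteType.isLocallyNoetherian T.hom
    haveI := locallyOfFiniteType_left t
    infer_instance
  obtain ⟨G₀, _, e, _, heo, hec, hl₀, hq₀, hc₀, -, hen, hs₀, hr⟩ := exists_neutral G
  haveI := heo; haveI := hec; haveI := hl₀; haveI := hq₀; haveI := hc₀
  haveI := hs₀ inferInstance
  obtain ⟨T₀, _, e', _, heo', -, hl', hq', hc', -, -, -, hr'⟩ := exists_neutral T
  haveI := heo'; haveI := hl'; haveI := hq'; haveI := hc'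
  haveI : Mono e' := (Over.forget _).mono_of_mono_map (inferInstanceAs (Mono e'.left))
  have hfac : ∀ {X : Over (Spec (CommRingCat.of k))} [GrpObj X] [ConnectedSpace X.left] (x : X ⟶ T) [IsMonHom x],
      ∃ f : X ⟶ T₀, IsMonHom f ∧ f ≫ e' = x := by
    intro X _ _ x _
    obtain ⟨f, hf⟩ := exists_lift_component e' hr' x
    refine ⟨f, ⟨?_, ?_⟩, hf⟩
    · rw [← cancel_mono e', Category.assoc, hf, IsMonHom.one_hom, IsMonHom.one_hom]
    · rw [← cancel_mono e', Category.assoc, hf, IsMonHom.mul_hom, Category.assoc, IsMonHom.mul_hom,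
        tensorHom_comp_tensorHom_assoc, hf]
  obtain ⟨t₀, _, ht₀⟩ := hfac (e ≫ t)
  haveI : Surjective t₀.left := by
    refine surjective_of_isOpen_range t₀ ?_
    have h1 : IsOpen (Set.range (e ≫ t).left) := by
      rw [Over.comp_left]
      exact ((t.left.isOpenMap.comp e.left.isOpenEmbedding.isOpenMap)).isOpen_range
    have h2 : Set.range t₀.left = e'.left ⁻¹' Set.range (e ≫ t).left := by
      rw [← ht₀, Over.comp_left]
      ext x
      constructor
      · rintro ⟨y, rfl⟩; exact ⟨y, rfl⟩
      · rintro ⟨y, hy⟩; exact ⟨y, e'.left.injective hy⟩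
    rw [h2]
    exact h1.preimage e'.left.continuous
  obtain ⟨L, _, l, Q, _, q, _, hlc, hLa, hLs, hLc, -, _, hqs, hqf, hk, hQp, -, -⟩ := exists_chevalley G₀
  haveI := hlc; haveI := hLa; haveI := hLs; haveI := hLc; haveI := hqs; haveI := hqf; haveI := hQp
  haveI : Mono e := (Over.forget _).mono_of_mono_map (inferInstanceAs (Mono e.left))
  haveI : IsClosedImmersion (l ≫ e).left := inferInstanceAs (IsClosedImmersion (l.left ≫ e.left))
  obtain ⟨P, _, a, _, _, _, _, _, han, hamax⟩ := exists_affPart G
  obtain ⟨b, hb⟩ := hamax L (l ≫ e)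
  obtain ⟨c, hc⟩ := hmax P a han
  have hlt : l ≫ t₀ = toUnit L ≫ η[T₀] := by
    rw [← cancel_mono e', Category.assoc, Category.assoc, IsMonHom.one_hom, ht₀, ← Category.assoc, ← hb, ← hc,
      Category.assoc, Category.assoc, hi, MonObj.comp_one, MonObj.comp_one]
    rfl
  haveI : IsSeparated T₀.hom := GrpSchLib.AntiAffine.isSeparated_grp T₀
  obtain ⟨u, _, hu, -⟩ := S3280.result k G₀ L Q T₀ q l hk t₀ hlt
  haveI : Surjective u.left := by
    haveI : Surjective (q.left ≫ u.left) := by rw [← Over.comp_left, hu]; infer_instance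
    exact Surjective.of_comp q.left u.left
  haveI : IsProper T₀.hom := by
    haveI : UniversallyClosed (u.left ≫ T₀.hom) := by rw [Over.w]; infer_instance
    haveI : UniversallyClosed T₀.hom := UniversallyClosed.of_comp_surjective u.left T₀.hom
    exact ⟨⟩
  obtain ⟨m₀, _, hm₀⟩ := hfac m
  rw [← hm₀, hom_eq_one m₀, MonObj.one_comp]

end Groth.Agent.AGStr.Chev
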