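import Groth.Agent.AGStr.Chev.Divisor
import Mathlib.RingTheory.TensorProduct.MvPolynomial
import Mathlib.RingTheory.Flat.Basic

/-!
The divisorial valuation ring of `K ⊗ K` given by a divisor on the second factor, and the residue
fields of its restrictions to copies of `K`.
-/

set_option autoImplicit false
set_option maxHeartbeats 1000000
set_option synthInstance.maxHeartbeats 100000

universe u

open TensorProduct

namespace Groth.Agent.AGStr.Chev

variable {k : Type u} [Field k] {K : Type u} [Field K] [Algebra k K]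

omit [Algebra k K] in
theorem _root_.ValuationSubring.mem_comap' {L : Type u} [Field L] (W : ValuationSubring L) (φ : K →+* L) (f : K) :
    f ∈ W.comap φ ↔ φ f ∈ W := Iff.rfl

/-- Residues which are independent over a smaller residue field lift to independent elements. -/
theorem trdeg_residue_le {L : Type u} [Field L] (W : ValuationSubring L) (φ : K →+* L)
    (j : IsLocalRing.ResidueField (W.comap φ) →+* IsLocalRing.ResidueField W)
    (j₀ : (W.comap φ) →+* W) (hj₀ : ∀ v, (j₀ v : L) = φ v)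
    (hj : ∀ v, j (IsLocalRing.residue (W.comap φ) v) = IsLocalRing.residue W (j₀ v)) :
    letI := φ.toAlgebra; letI := j.toAlgebra
    Algebra.trdeg (IsLocalRing.ResidueField (W.comap φ)) (IsLocalRing.ResidueField W) ≤ Algebra.trdeg K L := by
  classical
  letI := φ.toAlgebra
  letI := j.toAlgebra
  refine ciSup_le' fun ⟨s, hs⟩ => ?_
  choose x hx using fun i : s => IsLocalRing.residue_surjective (i : IsLocalRing.ResidueField W)
  have hind : AlgebraicIndependent K fun i : s => (x i : L) := by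
    rw [algebraicIndependent_iff]
    intro Q hQ
    by_contra hQ0
    obtain ⟨m₀, hm₀, hmax⟩ := Finset.exists_max_image Q.support (fun m => (W.comap φ).valuation (Q.coeff m))
      (MvPolynomial.support_nonempty.mpr hQ0)
    have hc0 : Q.coeff m₀ ≠ 0 := MvPolynomial.mem_support_iff.mp hm₀
    have hmem : ∀ m, (Q.coeff m₀)⁻¹ * Q.coeff m ∈ W.comap φ := fun m => by
      by_cases hm : m ∈ Q.support
      · rw [← ValuationSubring.valuation_le_one_iff, map_mul, map_inv₀,
          inv_mul_le_one₀ ((Valuation.pos_iff _).mpr hc0)]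
        exact hmax m hm
      · rw [MvPolynomial.notMem_support_iff.mp hm, mul_zero]
        exact (W.comap φ).zero_mem
    let Q' : MvPolynomial s (W.comap φ) := ∑ m ∈ Q.support, MvPolynomial.monomial m ⟨_, hmem m⟩
    have hQ' : MvPolynomial.map (W.comap φ).subtype Q' = MvPolynomial.C (Q.coeff m₀)⁻¹ * Q := by
      refine MvPolynomial.ext _ _ fun m => ?_
      simp only [Q', map_sum, MvPolynomial.map_monomial, MvPolynomial.coeff_sum, MvPolynomial.coeff_monomial,
        MvPolynomial.coeff_C_mul]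
      rw [Finset.sum_ite_eq' Q.support m]
      split_ifs with hm
      · rfl
      · rw [MvPolynomial.notMem_support_iff.mp hm, mul_zero]
    have hvan : MvPolynomial.eval₂ j₀ x Q' = 0 := by
      refine Subtype.ext ?_
      show W.subtype (MvPolynomial.eval₂ j₀ x Q') = 0
      rw [MvPolynomial.eval₂_comp_left, show W.subtype.comp j₀ = φ.comp (W.comap φ).subtype from RingHom.ext hj₀,
        ← MvPolynomial.eval₂_map, hQ', MvPolynomial.eval₂_mul]
      have : MvPolynomial.eval₂ φ (W.subtype ∘ x) Q = 0 := hQ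
      rw [this, mul_zero]
    have hred : MvPolynomial.map (IsLocalRing.residue (W.comap φ)) Q' = 0 := by
      refine hs.eq_zero_of_aeval_eq_zero _ ?_
      show MvPolynomial.eval₂ j _ _ = 0
      rw [MvPolynomial.eval₂_map, show j.comp (IsLocalRing.residue (W.comap φ)) = (IsLocalRing.residue W).comp j₀ from
        RingHom.ext hj, show (Subtype.val : s → IsLocalRing.ResidueField W) = IsLocalRing.residue W ∘ x from
        funext fun i => (hx i).symm]
      refine Eq.trans (MvPolynomial.eval₂_comp_left (IsLocalRing.residue W) j₀ x Q').symm ?_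
      rw [hvan, map_zero]
    have hcoeff : Q'.coeff m₀ = 1 := by
      simp only [Q', MvPolynomial.coeff_sum, MvPolynomial.coeff_monomial]
      rw [Finset.sum_ite_eq' Q.support m₀, if_pos hm₀]
      exact Subtype.ext (inv_mul_cancel₀ hc0)
    have h1 := congrArg (MvPolynomial.coeff m₀) hred
    rw [MvPolynomial.coeff_map, hcoeff, map_one, MvPolynomial.coeff_zero] at h1
    exact one_ne_zero h1
  exact hind.cardinalMk_le_trdeg

theorem cardinal_cancel {n m : ℕ} {a : Cardinal.{u}} (h : (m : Cardinal.{u}) ≤ a + n) : ((m - n : ℕ) : Cardinal.{u}) ≤ a := by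
  rcases lt_or_ge a Cardinal.aleph0 with ha | ha
  · obtain ⟨c, rfl⟩ := Cardinal.lt_aleph0.mp ha
    have : m ≤ c + n := by exact_mod_cast h
    exact_mod_cast (by omega : m - n ≤ c)
  · exact (Cardinal.natCast_lt_aleph0.le).trans ha

theorem trdeg_rel_le {L : Type u} [Field L] [Algebra k L] (φ : K →ₐ[k] L) {n : ℕ} (hn : Algebra.trdeg k K = n)
    (hL : Algebra.trdeg k L = (n + n : ℕ)) :
    letI := φ.toRingHom.toAlgebra; Algebra.trdeg K L ≤ (n : Cardinal) := by
  letI := φ.toRingHom.toAlgebra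
  haveI : IsScalarTower k K L := IsScalarTower.of_algebraMap_eq fun c => (φ.commutes c).symm
  haveI : FaithfulSMul K L := (faithfulSMul_iff_algebraMap_injective K L).mpr φ.injective
  haveI : FaithfulSMul k K := (faithfulSMul_iff_algebraMap_injective k K).mpr (algebraMap k K).injective
  have h := trdeg_add_eq k K (A := L)
  rw [hn, hL] at h
  have hfin : Algebra.trdeg K L < Cardinal.aleph0 :=
    lt_of_le_of_lt (h ▸ le_add_self) Cardinal.natCast_lt_aleph0
  obtain ⟨d, hd⟩ := Cardinal.lt_aleph0.mp hfin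
  rw [hd] at h ⊢
  have : n + d = n + n := by exact_mod_cast h
  exact_mod_cast (by omega : d ≤ n)

theorem exists_twist_aux [IsAlgClosed k] {A : Subalgebra k K} {p : Ideal A} {O : ValuationSubring K} (hM : Model A p O)
    [IsFractionRing A K] {n : ℕ} (hn : Algebra.trdeg k K = n) (Q : Type u) [CommRing Q] [IsDomain Q] [Algebra k Q]
    (mkQ : A →ₐ[k] Q) (hQs : Function.Surjective mkQ) (hQp : ∀ a, mkQ a = 0 ↔ a ∈ p)
    (hQG : ∀ z : K ⊗[k] A, Gen p z → Algebra.TensorProduct.map (AlgHom.id k K) mkQ z ≠ 0)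
    (hp : ((n - 1 : ℕ) : Cardinal) ≤ Algebra.trdeg k Q) :
    ∃ (L : Type u) (_ : Field L) (_ : Algebra k L) (φ₁ φ₂ : K →ₐ[k] L) (W : ValuationSubring L),
      (∀ c : k, algebraMap k L c ∈ W) ∧ (∀ f, φ₁ f ∈ W) ∧ (∀ f, φ₂ f ∈ W ↔ f ∈ O) ∧
      (∀ τ : K ≃ₐ[k] K, ∃ ψ : L →ₐ[k] L, ψ.comp φ₁ = φ₁.comp τ.toAlgHom ∧ ψ.comp φ₂ = φ₂ ∧ ∀ z ∈ W, ψ z ∈ W) ∧
      Function.Injective (Algebra.TensorProduct.lift φ₁ φ₂ fun _ _ => Commute.all _ _ : K ⊗[k] K →ₐ[k] L) ∧
      ∀ φ : K →ₐ[k] L, ResGe k (W.comap φ.toRingHom) (n - 1) := by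
  classical
  haveI := hM.prime
  haveI : Algebra.FiniteType k A := (Subalgebra.fg_iff_finiteType _).mp hM.fg
  obtain ⟨π, hπp, hπ0, hπ⟩ := hM.uniformizer
  let T := K ⊗[k] A
  haveI : IsDomain T := GrpSchLib.isDomain_tensor_of_isAlgClosed
  haveI : IsDomain (K ⊗[k] Q) := GrpSchLib.isDomain_tensor_of_isAlgClosed
  let q : T →ₐ[k] K ⊗[k] Q := Algebra.TensorProduct.map (AlgHom.id k K) mkQ
  let L := FractionRing T
  let ι : T →ₐ[k] L := IsScalarTower.toAlgHom k T L
  have hι : Function.Injective ι := IsFractionRing.injective T L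
  let W₀ : Subring L :=
    { carrier := {z | ∃ c h : T, q h ≠ 0 ∧ z * ι h = ι c}
      mul_mem' := by
        rintro f f' ⟨a, b, hb, h⟩ ⟨a', b', hb', h'⟩
        exact ⟨a * a', b * b', by rw [map_mul]; exact mul_ne_zero hb hb', by rw [map_mul, map_mul, ← h, ← h']; ring⟩
      one_mem' := ⟨1, 1, by rw [map_one]; exact one_ne_zero, by simp⟩
      add_mem' := by
        rintro f f' ⟨a, b, hb, h⟩ ⟨a', b', hb', h'⟩
        exact ⟨a * b' + a' * b, b * b', by rw [map_mul]; exact mul_ne_zero hb hb',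
          by simp only [map_mul, map_add]; rw [← h, ← h']; ring⟩
      zero_mem' := ⟨0, 1, by rw [map_one]; exact one_ne_zero, by simp⟩
      neg_mem' := by
        rintro f ⟨a, b, hb, h⟩
        exact ⟨-a, b, hb, by rw [map_neg, ← h]; ring⟩ }
  have hqd : ∀ {d : A}, d ∉ p → q ((1 : K) ⊗ₜ[k] d) ≠ 0 := by
    intro d hd h
    have h1 : (1 : K) ⊗ₜ[k] (mkQ d) = (0 : K ⊗[k] Q) := (Algebra.TensorProduct.map_tmul (AlgHom.id k K) mkQ 1 d).symm.trans h
    rw [← Algebra.TensorProduct.includeRight_apply] at h1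
    exact hd ((hQp d).mp
      (Algebra.TensorProduct.includeRight_injective (algebraMap k K).injective (h1.trans (map_zero _).symm)))
  let W : ValuationSubring L := ValuationSubring.ofSubring W₀ fun f => by
    obtain ⟨a, b, hb, rfl⟩ := IsFractionRing.div_surjective T f
    show (ι a / ι b) ∈ W₀ ∨ (ι a / ι b)⁻¹ ∈ W₀
    by_cases ha : a = 0
    · left; rw [ha, map_zero, zero_div]; exact W₀.zero_mem
    obtain ⟨r, d, a', hd, ha', e⟩ := normalForm hM hπ ha
    replace ha' := hQG _ ha'
    obtain ⟨s, d', b', hd', hb', e'⟩ := normalForm hM hπ (nonZeroDivisors.ne_zero hb)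
    replace hb' := hQG _ hb'
    have haL : ι a ≠ 0 := (map_ne_zero_iff _ hι).mpr ha
    have hbL : ι b ≠ 0 := (map_ne_zero_iff _ hι).mpr (nonZeroDivisors.ne_zero hb)
    have eL := congrArg ι e
    have eL' := congrArg ι e'
    rw [map_mul, map_mul] at eL eL'
    have hpow : ∀ i j : ℕ, (1 : K) ⊗ₜ[k] (π ^ (i + j)) = ((1 : K) ⊗ₜ[k] (π ^ i)) * ((1 : K) ⊗ₜ[k] (π ^ j)) := fun i j => by
      rw [Algebra.TensorProduct.tmul_mul_tmul, one_mul, pow_add]
    rcases le_total s r with h | h
    · left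
      refine ⟨((1 : K) ⊗ₜ[k] (π ^ (r - s))) * a' * ((1 : K) ⊗ₜ[k] d'), ((1 : K) ⊗ₜ[k] d) * b',
        by rw [map_mul]; exact mul_ne_zero (hqd hd) hb', ?_⟩
      have e3 : ι ((1 : K) ⊗ₜ[k] (π ^ r)) = ι ((1 : K) ⊗ₜ[k] (π ^ (r - s))) * ι ((1 : K) ⊗ₜ[k] (π ^ s)) := by
        rw [← map_mul, ← hpow, Nat.sub_add_cancel h]
      simp only [map_mul]
      rw [div_mul_eq_mul_div, div_eq_iff hbL]
      linear_combination (ι b') * eL - (ι ((1 : K) ⊗ₜ[k] (π ^ (r - s))) * ι a') * eL' + (ι a' * ι b') * e3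
    · right
      refine ⟨((1 : K) ⊗ₜ[k] (π ^ (s - r))) * b' * ((1 : K) ⊗ₜ[k] d), ((1 : K) ⊗ₜ[k] d') * a',
        by rw [map_mul]; exact mul_ne_zero (hqd hd') ha', ?_⟩
      have e3 : ι ((1 : K) ⊗ₜ[k] (π ^ s)) = ι ((1 : K) ⊗ₜ[k] (π ^ (s - r))) * ι ((1 : K) ⊗ₜ[k] (π ^ r)) := by
        rw [← map_mul, ← hpow, Nat.sub_add_cancel h]
      simp only [map_mul]
      rw [inv_div, div_mul_eq_mul_div, div_eq_iff haL]
      linear_combination (ι a') * eL' - (ι ((1 : K) ⊗ₜ[k] (π ^ (s - r))) * ι b') * eL + (ι a' * ι b') * e3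
  have hW : ∀ z, z ∈ W ↔ ∃ c h : T, q h ≠ 0 ∧ z * ι h = ι c := fun z => Iff.rfl
  have hTW : ∀ t : T, ι t ∈ W := fun t => (hW _).mpr ⟨t, 1, by rw [map_one]; exact one_ne_zero, by simp⟩
  let φ₁ : K →ₐ[k] L := ι.comp Algebra.TensorProduct.includeLeft
  have hAinj : Function.Injective (ι.comp (Algebra.TensorProduct.includeRight : A →ₐ[k] T)) :=
    hι.comp (Algebra.TensorProduct.includeRight_injective (algebraMap k K).injective)
  let φ₂ : K →ₐ[k] L := IsFractionRing.liftAlgHom hAinj
  have hφ₂ : ∀ a : A, φ₂ (a : K) = ι ((1 : K) ⊗ₜ[k] a) := fun a => IsFractionRing.lift_algebraMap hAinj a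
  have hk : ∀ c : k, algebraMap k L c ∈ W := fun c => ι.commutes c ▸ hTW _
  refine ⟨L, inferInstance, inferInstance, φ₁, φ₂, W, hk, fun f => hTW _, fun f => ⟨fun hf => ?_, fun hf => ?_⟩,
    fun τ => ?_, ?_, fun φ => ?_⟩
  · by_contra hfO
    obtain ⟨a, d, hd, e⟩ := hM.frac _ ((O.mem_or_inv_mem f).resolve_left hfO)
    have hf0 : f ≠ 0 := fun h => hfO (h ▸ O.zero_mem)
    have e' : f * (a : K) = d := by rw [← e, mul_inv_cancel_left₀ hf0]
    have ha : a ∈ p := by
      by_contra ha
      refine hfO ?_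
      have ha0 : (a : K) ≠ 0 := fun h => ha (Subtype.ext h (a2 := (0 : A)) ▸ p.zero_mem)
      rw [(eq_mul_inv_iff_mul_eq₀ ha0).mpr e']
      exact mul_mem (hM.le d) (hM.inv_mem _ ha)
    obtain ⟨c, h, hh, ec⟩ := (hW _).mp hf
    have e2 : φ₂ f * φ₂ (a : K) = φ₂ (d : K) := by rw [← map_mul, e']
    rw [hφ₂, hφ₂] at e2
    have e3 : c * ((1 : K) ⊗ₜ[k] a) = ((1 : K) ⊗ₜ[k] d) * h := hι (by
      rw [map_mul, map_mul, ← ec, ← e2]; ring)
    have e4 := congrArg q e3
    rw [map_mul, map_mul, show q ((1 : K) ⊗ₜ[k] a) = 0 from (Algebra.TensorProduct.map_tmul (AlgHom.id k K) mkQ 1 a).trans (by rw [(hQp a).mpr ha, TensorProduct.tmul_zero]), mul_zero] at e4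
    exact mul_ne_zero (hqd hd) hh e4.symm
  · obtain ⟨num, den, hden, e⟩ := hM.frac f hf
    exact (hW _).mpr ⟨(1 : K) ⊗ₜ[k] num, (1 : K) ⊗ₜ[k] den, hqd hden, by rw [← hφ₂, ← hφ₂, ← map_mul, e]⟩
  · let ψT : T →ₐ[k] T := Algebra.TensorProduct.map τ.toAlgHom (AlgHom.id k A)
    let ψQ : K ⊗[k] Q →ₐ[k] K ⊗[k] Q := Algebra.TensorProduct.map τ.toAlgHom (AlgHom.id k _)
    have hψQ : Function.Injective ψQ :=
      Module.Flat.rTensor_preserves_injective_linearMap τ.toAlgHom.toLinearMap τ.injective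
    have hψT : Function.Injective ψT :=
      Module.Flat.rTensor_preserves_injective_linearMap τ.toAlgHom.toLinearMap τ.injective
    have hcomm' : q.comp ψT = ψQ.comp q := Algebra.TensorProduct.ext' fun a b => rfl
    have hcomm : ∀ z, q (ψT z) = ψQ (q z) := fun z => AlgHom.congr_fun hcomm' z
    let ψ : L →ₐ[k] L := IsFractionRing.liftAlgHom (g := ι.comp ψT) (hι.comp hψT)
    have hψ : ∀ t, ψ (ι t) = ι (ψT t) := fun t => IsFractionRing.lift_algebraMap (g := (ι.comp ψT).toRingHom) (hι.comp hψT) t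
    refine ⟨ψ, AlgHom.ext fun f => ?_, IsLocalization.algHom_ext (nonZeroDivisors A) (AlgHom.ext fun a => ?_), ?_⟩
    · show ψ (ι (f ⊗ₜ[k] (1 : A))) = ι (τ f ⊗ₜ[k] (1 : A))
      rw [hψ]
      rfl
    · show ψ (φ₂ (a : K)) = φ₂ (a : K)
      rw [hφ₂, hψ]
      exact congrArg ι ((Algebra.TensorProduct.map_tmul τ.toAlgHom (AlgHom.id k A) 1 a).trans (by rw [map_one]; rfl))
    · intro z hz
      obtain ⟨c, h, hh, e⟩ := (hW _).mp hz
      refine (hW _).mpr ⟨ψT c, ψT h, by rw [hcomm]; exact (map_ne_zero_iff _ hψQ).mpr hh, ?_⟩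
      rw [← hψ, ← hψ, ← map_mul, e]
  · refine (injective_iff_map_eq_zero _).mpr fun z hz => ?_
    let jA : T →ₐ[k] K ⊗[k] K := Algebra.TensorProduct.map (AlgHom.id k K) A.val
    obtain ⟨d, hd, t, ht⟩ : ∃ d : A, (d : K) ≠ 0 ∧ ∃ t : T, ((1 : K) ⊗ₜ[k] (d : K)) * z = jA t := by
      clear hz
      induction z with
      | zero => exact ⟨1, by simp, 0, by simp⟩
      | tmul a b =>
        obtain ⟨x, y, hy, rfl⟩ := IsFractionRing.div_surjective A b
        have hy0 : (y : K) ≠ 0 := fun h => nonZeroDivisors.ne_zero hy (Subtype.ext h)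
        refine ⟨y, hy0, a ⊗ₜ x, ?_⟩
        show ((1 : K) ⊗ₜ[k] (y : K)) * (a ⊗ₜ[k] ((x : K) / (y : K))) = a ⊗ₜ[k] (x : K)
        rw [Algebra.TensorProduct.tmul_mul_tmul, one_mul, mul_div_cancel₀ _ hy0]
      | add a b ha hb =>
        obtain ⟨d, hd, t, ht⟩ := ha
        obtain ⟨d', hd', t', ht'⟩ := hb
        refine ⟨d * d', by simp [hd, hd'], ((1 : K) ⊗ₜ[k] d') * t + ((1 : K) ⊗ₜ[k] d) * t', ?_⟩
        rw [map_add, map_mul, map_mul, ← ht, ← ht']
        rw [show jA ((1 : K) ⊗ₜ[k] d') = (1 : K) ⊗ₜ[k] (d' : K) from rfl,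
          show jA ((1 : K) ⊗ₜ[k] d) = (1 : K) ⊗ₜ[k] (d : K) from rfl, Subalgebra.coe_mul]
        rw [mul_add, ← mul_assoc, ← mul_assoc, Algebra.TensorProduct.tmul_mul_tmul, Algebra.TensorProduct.tmul_mul_tmul,
          one_mul, mul_comm (d' : K) (d : K)]
    have hlj : (Algebra.TensorProduct.lift φ₁ φ₂ fun _ _ => Commute.all _ _).comp jA = ι := by
      refine Algebra.TensorProduct.ext' fun a b => ?_
      show (Algebra.TensorProduct.lift φ₁ φ₂ fun _ _ => Commute.all _ _) (a ⊗ₜ (b : K)) = _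
      rw [Algebra.TensorProduct.lift_tmul, hφ₂]
      show ι (a ⊗ₜ[k] (1 : A)) * _ = _
      rw [← map_mul, Algebra.TensorProduct.tmul_mul_tmul, mul_one, one_mul]
    have h0 : t = 0 := hι (by rw [← hlj, AlgHom.comp_apply, ← ht, map_mul, hz, mul_zero, map_zero])
    rw [h0, map_zero] at ht
    haveI : IsDomain (K ⊗[k] K) := GrpSchLib.isDomain_tensor_of_isAlgClosed
    refine (mul_eq_zero.mp ht).resolve_left fun e => hd ?_
    rw [← Algebra.TensorProduct.includeRight_apply] at e
    exact Algebra.TensorProduct.includeRight_injective (algebraMap k K).injective (e.trans (map_zero _).symm)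
  · let V : ValuationSubring K := W.comap φ.toRingHom
    have hkV : ∀ c : k, algebraMap k K c ∈ V := fun c => by
      rw [ValuationSubring.mem_comap']; exact φ.commutes c ▸ hk c
    letI algV : Algebra k V := ((algebraMap k K).codRestrict V.toSubring hkV).toAlgebra
    letI algW : Algebra k W := ((algebraMap k L).codRestrict W.toSubring hk).toAlgebra
    let j₀ : V →+* W := (φ.toRingHom.comp V.subtype).codRestrict W.toSubring fun v => v.2
    haveI : IsLocalHom j₀ := ⟨fun v hv => by
      obtain ⟨w, hw⟩ := isUnit_iff_exists_inv.mp hv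
      have hw' : φ (v : K) * (w : L) = 1 := congrArg Subtype.val hw
      have hv0 : (v : K) ≠ 0 := fun e => by simp [e] at hw'
      have hinv : φ ((v : K)⁻¹) ∈ W := by
        rw [map_inv₀, ← eq_inv_of_mul_eq_one_right hw']; exact w.2
      exact IsUnit.of_mul_eq_one ⟨(v : K)⁻¹, hinv⟩ (Subtype.ext (mul_inv_cancel₀ hv0))⟩
    let j : IsLocalRing.ResidueField V →+* IsLocalRing.ResidueField W := IsLocalRing.ResidueField.map j₀
    have hj : ∀ v, j (IsLocalRing.residue V v) = IsLocalRing.residue W (j₀ v) := fun v => rfl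
    letI algj := j.toAlgebra
    haveI : IsScalarTower k (IsLocalRing.ResidueField V) (IsLocalRing.ResidueField W) :=
      IsScalarTower.of_algebraMap_eq fun c => by
        show IsLocalRing.residue W _ = j (IsLocalRing.residue V _)
        rw [hj]
        exact congrArg _ (Subtype.ext (φ.commutes c).symm)
    -- the big residue field
    obtain ⟨s, hs⟩ := exists_isTranscendenceBasis k K
    obtain ⟨r, hr⟩ : ∃ r : Fin (n - 1) → A, AlgebraicIndependent k fun i => mkQ (r i) := by
      haveI : FaithfulSMul k Q := (faithfulSMul_iff_algebraMap_injective k Q).mpr (algebraMap k Q).injective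
      obtain ⟨t, ht⟩ := exists_isTranscendenceBasis k Q
      have hle : ((n - 1 : ℕ) : Cardinal) ≤ Cardinal.mk t := ht.cardinalMk_eq_trdeg ▸ hp
      obtain ⟨e⟩ : Nonempty (Fin (n - 1) ↪ t) := Cardinal.lift_mk_le'.mp (by simpa using hle)
      choose r hr using fun i => hQs (e i : Q)
      refine ⟨r, ?_⟩
      rw [show (fun i => mkQ (r i)) = (fun x : t => (x : Q)) ∘ e from funext hr]
      exact ht.1.comp _ e.injective
    have hrK : AlgebraicIndependent K fun i => ((1 : K) ⊗ₜ[k] mkQ (r i) : K ⊗[k] Q) := by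
      let f : MvPolynomial (Fin (n - 1)) k →ₐ[k] Q := MvPolynomial.aeval fun i => mkQ (r i)
      let Φ : K ⊗[k] MvPolynomial (Fin (n - 1)) k →ₐ[K] K ⊗[k] Q := Algebra.TensorProduct.map (AlgHom.id K K) f
      have hΦ : Function.Injective Φ := Module.Flat.lTensor_preserves_injective_linearMap f.toLinearMap hr
      have he : MvPolynomial.aeval (fun i => ((1 : K) ⊗ₜ[k] mkQ (r i) : K ⊗[k] Q)) =
          Φ.comp (MvPolynomial.algebraTensorAlgEquiv k K).symm.toAlgHom := MvPolynomial.algHom_ext fun i => by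
        simp [Φ, f]
      rw [algebraicIndependent_iff_injective_aeval, he]
      exact hΦ.comp (MvPolynomial.algebraTensorAlgEquiv k K).symm.injective
    let fam : Fin (n - 1) ⊕ s → T :=
      Sum.elim (fun i => (1 : K) ⊗ₜ[k] r i) (fun i => (i : K) ⊗ₜ[k] (1 : A))
    have hfam : AlgebraicIndependent k fun i => q (fam i) := by
      have h := AlgebraicIndependent.sumElim_comp (R := k) (S := K) hs.1 hrK
      convert h using 1
      funext i
      rcases i with i | i
      · rfl
      · show q ((i : K) ⊗ₜ[k] (1 : A)) = _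
        refine (Algebra.TensorProduct.map_tmul (AlgHom.id k K) mkQ (i : K) 1).trans ?_
        rw [map_one]
        simp [Algebra.TensorProduct.algebraMap_apply]
    have hbig : ((n - 1 + n : ℕ) : Cardinal) ≤ Algebra.trdeg k (IsLocalRing.ResidueField W) := by
      let jT : T →ₐ[k] W :=
        { ι.toRingHom.codRestrict W.toSubring hTW with commutes' := fun c => Subtype.ext (ι.commutes c) }
      let Φ : T →ₐ[k] IsLocalRing.ResidueField W := (IsScalarTower.toAlgHom k W (IsLocalRing.ResidueField W)).comp jT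
      have hΦ : AlgebraicIndependent k (Φ ∘ fam) := by
        rw [algebraicIndependent_iff]
        intro P hP
        by_contra hP0
        let z : T := MvPolynomial.aeval fam P
        have hz : q z ≠ 0 := fun h => hP0 (hfam.eq_zero_of_aeval_eq_zero P ((MvPolynomial.comp_aeval_apply fam q P).symm.trans h))
        have hzu : IsUnit (jT z) := by
          have hz0 : ι z ≠ 0 := (map_ne_zero_iff _ hι).mpr fun e => hz (by rw [e, map_zero])
          refine IsUnit.of_mul_eq_one ⟨(ι z)⁻¹, (hW _).mpr ⟨1, z, hz, by rw [map_one, inv_mul_cancel₀ hz0]⟩⟩ ?_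
          exact Subtype.ext (mul_inv_cancel₀ hz0)
        refine (hzu.map (IsScalarTower.toAlgHom k W (IsLocalRing.ResidueField W))).ne_zero ?_
        exact (MvPolynomial.comp_aeval_apply fam Φ P).trans hP
      have h := hΦ.lift_cardinalMk_le_trdeg
      rw [Cardinal.lift_id', Cardinal.lift_id] at h
      refine le_trans ?_ h
      rw [Cardinal.mk_sum, hs.cardinalMk_eq_trdeg, hn]
      simp
    -- transcendence degrees
    have hL : Algebra.trdeg k L = (n + n : ℕ) := by
      obtain ⟨N, g, hginj, hgint⟩ := exists_integral_inj_algHom_of_fg k A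
      haveI : FaithfulSMul k A := (faithfulSMul_iff_algebraMap_injective k A).mpr (algebraMap k A).injective
      have hN : N = n := by
        letI := g.toRingHom.toAlgebra
        haveI : IsScalarTower k (MvPolynomial (Fin N) k) A := IsScalarTower.of_algebraMap_eq fun c => (g.commutes c).symm
        haveI : FaithfulSMul (MvPolynomial (Fin N) k) A := (faithfulSMul_iff_algebraMap_injective _ _).mpr hginj
        haveI : Algebra.IsIntegral (MvPolynomial (Fin N) k) A := ⟨hgint⟩
        have h := lift_trdeg_add_eq k (MvPolynomial (Fin N) k) A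
        rw [MvPolynomial.trdeg_of_isDomain, trdeg_eq_zero (R := MvPolynomial (Fin N) k), Cardinal.lift_zero, add_zero,
          trdeg_eq A hn] at h
        simpa using h
      let Ψ : K ⊗[k] MvPolynomial (Fin N) k →ₐ[K] T := Algebra.TensorProduct.map (AlgHom.id K K) g
      let Ψ' : MvPolynomial (Fin N) K →ₐ[K] T := Ψ.comp (MvPolynomial.algebraTensorAlgEquiv k K).symm.toAlgHom
      letI := Ψ'.toRingHom.toAlgebra
      haveI : IsScalarTower K (MvPolynomial (Fin N) K) T := IsScalarTower.of_algebraMap_eq fun c => (Ψ'.commutes c).symm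
      haveI : FaithfulSMul (MvPolynomial (Fin N) K) T := (faithfulSMul_iff_algebraMap_injective _ _).mpr
        ((Module.Flat.lTensor_preserves_injective_linearMap g.toLinearMap hginj).comp
          (MvPolynomial.algebraTensorAlgEquiv k K).symm.injective)
      haveI : Algebra.IsIntegral (MvPolynomial (Fin N) K) T := ⟨fun t => by
        refine TensorProduct.induction_on t isIntegral_zero (fun a b => ?_) (fun a b ha hb => ha.add hb)
        have h1 : IsIntegral (MvPolynomial (Fin N) K) ((1 : K) ⊗ₜ[k] b : T) := by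
          obtain ⟨P, hP, hPb⟩ := hgint b
          refine ⟨P.map (MvPolynomial.map (algebraMap k K)), hP.map _, ?_⟩
          rw [Polynomial.eval₂_map]
          have e : (algebraMap (MvPolynomial (Fin N) K) T).comp (MvPolynomial.map (algebraMap k K)) =
              (Algebra.TensorProduct.includeRight : A →ₐ[k] T).toRingHom.comp g.toRingHom := by
            refine RingHom.ext fun x => ?_
            show Ψ ((MvPolynomial.algebraTensorAlgEquiv k K).symm (MvPolynomial.map (algebraMap k K) x)) = _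
            rw [MvPolynomial.algebraTensorAlgEquiv_symm_map]
            rfl
          rw [e]
          have h2 := congrArg (Algebra.TensorProduct.includeRight : A →ₐ[k] T).toRingHom hPb
          rw [Polynomial.hom_eval₂, map_zero] at h2
          exact h2
        have h2 : (a ⊗ₜ[k] b : T) = algebraMap (MvPolynomial (Fin N) K) T (MvPolynomial.C a) * ((1 : K) ⊗ₜ[k] b) := by
          rw [← MvPolynomial.algebraMap_eq, ← IsScalarTower.algebraMap_apply]
          show (a ⊗ₜ[k] b : K ⊗[k] A) = (a ⊗ₜ[k] (1 : A)) * ((1 : K) ⊗ₜ[k] b)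
          rw [Algebra.TensorProduct.tmul_mul_tmul, mul_one, one_mul]
        rw [h2]
        exact isIntegral_algebraMap.mul h1⟩
      haveI : FaithfulSMul K T := (faithfulSMul_iff_algebraMap_injective K T).mpr (algebraMap K T).injective
      have hT : Algebra.trdeg K T = (n : Cardinal) := by
        have h := lift_trdeg_add_eq K (MvPolynomial (Fin N) K) T
        rw [MvPolynomial.trdeg_of_isDomain, trdeg_eq_zero (R := MvPolynomial (Fin N) K), Cardinal.lift_zero, add_zero] at h
        simpa [hN] using h.symm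
      haveI : Algebra.IsAlgebraic T L := IsLocalization.isAlgebraic L (nonZeroDivisors T)
      haveI : FaithfulSMul T L := (faithfulSMul_iff_algebraMap_injective T L).mpr hι
      have hKL : Algebra.trdeg K L = (n : Cardinal) := by
        have h := trdeg_add_eq K T (A := L)
        rw [trdeg_eq_zero (R := T) (A := L), add_zero, hT] at h
        exact h.symm
      haveI : FaithfulSMul K L := (faithfulSMul_iff_algebraMap_injective K L).mpr (algebraMap K L).injective
      haveI : FaithfulSMul k K := (faithfulSMul_iff_algebraMap_injective k K).mpr (algebraMap k K).injective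
      have h := trdeg_add_eq k K (A := L)
      rw [hKL, hn] at h
      rw [← h]
      simp
    have hrel := trdeg_rel_le φ hn hL
    have hsmall := trdeg_residue_le W φ.toRingHom j j₀ (fun v => rfl) hj
    haveI : FaithfulSMul (IsLocalRing.ResidueField V) (IsLocalRing.ResidueField W) :=
      (faithfulSMul_iff_algebraMap_injective _ _).mpr j.injective
    haveI : FaithfulSMul k (IsLocalRing.ResidueField V) :=
      (faithfulSMul_iff_algebraMap_injective _ _).mpr (algebraMap k _).injective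
    have htower := trdeg_add_eq k (IsLocalRing.ResidueField V) (A := IsLocalRing.ResidueField W)
    have hV : ((n - 1 : ℕ) : Cardinal) ≤ Algebra.trdeg k (IsLocalRing.ResidueField V) := by
      have := cardinal_cancel (n := n) ((hbig.trans htower.ge).trans (add_le_add le_rfl (hsmall.trans hrel)))
      rwa [Nat.add_sub_cancel] at this
    obtain ⟨t, ht⟩ := exists_isTranscendenceBasis k (IsLocalRing.ResidueField V)
    rw [← ht.cardinalMk_eq_trdeg] at hV
    obtain ⟨e⟩ : Nonempty (Fin (n - 1) ↪ t) := Cardinal.lift_mk_le'.mp (by simpa using hV)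
    choose v hv using fun i => IsLocalRing.residue_surjective (e i : IsLocalRing.ResidueField V)
    refine ⟨fun i => (v i : K), fun i => (v i).2, fun P hP => ?_⟩
    let jVK : V →ₐ[k] K := { V.subtype with commutes' := fun c => rfl }
    have h1 : MvPolynomial.aeval (fun i => (v i : K)) P = ((MvPolynomial.aeval v P : V) : K) :=
      (MvPolynomial.comp_aeval_apply v jVK P).symm
    have hu : IsUnit (MvPolynomial.aeval v P : V) := by
      by_contra hnu
      refine hP ((ht.1.comp _ e.injective).eq_zero_of_aeval_eq_zero P ?_)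
      have h2 : IsScalarTower.toAlgHom k V (IsLocalRing.ResidueField V) (MvPolynomial.aeval v P) = 0 :=
        (IsLocalRing.residue_eq_zero_iff _).mpr hnu
      refine Eq.trans ?_ h2
      refine Eq.trans ?_ (MvPolynomial.comp_aeval_apply v (IsScalarTower.toAlgHom k V (IsLocalRing.ResidueField V)) P).symm
      congr 2
      funext i
      exact (hv i).symm
    obtain ⟨w, hw⟩ := isUnit_iff_exists_inv.mp hu
    have hw' : ((MvPolynomial.aeval v P : V) : K) * (w : K) = 1 := congrArg Subtype.val hw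
    rw [h1]
    exact ⟨left_ne_zero_of_mul (hw' ▸ one_ne_zero), eq_inv_of_mul_eq_one_right hw' ▸ w.2⟩

/-- The twisted valuation ring. -/
theorem exists_twist [IsAlgClosed k] {A : Subalgebra k K} {p : Ideal A} {O : ValuationSubring K} (hM : Model A p O)
    [IsFractionRing A K] {n : ℕ} (hn : Algebra.trdeg k K = n)
    (hp : ((n - 1 : ℕ) : Cardinal) ≤ Algebra.trdeg k (A ⧸ p)) :
    ∃ (L : Type u) (_ : Field L) (_ : Algebra k L) (φ₁ φ₂ : K →ₐ[k] L) (W : ValuationSubring L),
      (∀ c : k, algebraMap k L c ∈ W) ∧ (∀ f, φ₁ f ∈ W) ∧ (∀ f, φ₂ f ∈ W ↔ f ∈ O) ∧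
      (∀ τ : K ≃ₐ[k] K, ∃ ψ : L →ₐ[k] L, ψ.comp φ₁ = φ₁.comp τ.toAlgHom ∧ ψ.comp φ₂ = φ₂ ∧ ∀ z ∈ W, ψ z ∈ W) ∧
      Function.Injective (Algebra.TensorProduct.lift φ₁ φ₂ fun _ _ => Commute.all _ _ : K ⊗[k] K →ₐ[k] L) ∧
      ∀ φ : K →ₐ[k] L, ResGe k (W.comap φ.toRingHom) (n - 1) :=
  haveI := hM.prime
  exists_twist_aux hM hn (A ⧸ p) (Ideal.Quotient.mkₐ k p) (Ideal.Quotient.mkₐ_surjective k p)
    (fun _ => Ideal.Quotient.eq_zero_iff_mem) (fun _ h => h) hp

end Groth.Agent.AGStr.Chev
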