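import Groth.Agent.AGStr.Chev.Points
import Groth.Agent.AGStr.Chev.Twist
import Groth.Agent.MorLib.DenseValuative

/-!
A nonproper connected algebraic group has a divisorial valuation of its function field invariant
under all translations.
-/

set_option autoImplicit false
set_option maxHeartbeats 1000000

universe u

open CategoryTheory AlgebraicGeometry MonoidalCategory CartesianMonoidalCategory MonObj GrpObj TensorProduct

namespace Groth.Agent.AGStr.Chev

variable {k : Type u} [Field k] {G : Over (Spec (CommRingCat.of k))}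
  {B : Type u} [CommRing B] [IsDomain B] [Algebra k B] (j : pts k B ⟶ G) [IsOpenImmersion j.left]
  {K : Type u} [Field K] [Algebra k K] [Algebra B K] [IsScalarTower k B K] [IsFractionRing B K]

/-- A valuation subring containing the scalars, as a subalgebra. -/
def valAlg (O : ValuationSubring K) (hk : ∀ c : k, algebraMap k K c ∈ O) : Subalgebra k K :=
  { O.toSubring with algebraMap_mem' := hk }

/-- The valuation ring has no centre on `G`: some chart coordinate leaves it. -/
def NoCentre (O : ValuationSubring K) : Prop :=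
  ∀ (C : Type u) [CommRing C] [Algebra k C] (i : pts k C ⟶ G) [IsOpenImmersion i.left] (f : C →ₐ[k] K),
    pm f ≫ i = eta j K → ∃ c, f c ∉ O

/-- If `G` is not proper, some valuation ring of its function field has no centre. -/
theorem exists_valuation_noCentre [IrreducibleSpace G.left] [IsSeparated G.hom] [LocallyOfFiniteType G.hom]
    [QuasiCompact G.hom] (hG : ¬ IsProper G.hom) :
    ∃ O : ValuationSubring K, (∀ c : k, algebraMap k K c ∈ O) ∧ NoCentre j O := by
  classical
  have hE : ¬ ValuativeCriterion.Existence G.hom := fun hE => hG (by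
    haveI : UniversallyClosed G.hom := UniversallyClosed.of_valuativeCriterion G.hom hE
    exact IsProper.mk)
  let U : Scheme.{u} := Spec (CommRingCat.of K)
  let h : U ⟶ G.left := (eta j K).left
  haveI : QuasiCompact (pts k K).hom := inferInstanceAs (QuasiCompact (Spec.map _))
  haveI : QuasiCompact h := by
    haveI : QuasiCompact (h ≫ G.hom) := by
      rw [show h ≫ G.hom = (pts k K).hom from Over.w _]
      infer_instance
    exact QuasiCompact.of_comp h G.hom
  have hd : DenseRange h := by
    refine Dense.mono (s₁ := {genericPoint G.left}) ?_ (dense_iff_closure_eq.mpr (genericPoint_spec G.left))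
    rintro _ rfl
    exact ⟨_, eta_apply j⟩
  have hU : MorLib.DenseValuative.UniqueLifts G.hom h := by
    intro u V l₁ l₂ h1 h2 h3
    haveI : IsSeparated G.hom := inferInstance
    obtain ⟨_, hu⟩ : ∃ _ : Unit, ValuativeCriterion.Uniqueness G.hom := ⟨(), IsSeparated.valuativeCriterion G.hom⟩
    let sq : ValuativeCommSq G.hom :=
      { R := V, K := U.residueField u, i₁ := U.fromSpecResidueField u ≫ h, i₂ := l₁ ≫ G.hom
        commSq := ⟨by rw [← h2, Category.assoc]; rfl⟩ }
    haveI := hu sq
    exact congrArg CommSq.LiftStruct.l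
      (Subsingleton.elim (⟨l₁, h2, rfl⟩ : sq.commSq.LiftStruct) ⟨l₂, h3, h1.symm⟩)
  by_contra hno
  refine hE (MorLib.DenseValuative.existence_of_dense G.hom h hd ?_ hU)
  intro u V y hy
  -- the residue field of the point is `K`
  let res : U.residueField u ⟶ CommRingCat.of K :=
    (U.residueFieldCongr (Subsingleton.elim (α := PrimeSpectrum K) u
      ((𝟙 (Spec (CommRingCat.of K)) : Spec (CommRingCat.of K) ⟶ Spec (CommRingCat.of K)) (IsLocalRing.closedPoint K)))).hom ≫
      Scheme.descResidueField (Scheme.stalkClosedPointTo (𝟙 (Spec (CommRingCat.of K))))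
  have hres : Spec.map res ≫ U.fromSpecResidueField u = 𝟙 U := by
    rw [Spec.map_comp, Category.assoc, Scheme.residueFieldCongr_fromSpecResidueField]
    exact Scheme.descResidueField_stalkClosedPointTo_fromSpecResidueField K U (𝟙 U)
  obtain ⟨back, hback⟩ := Spec.map_surjective (U.fromSpecResidueField u : Spec (U.residueField u) ⟶ Spec (CommRingCat.of K))
  have hbi : back ≫ res = 𝟙 _ := Spec.map_injective (by rw [Spec.map_comp, hback, Spec.map_id]; exact hres)
  have hib : ∀ z, back.hom (res.hom z) = z := by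
    intro z
    have h1 : res.hom (back.hom (res.hom z)) = res.hom z := congrArg (fun q => q.hom (res.hom z)) hbi
    exact res.hom.injective h1
  let O : ValuationSubring K := V.comap back.hom
  obtain ⟨φy, hφy⟩ := Spec.map_surjective y
  have hgen : ∀ c : k, back.hom (algebraMap k K c) = (φy.hom c : U.residueField u) := by
    have h1 : Spec.map (CommRingCat.ofHom V.subtype) ≫ Spec.map φy =
        U.fromSpecResidueField u ≫ (pts k K).hom := by
      rw [hφy, hy, show h ≫ G.hom = (pts k K).hom from Over.w _]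
    rw [← hback, ← Spec.map_comp] at h1
    have h2 := Spec.map_injective (h1.trans (Spec.map_comp _ _).symm)
    exact fun c => (congrArg (fun q => q.hom c) h2).symm
  have hk : ∀ c : k, algebraMap k K c ∈ O := fun c => by
    show back.hom _ ∈ V
    rw [hgen]; exact (φy.hom c).2
  by_contra hnl
  refine hno ⟨O, hk, fun C _ _ i _ f hf => ?_⟩
  by_contra! hC
  let fV : C →+* V := (back.hom.comp f.toRingHom).codRestrict V.toSubring fun c => hC c
  have hl : Spec.map (CommRingCat.ofHom V.subtype) ≫ Spec.map (CommRingCat.ofHom fV) ≫ i.left =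
      U.fromSpecResidueField u ≫ h := by
    rw [← Spec.map_comp_assoc, ← CommRingCat.ofHom_comp,
      show CommRingCat.ofHom (V.subtype.comp fV) = CommRingCat.ofHom f.toRingHom ≫ back from rfl,
      Spec.map_comp_assoc, hback]
    exact congrArg (U.fromSpecResidueField u ≫ ·) (congrArg CommaMorphism.left hf)
  refine hnl ⟨Spec.map (CommRingCat.ofHom fV) ≫ i.left, ?_, hl⟩
  rw [Category.assoc, Over.w i, ← hφy]
  show Spec.map _ ≫ Spec.map _ = _
  rw [← Spec.map_comp]
  congr 1
  refine CommRingCat.hom_ext (RingHom.ext fun c => Subtype.ext ?_)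
  show back.hom (f (algebraMap k C c)) = _
  rw [f.commutes]
  exact hgen c

/-- A point over a local algebra lifts through any chart containing the image of its closed point. -/
theorem exists_lift_local {C R : Type u} [CommRing C] [Algebra k C] [CommRing R] [IsLocalRing R] [Algebra k R]
    (i : pts k C ⟶ G) [IsOpenImmersion i.left] (q : pts k R ⟶ G)
    (hq : q.left (IsLocalRing.closedPoint R) ∈ Set.range i.left) : ∃ f : C →ₐ[k] R, pm f ≫ i = q := by
  refine exists_lift i q ?_
  rintro _ ⟨z, rfl⟩
  exact ((IsLocalRing.specializes_closedPoint (R := R) z).map q.left.continuous).mem_open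
    i.left.isOpenEmbedding.isOpen_range hq

theorem not_noCentre_of_point (O : ValuationSubring K) (hk : ∀ c : k, algebraMap k K c ∈ O)
    (q : pts k (valAlg O hk) ⟶ G) (hq : pm (valAlg O hk).val ≫ q = eta j K) : ¬ NoCentre j O := by
  haveI : IsLocalRing (valAlg O hk) := inferInstanceAs (IsLocalRing O)
  intro h
  obtain ⟨C, _, _, i, _, hz⟩ := exists_chart G (q.left (IsLocalRing.closedPoint (valAlg O hk)))
  obtain ⟨f, hf⟩ := exists_lift_local i q hz
  obtain ⟨c, hc⟩ := h C i ((valAlg O hk).val.comp f) (by rw [pm_comp_assoc, hf, hq])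
  exact hc (f c).2

/-- A divisorial valuation ring with no centre. -/
theorem exists_divisorial_noCentre [IrreducibleSpace G.left] [IsSeparated G.hom] [LocallyOfFiniteType G.hom]
    [QuasiCompact G.hom] [Algebra.FiniteType k B] (hG : ¬ IsProper G.hom) {n : ℕ} (hn : Algebra.trdeg k K = n) :
    ∃ (A : Subalgebra k K) (p : Ideal A) (O : ValuationSubring K), IsFractionRing A K ∧ Model A p O ∧
      ((n - 1 : ℕ) : Cardinal) ≤ Algebra.trdeg k (A ⧸ p) ∧ NoCentre j O := by
  classical
  obtain ⟨O₁, hk, hO₁⟩ := exists_valuation_noCentre j (K := K) hG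
  haveI : CompactSpace G.left := QuasiCompact.compactSpace_of_compactSpace G.hom
  choose C c1 c2 i hi hz using fun z : G.left => exists_chart G z
  obtain ⟨cov, hcov⟩ := (isCompact_univ (X := G.left)).elim_finite_subcover (fun z => Set.range (i z).left)
    (fun z => haveI := hi z; (i z).left.isOpenEmbedding.isOpen_range) fun z _ => Set.mem_iUnion.mpr ⟨z, hz z⟩
  have hlift : ∀ z : G.left, ∃ f : C z →ₐ[k] K, pm f ≫ i z = eta j K := fun z => by
    haveI := hi z
    refine exists_lift_point (i z) (eta j K) ?_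
    rw [eta_apply j]
    exact (genericPoint_spec G.left).mem_open_set_iff (i z).left.isOpenEmbedding.isOpen_range |>.mpr
      ⟨z, Set.mem_univ _, hz z⟩
  choose f hf using hlift
  choose c hc using fun z : G.left => (haveI := hi z; hO₁ (C z) (i z) (f z) (hf z))
  obtain ⟨z₀, hz₀, -⟩ := Set.mem_iUnion₂.mp (hcov (Set.mem_univ (genericPoint G.left)))
  have hfg : ∃ t : Finset K, IntermediateField.adjoin k (t : Set K) = ⊤ := by
    obtain ⟨t, ht⟩ := ‹Algebra.FiniteType k B›
    refine ⟨t.image (algebraMap B K), top_unique fun x _ => ?_⟩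
    obtain ⟨a, b, -, rfl⟩ := IsFractionRing.div_surjective B x
    have hmem : ∀ a : B, algebraMap B K a ∈ IntermediateField.adjoin k ((t.image (algebraMap B K) : Finset K) : Set K) := by
      intro a
      have ha : a ∈ Algebra.adjoin k (t : Set B) := ht ▸ Algebra.mem_top
      refine IntermediateField.algebra_adjoin_le_adjoin k _ ?_
      rw [Finset.coe_image]
      exact (AlgHom.map_adjoin (IsScalarTower.toAlgHom k B K) (t : Set B)) ▸ ⟨a, ha, rfl⟩
    exact IntermediateField.div_mem _ (hmem a) (hmem b)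
  obtain ⟨A, p, O, hA, hM, htr, hs⟩ := exists_divisorial O₁ hk hfg hn (cov.image fun z => f z (c z))
    ⟨_, Finset.mem_image_of_mem _ hz₀⟩ (fun a ha => by obtain ⟨z, -, rfl⟩ := Finset.mem_image.mp ha; exact hc z)
  refine ⟨A, p, O, hA, hM, htr, fun C' _ _ i' _ f' hf' => ?_⟩
  by_contra! hall
  have hkO : ∀ r : k, algebraMap k K r ∈ O := fun r => f'.commutes r ▸ hall _
  let fO : C' →ₐ[k] valAlg O hkO := f'.codRestrict (valAlg O hkO) hall
  let q : pts k (valAlg O hkO) ⟶ G := pm fO ≫ i'
  haveI : IsLocalRing (valAlg O hkO) := inferInstanceAs (IsLocalRing O)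
  obtain ⟨z, hzc, hzr⟩ := Set.mem_iUnion₂.mp (hcov (Set.mem_univ (q.left (IsLocalRing.closedPoint (valAlg O hkO)))))
  haveI := hi z
  obtain ⟨g, hg⟩ := exists_lift_local (i z) q hzr
  have h1 : (valAlg O hkO).val.comp g = f z := lift_unique (i z) (by
    rw [pm_comp_assoc, hg, hf, ← hf', ← pm_comp_assoc]
    rfl)
  exact hs _ (Finset.mem_image_of_mem _ hzc) (AlgHom.congr_fun h1 (c z) ▸ (g (c z)).2)

/-- A nonproper group has an invariant divisorial valuation. -/
theorem exists_invariant [IsAlgClosed k] [GrpObj G] [IrreducibleSpace G.left] [IsSeparated G.hom]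
    [LocallyOfFiniteType G.hom] [QuasiCompact G.hom] [Algebra.FiniteType k B] (hG : ¬ IsProper G.hom)
    {n : ℕ} (hn : Algebra.trdeg k K = n)
    (σ : (pts k k ⟶ G) → (K ≃ₐ[k] K)) (hσ : ∀ g, pm (σ g).toAlgHom ≫ eta j K = cst g K * eta j K) :
    ∃ O : ValuationSubring K, (∀ c : k, algebraMap k K c ∈ O) ∧ O ≠ ⊤ ∧ ResGe k O (n - 1) ∧
      ∀ g, ∀ f ∈ O, σ g f ∈ O := by
  classical
  obtain ⟨A, p, O₀, hA, hM, htr, hNC⟩ := exists_divisorial_noCentre j (K := K) hG hn
  haveI := hA
  obtain ⟨L, _, _, φ₁, φ₂, W, hkW, hW₁, hW₂, hτ, hinj, hres⟩ := exists_twist hM hn htr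
  let e : B →ₐ[k] K := IsScalarTower.toAlgHom k B K
  let ψ₀ : B ⊗[k] K →ₐ[k] L := Algebra.TensorProduct.lift (φ₁.comp e) φ₂ fun _ _ => Commute.all _ _
  have hψ₀ : Function.Injective ψ₀ := by
    have h1 : ψ₀ = (Algebra.TensorProduct.lift φ₁ φ₂ fun _ _ => Commute.all _ _).comp
        (Algebra.TensorProduct.map e (AlgHom.id k K)) := Algebra.TensorProduct.ext' fun a b => rfl
    rw [h1]
    exact hinj.comp (Module.Flat.rTensor_preserves_injective_linearMap e.toLinearMap (IsFractionRing.injective B K))
  let P : pts k L ⟶ G := (pm φ₁ ≫ eta j K) * (pm φ₂ ≫ eta j K)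
  have hP : pm ψ₀ ≫ ((pm Algebra.TensorProduct.includeLeft ≫ j ≫ 𝟙 G) *
      (pm Algebra.TensorProduct.includeRight ≫ eta j K)) = P := by
    rw [MonObj.comp_mul, Category.comp_id, ← pm_comp_assoc, ← pm_comp_assoc,
      show ψ₀.comp Algebra.TensorProduct.includeLeft = φ₁.comp e from AlgHom.ext fun x => by simp [ψ₀],
      show ψ₀.comp Algebra.TensorProduct.includeRight = φ₂ from AlgHom.ext fun x => by simp [ψ₀], pm_comp, Category.assoc]
    rfl
  choose c h hh hev hL using fun b : B => exists_repr_chart j σ hσ (𝟙 G) b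
  choose F hF hFb using fun b : B => hL b L ψ₀ ((map_ne_zero_iff _ hψ₀).mpr (hh b))
  have hFu : ∀ b, F b = F 0 := fun b => lift_unique j (by rw [← hF b, ← hF 0])
  have hFinj : Function.Injective (F 0) := (injective_iff_map_eq_zero _).mpr fun b hb => by
    by_contra hb0
    have h1 := hFb b
    rw [hFu b, hb, zero_mul] at h1
    have hc : c b = 0 := hψ₀ (h1.symm.trans (map_zero ψ₀).symm)
    obtain ⟨g, x, -, hx, -⟩ : ∃ (g : B →ₐ[k] k) (_ : Unit), True ∧ evL (A := K) g (h b) ≠ 0 ∧ True := by
      by_contra! hall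
      refine hh b ?_
      haveI : Module.Free k K := Module.Free.of_divisionRing k K
      let bK := Module.Free.chooseBasis k K
      refine (TensorProduct.equivFinsuppOfBasisRight bK).injective (Finsupp.ext fun i => ?_)
      by_contra hi
      rw [map_zero, Finsupp.zero_apply] at hi
      obtain ⟨g, hg⟩ := Obs28.exists_point_ne_zero (k := k) hi
      refine hg ?_
      have h2 : ∀ z : B ⊗[k] K, bK.repr (evL g z) i = g (TensorProduct.equivFinsuppOfBasisRight bK z i) := by
        intro z
        induction z with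
        | zero => simp
        | tmul a b => simp [mul_comm]
        | add a b ha hb => simp [ha, hb]
      rw [← h2]
      have h3 : evL g (h b) = 0 := not_not.mp fun h4 => hall g () trivial h4
      rw [h3, map_zero, Finsupp.zero_apply]
    have h2 := hev b g hx
    rw [hc, map_zero, mul_eq_zero, map_eq_zero] at h2
    exact h2.elim (fun e => hb0 (IsFractionRing.injective B K (e.trans (map_zero _).symm))) hx
  obtain ⟨φm, hφm⟩ := exists_eq_eta_of_injective j (K := K) (F 0) hFinj
  have hPm : pm φm ≫ eta j K = P := by rw [← hφm, ← hF 0, hP]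
  have hkO : ∀ c : k, algebraMap k K c ∈ W.comap φm.toRingHom := fun c => by
    rw [ValuationSubring.mem_comap']; exact φm.commutes c ▸ hkW c
  refine ⟨W.comap φm.toRingHom, hkO, fun htop => ?_, hres φm, fun g f hf => ?_⟩
  · -- otherwise the divisor has a centre
    let WA : Subalgebra k L := valAlg W hkW
    have hmem : ∀ f, φm f ∈ W := fun f => (W.mem_comap' φm.toRingHom f).mp (htop ▸ ValuationSubring.mem_top f)
    let q : pts k WA ⟶ G := (pm (φ₁.codRestrict WA hW₁) ≫ eta j K)⁻¹ * (pm (φm.codRestrict WA hmem) ≫ eta j K)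
    have hq : pm WA.val ≫ q = pm φ₂ ≫ eta j K := by
      rw [MonObj.comp_mul, GrpObj.comp_inv, ← pm_comp_assoc, ← pm_comp_assoc,
        show WA.val.comp (φ₁.codRestrict WA hW₁) = φ₁ from AlgHom.ext fun _ => rfl,
        show WA.val.comp (φm.codRestrict WA hmem) = φm from AlgHom.ext fun _ => rfl, hPm, inv_mul_cancel_left]
    haveI : IsLocalRing WA := inferInstanceAs (IsLocalRing W)
    obtain ⟨C, _, _, i, _, hz⟩ := exists_chart G (q.left (IsLocalRing.closedPoint WA))
    obtain ⟨fW, hfW⟩ := exists_lift_local i q hz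
    obtain ⟨fK, hfK⟩ : ∃ fK : C →ₐ[k] K, pm fK ≫ i = eta j K := by
      refine exists_lift_point i (eta j K) ?_
      rw [eta_apply j]
      exact (genericPoint_spec G.left).mem_open_set_iff i.left.isOpenEmbedding.isOpen_range |>.mpr
        ⟨_, Set.mem_univ _, hz⟩
    obtain ⟨x, hx⟩ := hNC C i fK hfK
    have h1 : φ₂.comp fK = WA.val.comp fW := lift_unique i (by rw [pm_comp_assoc, hfK, ← hq, pm_comp_assoc, hfW])
    exact hx ((hW₂ _).mp (AlgHom.congr_fun h1 x ▸ (fW x).2))
  · -- invariance
    obtain ⟨ψ, hψ₁, hψ₂, hψW⟩ := hτ (σ g)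
    have h1 : ψ.comp φm = φm.comp (σ g).toAlgHom := eta_unique j (by
      rw [pm_comp_assoc, hPm, MonObj.comp_mul, ← pm_comp_assoc, ← pm_comp_assoc, hψ₁, hψ₂, pm_comp_assoc, hσ,
        MonObj.comp_mul, pm_cst, pm_comp_assoc (σ g).toAlgHom φm, hσ, MonObj.comp_mul, pm_cst, hPm, _root_.mul_assoc])
    rw [ValuationSubring.mem_comap'] at hf ⊢
    have := hψW _ hf
    exact AlgHom.congr_fun h1 f ▸ this

end Groth.Agent.AGStr.Chev
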