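import Groth.Agent.AGStr.Chev.Repr
import Mathlib.RingTheory.AlgebraicIndependent.TranscendenceBasis
import Mathlib.RingTheory.AlgebraicIndependent.Transcendental
import Mathlib.RingTheory.Localization.Away.Basic
import Mathlib.RingTheory.Localization.InvSubmonoid
import Mathlib.Algebra.Polynomial.Roots

/-!
Rosenlicht: if the translations of an algebraic group leave invariant a divisorial valuation of its
function field, then the stabilizer of a rational point of the divisor is infinite, and it is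
separated by the jets at that point, which are regular functions.
-/

set_option autoImplicit false

universe u

open TensorProduct

namespace Groth.Agent.AGStr.Chev

variable {k : Type u} [Field k] [IsAlgClosed k] {K : Type u} [Field K] [Algebra k K]
  {B : Type u} [CommRing B] [IsDomain B] [Algebra k B] [Algebra.FiniteType k B]
  {A : Subalgebra k K} {p : Ideal A} {O : ValuationSubring K}

omit [IsAlgClosed k] in
theorem eq_of_ker {R : Type*} [CommRing R] [Algebra k R] {x y : R →ₐ[k] k} (h : ∀ a, y a ≠ 0 → x a ≠ 0) :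
    x = y := by
  refine AlgHom.ext fun a => ?_
  by_contra hne
  exact h (a - algebraMap k R (x a)) (by simp [sub_ne_zero, Ne.symm hne]) (by simp)

omit [IsAlgClosed k] in
theorem map_loc {x : A →ₐ[k] k} (τ : K →ₐ[k] K) (hmem : ∀ a : A, τ (a : K) ∈ loc A x) (y : A →ₐ[k] k)
    (hy : ∀ a : A, y a = val A x ⟨τ (a : K), hmem a⟩) {f : K} (hf : f ∈ loc A y) : τ f ∈ loc A x := by
  obtain ⟨a, b, hb, h⟩ := mem_loc.mp hf
  obtain ⟨hb0, hbi⟩ := (inv_mem_loc_iff (hmem b)).mpr (hy b ▸ hb)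
  have : τ f = τ (a : K) * (τ (b : K))⁻¹ := by rw [← h, map_mul, mul_inv_cancel_right₀ hb0]
  exact this ▸ mul_mem (hmem a) hbi

omit [IsAlgClosed k] [IsDomain B] [Algebra.FiniteType k B] in
theorem exists_poly_repr (s : (B →ₐ[k] k) → (K →ₐ[k] K)) (H : B ⊗[k] A) {S : Set K} (hS : Algebra.adjoin k S = A)
    (hgen : ∀ a : A, (a : K) ∈ S → ∃ c : B ⊗[k] A, ∀ g, evL g H ≠ 0 → s g (a : K) * (evL g H : A) = (evL g c : A))
    (a : A) : ∃ (M : ℕ) (c : B ⊗[k] A), ∀ g, evL g H ≠ 0 → s g (a : K) * ((evL g H : A) : K) ^ M = (evL g c : A) := by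
  have key : ∀ f ∈ Algebra.adjoin k S, ∃ (M : ℕ) (c : B ⊗[k] A), ∀ g, evL g H ≠ 0 →
      s g f * ((evL g H : A) : K) ^ M = (evL g c : A) := by
    intro f hf
    induction hf using Algebra.adjoin_induction with
    | mem f hf =>
      obtain ⟨c, hc⟩ := hgen ⟨f, hS ▸ Algebra.subset_adjoin hf⟩ hf
      exact ⟨1, c, fun g hg => by simpa using hc g hg⟩
    | algebraMap r => exact ⟨0, algebraMap k _ r, fun g _ => by simp [Algebra.algebraMap_eq_smul_one]⟩
    | add f f' _ _ h h' =>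
      obtain ⟨M, c, hc⟩ := h
      obtain ⟨M', c', hc'⟩ := h'
      refine ⟨M + M', c * H ^ M' + c' * H ^ M, fun g hg => ?_⟩
      simp only [map_add, map_mul, map_pow, Subalgebra.coe_add, Subalgebra.coe_mul, Subalgebra.coe_pow]
      rw [← hc g hg, ← hc' g hg]; ring
    | mul f f' _ _ h h' =>
      obtain ⟨M, c, hc⟩ := h
      obtain ⟨M', c', hc'⟩ := h'
      refine ⟨M + M', c * c', fun g hg => ?_⟩
      simp only [map_mul, Subalgebra.coe_mul]
      rw [← hc g hg, ← hc' g hg]; ring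
  exact key a (hS.symm ▸ a.2)

/-- The linear form on jets as an element of the coordinate ring. -/
noncomputable def linB {x : A →ₐ[k] k} {N : ℕ} (l : (A ⧸ RingHom.ker x ^ N) →ₗ[k] k) : B ⊗[k] A →ₗ[k] B :=
  (TensorProduct.rid k B).toLinearMap ∘ₗ (l ∘ₗ (Ideal.Quotient.mkₐ k (RingHom.ker x ^ N)).toLinearMap).lTensor B

omit [IsAlgClosed k] [IsDomain B] [Algebra.FiniteType k B] in
theorem apply_linB {x : A →ₐ[k] k} {N : ℕ} (l : (A ⧸ RingHom.ker x ^ N) →ₗ[k] k) (g : B →ₐ[k] k) (W : B ⊗[k] A) :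
    g (linB l W) = l (Ideal.Quotient.mk _ (evL g W)) := by
  induction W with
  | zero => simp
  | tmul b a =>
    simp only [linB, LinearMap.comp_apply, LinearEquiv.coe_coe, LinearMap.lTensor_tmul, TensorProduct.rid_tmul,
      AlgHom.toLinearMap_apply, map_smul, evL_tmul, smul_eq_mul]
    rw [← Ideal.Quotient.mkₐ_eq_mk k, map_smul, map_smul, smul_eq_mul, mul_comm]
  | add a b ha hb => simp [ha, hb]

theorem exists_isotropy {Γ : Type u} [Group Γ] (σ : Γ → (K ≃ₐ[k] K))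
    (hσ : ∀ g h f, σ (g * h) f = σ h (σ g f)) (hfaith : ∀ s, (∀ f, σ s f = f) → s = 1)
    (hM : Model A p O) (hO : ∀ s, ∀ f ∈ O, σ s f ∈ O) (pt : (B →ₐ[k] k) → Γ)
    (hrep : ∀ f : K, ∃ c h : B ⊗[k] A, h ≠ 0 ∧ ∀ g, evL g h ≠ 0 → σ (pt g) f * (evL g h : A) = (evL g c : A))
    (hrep' : ∀ f : K, ∃ c h : B ⊗[k] A, h ≠ 0 ∧ ∀ g, evL g h ≠ 0 → σ (pt g)⁻¹ f * (evL g h : A) = (evL g c : A))
    (htr : Algebra.trdeg k (A ⧸ p) < Algebra.trdeg k B) :
    ∃ (S : Subgroup Γ) (h₁ : Γ) (u : B) (Z : Set B),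
      (∀ g : B →ₐ[k] k, g u ≠ 0 → (h₁⁻¹ * pt g ∈ S ↔ ∀ z ∈ Z, g z = 0)) ∧
      {g : B →ₐ[k] k | g u ≠ 0 ∧ ∀ z ∈ Z, g z = 0}.Infinite ∧
      (∃ g : B →ₐ[k] k, g u ≠ 0 ∧ pt g = h₁) ∧
      ∀ s ∈ S, s ≠ 1 → ∃ Φ : Γ → k, Φ s ≠ Φ 1 ∧ ∀ s₀ ∈ S, ∃ c d : B, ∀ g : B →ₐ[k] k, g u ≠ 0 →
        (∀ z ∈ Z, g z = 0) → g d ≠ 0 ∧ Φ (s₀ * (h₁⁻¹ * pt g)) = g c / g d := by
  classical
  haveI := hM.prime
  haveI : Algebra.FiniteType k A := (Subalgebra.fg_iff_finiteType _).mp hM.fg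
  have hσ1 : ∀ f, σ 1 f = f := fun f => (σ 1).injective (by rw [← hσ, one_mul])
  have hσi : ∀ s f, σ s⁻¹ (σ s f) = f := fun s f => by rw [← hσ, mul_inv_cancel, hσ1]
  have hσi' : ∀ s f, σ s (σ s⁻¹ f) = f := fun s f => by rw [← hσ, inv_mul_cancel, hσ1]
  -- representatives with generically nonzero denominators
  obtain ⟨gens, hgens⟩ := hM.fg
  have hga : ∀ i : gens, (i : K) ∈ A := fun i => hgens ▸ Algebra.subset_adjoin i.2
  choose c₁ h₁' hg₁ heq₁ using fun i : gens => exists_gen_repr hM (fun g => σ (pt g)) (fun g => hO _) ⟨i, hga i⟩ (hrep i)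
  choose c₂ h₂' hg₂ heq₂ using fun i : gens => exists_gen_repr hM (fun g => σ (pt g)⁻¹) (fun g => hO _) ⟨i, hga i⟩ (hrep' i)
  let H : B ⊗[k] A := ∏ i : gens, h₁' i * h₂' i
  have hH : Gen p H := Gen.prod _ fun i _ => (hg₁ i).mul (hg₂ i)
  have hsplit : ∀ i : gens, H = (h₁' i * h₂' i) * ∏ j ∈ Finset.univ.erase i, h₁' j * h₂' j := fun i =>
    (Finset.mul_prod_erase _ _ (Finset.mem_univ i)).symm
  have hP₁ : ∀ a : A, ∃ (M : ℕ) (c : B ⊗[k] A), ∀ g, evL g H ≠ 0 →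
      σ (pt g) (a : K) * ((evL g H : A) : K) ^ M = (evL g c : A) := by
    refine exists_poly_repr (fun g => (σ (pt g)).toAlgHom) H hgens ?_
    intro a ha
    refine ⟨c₁ ⟨a, ha⟩ * (h₂' ⟨a, ha⟩ * ∏ j ∈ Finset.univ.erase (⟨a, ha⟩ : gens), h₁' j * h₂' j), fun g hg => ?_⟩
    rw [hsplit ⟨a, ha⟩] at hg ⊢
    simp only [map_mul] at hg ⊢
    have h0 := heq₁ ⟨a, ha⟩ g (left_ne_zero_of_mul (left_ne_zero_of_mul hg))
    push_cast
    simp only [AlgEquiv.toAlgHom_eq_coe, AlgHom.coe_coe] at h0 ⊢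
    rw [← h0]; ring
  have hP₂ : ∀ a : A, ∃ (M : ℕ) (c : B ⊗[k] A), ∀ g, evL g H ≠ 0 →
      σ (pt g)⁻¹ (a : K) * ((evL g H : A) : K) ^ M = (evL g c : A) := by
    refine exists_poly_repr (fun g => (σ (pt g)⁻¹).toAlgHom) H hgens ?_
    intro a ha
    refine ⟨c₂ ⟨a, ha⟩ * (h₁' ⟨a, ha⟩ * ∏ j ∈ Finset.univ.erase (⟨a, ha⟩ : gens), h₁' j * h₂' j), fun g hg => ?_⟩
    rw [hsplit ⟨a, ha⟩] at hg ⊢
    simp only [map_mul] at hg ⊢
    have h0 := heq₂ ⟨a, ha⟩ g (right_ne_zero_of_mul (left_ne_zero_of_mul hg))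
    push_cast
    simp only [AlgEquiv.toAlgHom_eq_coe, AlgHom.coe_coe] at h0 ⊢
    rw [← h0]; ring
  choose M₁ C₁ hC₁ using hP₁
  choose M₂ C₂ hC₂ using hP₂
  -- the image of a point of the divisor
  have hne : ∀ (x : A →ₐ[k] k) (g : B →ₐ[k] k), g (evR x H) ≠ 0 → evL g H ≠ 0 := fun x g hg e => hg (by
    rw [← ev_comm, e, map_zero])
  have hmem : ∀ (x : A →ₐ[k] k) (g : B →ₐ[k] k), g (evR x H) ≠ 0 → ∀ a : A, σ (pt g) (a : K) ∈ loc A x := by
    intro x g hg a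
    refine ⟨evL g (C₁ a), evL g H ^ M₁ a, by rw [map_pow, ev_comm]; exact pow_ne_zero _ hg, ?_⟩
    push_cast
    exact hC₁ a g (hne x g hg)
  let φ : ∀ (x : A →ₐ[k] k) (g : B →ₐ[k] k), g (evR x H) ≠ 0 → (A →ₐ[k] k) := fun x g hg =>
    (val A x).comp (AlgHom.codRestrict ((σ (pt g)).toAlgHom.comp A.val) (loc A x) (hmem x g hg))
  have hφ : ∀ x g hg a, φ x g hg a = g (evR x (C₁ a)) / g (evR x H) ^ M₁ a := by
    intro x g hg a
    show val A x ⟨σ (pt g) (a : K), _⟩ = _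
    rw [val_eq (a := evL g (C₁ a)) (b := evL g H ^ M₁ a) (by rw [map_pow, ev_comm]; exact pow_ne_zero _ hg)
      (by push_cast; exact hC₁ a g (hne x g hg)), map_pow, ev_comm, ev_comm]
  have hQ : ∀ (x : A →ₐ[k] k) (z : B ⊗[k] A), ∃ (M : ℕ) (c : B), ∀ g hg,
      φ x g hg (evL g z) * g (evR x H) ^ M = g c := by
    intro x z
    induction z with
    | zero => exact ⟨0, 0, fun g hg => by simp⟩
    | tmul b a =>
      refine ⟨M₁ a, b * evR x (C₁ a), fun g hg => ?_⟩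
      rw [evL_tmul, map_smul, hφ x g hg, smul_eq_mul, mul_assoc, div_mul_cancel₀ _ (pow_ne_zero _ hg), map_mul]
    | add z z' hz hz' =>
      obtain ⟨M, c, hc⟩ := hz
      obtain ⟨M', c', hc'⟩ := hz'
      refine ⟨M + M', c * evR x H ^ M' + c' * evR x H ^ M, fun g hg => ?_⟩
      simp only [map_add, map_mul, map_pow]
      rw [← hc g hg, ← hc' g hg]; ring
  have hφp : ∀ (x : A →ₐ[k] k), (∀ a ∈ p, x a = 0) → ∀ g hg, ∀ a ∈ p, φ x g hg a = 0 := by
    intro x hx g hg a ha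
    by_cases ha0 : (a : K) = 0
    · rw [Subtype.ext ha0 (a2 := (0 : A)), map_zero]
    have hHp : evL g H ^ M₁ a ∉ p := fun h => pow_ne_zero _ hg (by rw [← ev_comm, ← map_pow]; exact hx _ h)
    have hcp : evL g (C₁ a) ∈ p := by
      by_contra hcp
      refine hM.inv_notMem a ha ha0 ?_
      have h1 : (σ (pt g) (a : K))⁻¹ ∈ O := by
        have h2 := hC₁ a g (hne x g hg)
        have hc0 : ((evL g (C₁ a) : A) : K) ≠ 0 := fun e => hcp (Subtype.ext e (a2 := (0 : A)) ▸ p.zero_mem)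
        have : (σ (pt g) (a : K))⁻¹ = ((evL g H : A) : K) ^ M₁ a * ((evL g (C₁ a) : A) : K)⁻¹ := by
          rw [← h2] at hc0 ⊢
          field_simp [left_ne_zero_of_mul hc0, right_ne_zero_of_mul hc0]
        rw [this]
        exact mul_mem (pow_mem (hM.le _) _) (hM.inv_mem _ hcp)
      have := hO (pt g)⁻¹ _ h1
      rwa [map_inv₀, hσi] at this
    rw [hφ x g hg, ← ev_comm, hx _ hcp, zero_div]
  -- choice of the point of the divisor
  obtain ⟨g₀, -, -, -, hg₀⟩ := exists_pair p H hH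
  obtain ⟨num, den, hden, hf₀⟩ := hM.frac _ (hO (pt g₀) _ (hM.le (evL g₀ H)))
  have hnum : num ∉ p := by
    intro hn
    have hH0 : ((evL g₀ H : A) : K) ≠ 0 := fun e => hg₀ (Subtype.ext e (a2 := (0 : A)) ▸ p.zero_mem)
    have hden0 : (den : K) ≠ 0 := fun e => hden (Subtype.ext e (a2 := (0 : A)) ▸ p.zero_mem)
    refine hM.inv_notMem num hn (hf₀ ▸ mul_ne_zero (fun e => hH0 ((map_eq_zero _).mp e)) hden0) ?_
    rw [← hf₀, mul_inv, ← map_inv₀]
    exact mul_mem (hO _ _ (hM.inv_mem _ hg₀)) (hM.inv_mem _ hden)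
  obtain ⟨x', hx'⟩ := Obs28.exists_point_ne_zero (k := k) (A := A ⧸ p) (a := Ideal.Quotient.mk p (num * den * evL g₀ H))
    (by rw [Ne, Ideal.Quotient.eq_zero_iff_mem]; intro h
        rcases hM.prime.mem_or_mem h with h | h
        · exact (hM.prime.mem_or_mem h).elim hnum hden
        · exact hg₀ h)
  let x : A →ₐ[k] k := x'.comp (Ideal.Quotient.mkₐ k p)
  have hxp : ∀ a ∈ p, x a = 0 := fun a ha => by simp [x, Ideal.Quotient.eq_zero_iff_mem.mpr ha]
  have hx : x (num * den * evL g₀ H) ≠ 0 := hx'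
  simp only [map_mul, mul_ne_zero_iff] at hx
  have hgood₀ : g₀ (evR x H) ≠ 0 := ev_comm g₀ x H ▸ hx.2
  have hgood₀' : φ x g₀ hgood₀ (evL g₀ H) ≠ 0 := by
    show val A x ⟨σ (pt g₀) ((evL g₀ H : A) : K), _⟩ ≠ 0
    rw [val_eq hx.1.2 hf₀]
    exact div_ne_zero hx.1.1 hx.1.2
  obtain ⟨MH, cH, hcH⟩ := hQ x H
  let u : B := evR x H * cH
  have hu₁ : ∀ g : B →ₐ[k] k, g u ≠ 0 → g (evR x H) ≠ 0 := fun g hg => left_ne_zero_of_mul (map_mul g _ _ ▸ hg)
  have hu₂ : ∀ g (hg : g u ≠ 0), φ x g (hu₁ g hg) (evL g H) ≠ 0 := fun g hg e =>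
    right_ne_zero_of_mul (map_mul g _ _ ▸ hg) (by rw [← hcH g (hu₁ g hg), e, zero_mul])
  have hu₀ : g₀ u ≠ 0 := by
    rw [map_mul]
    exact mul_ne_zero hgood₀ (hcH g₀ hgood₀ ▸ mul_ne_zero hgood₀' (pow_ne_zero _ hgood₀))
  -- translation by a good element is an isomorphism of local rings
  have hiso : ∀ g (hg : g u ≠ 0) (f : K), σ (pt g) f ∈ loc A x ↔ f ∈ loc A (φ x g (hu₁ g hg)) := by
    intro g hg f
    let y := φ x g (hu₁ g hg)
    have hyH : y (evL g H) ≠ 0 := hu₂ g hg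
    have hHK : evL g H ≠ 0 := hne x g (hu₁ g hg)
    have hmem' : ∀ a : A, (σ (pt g)⁻¹).toAlgHom (a : K) ∈ loc A y := fun a =>
      ⟨evL g (C₂ a), evL g H ^ M₂ a, by rw [map_pow]; exact pow_ne_zero _ hyH, by push_cast; exact hC₂ a g hHK⟩
    have hback : ∀ a : A, x a = val A y ⟨_, hmem' a⟩ := by
      intro a
      rw [val_eq (a := evL g (C₂ a)) (b := evL g H ^ M₂ a) (by rw [map_pow]; exact pow_ne_zero _ hyH)
        (by push_cast; exact hC₂ a g hHK), map_pow, eq_div_iff (pow_ne_zero _ hyH)]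
      have h1 := congrArg (σ (pt g)) (hC₂ a g hHK)
      rw [map_mul, map_pow, hσi'] at h1
      have h2 : (⟨(a : K), coe_mem_loc a⟩ : loc A x) * ⟨σ (pt g) ((evL g H : A) : K), hmem x g (hu₁ g hg) _⟩ ^ M₂ a =
          ⟨σ (pt g) ((evL g (C₂ a) : A) : K), hmem x g (hu₁ g hg) _⟩ := Subtype.ext (by push_cast; exact h1)
      have h3 := congrArg (val A x) h2
      rw [map_mul, map_pow, val_coe] at h3
      exact h3
    constructor
    · intro h
      have := map_loc (σ (pt g)⁻¹).toAlgHom hmem' x hback h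
      simpa [hσi] using this
    · exact fun h => map_loc (σ (pt g)).toAlgHom (hmem x g (hu₁ g hg)) y (fun a => rfl) h
  -- the map to the divisor on coordinates
  let B' := Localization.Away u
  let ι : B →ₐ[k] B' := IsScalarTower.toAlgHom k B B'
  have hu0 : u ≠ 0 := fun e => hu₀ (by rw [e, map_zero])
  haveI : IsDomain B' := IsLocalization.isDomain_localization (powers_le_nonZeroDivisors_of_noZeroDivisors hu0)
  haveI : Algebra.FiniteType B B' := IsLocalization.finiteType_of_monoid_fg (Submonoid.powers u) B'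
  haveI : Algebra.FiniteType k B' := (inferInstance : Algebra.FiniteType k B).trans inferInstance
  have hpu : ∀ ψ : B' →ₐ[k] k, (ψ.comp ι) u ≠ 0 := fun ψ =>
    ((IsLocalization.Away.algebraMap_isUnit u).map ψ).ne_zero
  have hunit : IsUnit (ι (evR x H)) := isUnit_of_mul_isUnit_left (y := ι cH) (by
    rw [← map_mul]; exact IsLocalization.Away.algebraMap_isUnit u)
  let Ψ₀ : A → B' := fun a => ι (evR x (C₁ a)) * ↑(hunit.unit⁻¹ ^ M₁ a)
  have hΨ₀ : ∀ (ψ : B' →ₐ[k] k) a, ψ (Ψ₀ a) = φ x (ψ.comp ι) (hu₁ _ (hpu ψ)) a := by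
    intro ψ a
    have hne' : ψ (ι (evR x H)) ≠ 0 := (hunit.map ψ).ne_zero
    rw [hφ x (ψ.comp ι) (hu₁ _ (hpu ψ)), eq_div_iff (pow_ne_zero _ (hu₁ _ (hpu ψ))), AlgHom.comp_apply, AlgHom.comp_apply, ← map_pow, ← map_mul]
    congr 1
    show ι (evR x (C₁ a)) * ↑(hunit.unit⁻¹ ^ M₁ a) * ι (evR x H) ^ M₁ a = ι (evR x (C₁ a))
    rw [Units.val_pow_eq_pow_val, mul_assoc, ← mul_pow, IsUnit.val_inv_mul, one_pow, mul_one]
  have hext : ∀ z w : B', (∀ ψ : B' →ₐ[k] k, ψ z = ψ w) → z = w := fun z w h => by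
    by_contra hzw
    obtain ⟨ψ, hψ⟩ := Obs28.exists_point_ne_zero (k := k) (sub_ne_zero.mpr hzw)
    exact hψ (by rw [map_sub, h, sub_self])
  let Ψ : A →ₐ[k] B' :=
    { toFun := Ψ₀
      map_one' := hext _ _ fun ψ => by rw [hΨ₀, map_one, map_one]
      map_mul' := fun a b => hext _ _ fun ψ => by rw [hΨ₀, map_mul, map_mul, hΨ₀, hΨ₀]
      map_zero' := hext _ _ fun ψ => by rw [hΨ₀, map_zero, map_zero]
      map_add' := fun a b => hext _ _ fun ψ => by rw [hΨ₀, map_add, map_add, hΨ₀, hΨ₀]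
      commutes' := fun r => hext _ _ fun ψ => by rw [hΨ₀, AlgHom.commutes, AlgHom.commutes] }
  have hΨ : ∀ (ψ : B' →ₐ[k] k) a, ψ (Ψ a) = φ x (ψ.comp ι) (hu₁ _ (hpu ψ)) a := hΨ₀
  let R : Subalgebra k B' := Ψ.range
  haveI : Algebra.FiniteType k R := Algebra.FiniteType.of_surjective Ψ.rangeRestrict Ψ.rangeRestrict_surjective
  let Ψq : (A ⧸ p) →ₐ[k] R := Ideal.Quotient.liftₐ p Ψ.rangeRestrict fun a ha => Subtype.ext (hext _ _ fun ψ => by
    show ψ (Ψ a) = ψ ((0 : R) : B')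
    rw [hΨ, hφp x hxp _ (hu₁ _ (hpu ψ)) a ha, ZeroMemClass.coe_zero, map_zero])
  have hΨq : Function.Surjective Ψq := fun r => by
    obtain ⟨a, rfl⟩ := Ψ.rangeRestrict_surjective r
    exact ⟨Ideal.Quotient.mk p a, rfl⟩
  obtain ⟨t, ht⟩ : ∃ t : B', Transcendental R t := by
    by_contra hall
    haveI : Algebra.IsAlgebraic R B' := ⟨fun t => by
      by_contra ht
      exact hall ⟨t, ht⟩⟩
    haveI : FaithfulSMul k R := (faithfulSMul_iff_algebraMap_injective k R).mpr (algebraMap k R).injective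
    have h1 : Algebra.trdeg k R + Algebra.trdeg R B' = Algebra.trdeg k B' := trdeg_add_eq k R (A := B')
    rw [trdeg_eq_zero (R := R) (A := B'), add_zero] at h1
    have h2 := trdeg_le_of_surjective Ψq hΨq
    have h3 := trdeg_le_of_injective ι
      (IsLocalization.injective B' (powers_le_nonZeroDivisors_of_noZeroDivisors hu0))
    exact absurd htr (not_lt.mpr (h3.trans (h1.symm.le.trans h2)))
  let Φt : Polynomial R →ₐ[k] B' := (Polynomial.aeval t).restrictScalars k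
  haveI : Algebra.FiniteType k (Polynomial R) := (inferInstance : Algebra.FiniteType k R).trans inferInstance
  have hΦt : Function.Injective Φt := transcendental_iff_injective.mp ht
  obtain ⟨f, hf, hlift⟩ := Obs28.exists_ne_zero_point (k := k) (A := Polynomial R) (B := B') Φt hΦt (b := (1 : B')) one_ne_zero
  obtain ⟨χ₀, hχ₀⟩ := Obs28.exists_point_ne_zero (k := k) (Polynomial.leadingCoeff_ne_zero.mpr hf)
  let y : A →ₐ[k] k := χ₀.comp Ψ.rangeRestrict
  let fv : Polynomial k := f.map χ₀.toRingHom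
  have hfv : fv ≠ 0 := fun e => hχ₀ (by
    have := congrArg (fun q => q.coeff f.natDegree) e
    simpa [fv] using this)
  have hpts : ∀ v : {v : k // fv.eval v ≠ 0}, ∃ g : B →ₐ[k] k, ∃ hg : g u ≠ 0, φ x g (hu₁ g hg) = y ∧
      ∃ ψ : B' →ₐ[k] k, ψ t = v ∧ ψ.comp ι = g := by
    intro v
    let χ : Polynomial R →ₐ[k] k :=
      ((Polynomial.aeval (v : k)).restrictScalars k).comp (Polynomial.mapAlgHom χ₀)
    obtain ⟨ψ, -, hψ⟩ := hlift χ (by simpa [χ, Polynomial.aeval_def, Polynomial.eval₂_eq_eval_map, fv] using v.2)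
    refine ⟨ψ.comp ι, hpu ψ, AlgHom.ext fun a => ?_, ψ, ?_, rfl⟩
    · rw [← hΨ]
      have h := AlgHom.congr_fun hψ (Polynomial.C (Ψ.rangeRestrict a))
      simpa [Φt, χ, y, Subalgebra.algebraMap_def] using h
    · have h := AlgHom.congr_fun hψ Polynomial.X
      simpa [Φt, χ] using h
  choose gv hgu hgy ψv hψt hψι using hpts
  haveI hinfk : Infinite {v : k // fv.eval v ≠ 0} := by
    have h1 : {v : k | fv.eval v ≠ 0}.Infinite := by
      have h2 := Polynomial.finite_setOf_isRoot hfv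
      exact h2.infinite_compl
    exact h1.to_subtype
  obtain ⟨v₁⟩ := (inferInstance : Nonempty {v : k // fv.eval v ≠ 0})
  let Z : Set B := Set.range fun a : A => evR x (C₁ a) - algebraMap k B (y a) * evR x H ^ M₁ a
  have hZ : ∀ g (hg : g u ≠ 0), φ x g (hu₁ g hg) = y ↔ ∀ z ∈ Z, g z = 0 := by
    intro g hg
    constructor
    · rintro h _ ⟨a, rfl⟩
      simp only [map_sub, map_mul, map_pow, AlgHom.commutes, Algebra.algebraMap_self_apply]
      rw [← h, hφ x g (hu₁ g hg), div_mul_cancel₀ _ (pow_ne_zero _ (hu₁ g hg)), sub_self]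
    · intro h
      refine AlgHom.ext fun a => ?_
      have h1 := h _ ⟨a, rfl⟩
      simp only [map_sub, map_mul, map_pow, AlgHom.commutes, Algebra.algebraMap_self_apply, sub_eq_zero] at h1
      rw [hφ x g (hu₁ g hg), h1, mul_div_cancel_right₀ _ (pow_ne_zero _ (hu₁ g hg))]
  let h₁ : Γ := pt (gv v₁)
  let S : Subgroup Γ :=
    { carrier := {s | ∀ f, σ s f ∈ loc A x ↔ f ∈ loc A x}
      mul_mem' := fun {a b} ha hb f => by rw [hσ, hb, ha]
      one_mem' := fun f => by rw [hσ1]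
      inv_mem' := fun {a} ha f => by rw [← ha, hσi'] }
  have hy : ∀ f, f ∈ loc A y ↔ σ h₁ f ∈ loc A x := fun f => by rw [hiso _ (hgu v₁), hgy]
  have hiff : ∀ g (hg : g u ≠ 0), h₁⁻¹ * pt g ∈ S ↔ φ x g (hu₁ g hg) = y := by
    intro g hg
    constructor
    · intro hs
      refine eq_of_ker fun a ha => ?_
      have h2 : ∀ f, f ∈ loc A y → σ (pt g) f ∈ loc A x := fun f hf => by
        have := (hs (σ h₁ f)).mpr ((hy f).mp hf)
        rwa [hσ, hσi] at this
      exact ((inv_mem_loc_iff (hmem x g (hu₁ g hg) a)).mp ⟨by simpa using coe_ne_zero ha,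
        by rw [← map_inv₀]; exact h2 _ (inv_coe_mem_loc ha)⟩)
    · intro h f
      rw [hσ, hiso g hg, h, hy, hσi']
  refine ⟨S, h₁, u, Z, fun g hg => (hiff g hg).trans (hZ g hg), ?_, ⟨gv v₁, hgu v₁, rfl⟩, ?_⟩
  · refine Set.Infinite.mono (s := Set.range gv) ?_ (Set.infinite_range_of_injective fun v w h => ?_)
    · rintro _ ⟨v, rfl⟩
      exact ⟨hgu v, (hZ _ (hgu v)).mp (hgy v)⟩
    · have hψ : ψv v = ψv w := IsLocalization.algHom_ext (Submonoid.powers u) (by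
        refine AlgHom.ext fun b => ?_
        exact AlgHom.congr_fun ((hψι v).trans (h.trans (hψι w).symm)) b)
      exact Subtype.ext (by rw [← hψt v, ← hψt w, hψ])
  · intro s hs hs1
    obtain ⟨a, ha⟩ : ∃ a : A, σ s (a : K) ≠ a := by
      by_contra! hall
      refine hs1 (hfaith s fun f => ?_)
      have key : ∀ f ∈ O, σ s f = f := by
        intro f hf
        obtain ⟨n, d, hd, h⟩ := hM.frac f hf
        have hd0 : (d : K) ≠ 0 := fun e => hd (Subtype.ext e (a2 := (0 : A)) ▸ p.zero_mem)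
        refine mul_right_cancel₀ hd0 ?_
        conv_lhs => rw [← hall d]
        rw [← map_mul, h, hall n]
      rcases O.mem_or_inv_mem f with hf | hf
      · exact key f hf
      · simpa using key _ hf
    have hms : ∀ r ∈ S, σ r (a : K) ∈ loc A x := fun r hr => (hr _).mpr (coe_mem_loc a)
    obtain ⟨N, hN⟩ := exists_jet_ne hM.fg (f := (⟨_, hms s hs⟩ : loc A x)) (f' := ⟨_, hms 1 S.one_mem⟩)
      (fun e => ha (by simpa [hσ1] using congrArg Subtype.val e))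
    obtain ⟨l, hl⟩ : ∃ l : (A ⧸ RingHom.ker x ^ N) →ₗ[k] k,
        l (jet A x N ⟨_, hms s hs⟩) ≠ l (jet A x N ⟨_, hms 1 S.one_mem⟩) := by
      by_contra! hall
      refine hN (sub_eq_zero.mp ((Module.forall_dual_apply_eq_zero_iff k _).mp fun l => ?_))
      rw [map_sub, hall l, sub_self]
    refine ⟨fun r => if hr : σ r (a : K) ∈ loc A x then l (jet A x N ⟨_, hr⟩) else 0,
      by simpa only [dif_pos (hms s hs), dif_pos (hms 1 S.one_mem)] using hl, fun s₀ hs₀ => ?_⟩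
    obtain ⟨n, d, hd, hnd⟩ : σ h₁⁻¹ (σ s₀ (a : K)) ∈ loc A y := by
      rw [hy, hσi']; exact hms s₀ hs₀
    let D : B ⊗[k] A := C₁ d * H ^ M₁ n
    let C : B ⊗[k] A := C₁ n * H ^ M₁ d
    obtain ⟨G, hG⟩ := exists_inverse x N D
    refine ⟨linB l (C * G), evR x D ^ N, fun g hg hz => ?_⟩
    have hgy' := (hZ g hg).mpr hz
    have hD : x (evL g D) ≠ 0 := by
      have := congrArg (fun q : A →ₐ[k] k => q d) hgy'
      simp only [hφ x g (hu₁ g hg)] at this
      simp only [D, map_mul, map_pow, ev_comm]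
      exact mul_ne_zero (left_ne_zero_of_mul (a := _) (b := (g (evR x H) ^ M₁ d)⁻¹)
        (by rw [← div_eq_mul_inv, this]; exact hd)) (pow_ne_zero _ (hu₁ g hg))
    have hδ : g (evR x D) ≠ 0 := ev_comm g x D ▸ hD
    refine ⟨by rw [map_pow]; exact pow_ne_zero _ hδ, ?_⟩
    have hsr : s₀ * (h₁⁻¹ * pt g) ∈ S := S.mul_mem hs₀ ((hiff g hg).mpr hgy')
    beta_reduce
    rw [dif_pos (hms _ hsr), eq_div_iff (by rw [map_pow]; exact pow_ne_zero _ hδ), apply_linB]
    have h1 : σ (s₀ * (h₁⁻¹ * pt g)) (a : K) * ((evL g D : A) : K) = ((evL g C : A) : K) := by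
      have hH0 := hne x g (hu₁ g hg)
      have e1 := congrArg (σ (pt g)) hnd
      rw [map_mul] at e1
      rw [hσ, hσ]
      simp only [D, C, map_mul, map_pow]
      push_cast
      rw [← hC₁ d g hH0, ← hC₁ n g hH0, ← e1]
      ring
    have h2 := jet_mul (f := (⟨_, hms _ hsr⟩ : loc A x)) hD h1 N
    have h3 : Ideal.Quotient.mk (RingHom.ker x ^ N) (evL g D * evL g G) =
        algebraMap k _ (g (evR x D) ^ N) := (Ideal.Quotient.eq.mpr (hG g)).symm
    have h4 : (g (evR x D) ^ N) • jet A x N ⟨_, hms _ hsr⟩ = Ideal.Quotient.mk (RingHom.ker x ^ N) (evL g (C * G)) := by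
      rw [Algebra.smul_def, ← h3, map_mul (Ideal.Quotient.mk (RingHom.ker x ^ N)), map_mul (evL g) C G,
        map_mul (Ideal.Quotient.mk (RingHom.ker x ^ N)) (evL g C), ← h2]; ring
    rw [← h4, map_smul, smul_eq_mul, map_pow, mul_comm]

end Groth.Agent.AGStr.Chev
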