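import Groth.Agent.Obs28.Chev
import Groth.Agent.GrpSchLib.TensorDomain
import Mathlib.RingTheory.Filtration
import Mathlib.RingTheory.Valuation.ValuationSubring
import Mathlib.LinearAlgebra.TensorProduct.Basis
import Mathlib.RingTheory.TensorProduct.Maps
import Mathlib.RingTheory.TensorProduct.Free

/-!
Local rings of rational points of an affine model inside a field, their jets, and evaluation of
elements of a tensor product at a rational point of one of the factors.
-/

set_option autoImplicit false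

universe u

open TensorProduct

namespace Groth.Agent.AGStr.Chev

variable {k : Type u} [Field k] {K : Type u} [Field K] [Algebra k K]
  {B : Type u} [CommRing B] [Algebra k B]

section Eval

variable {A : Type u} [CommRing A] [Algebra k A]

/-- Evaluation of the left factor. -/
noncomputable def evL (g : B →ₐ[k] k) : B ⊗[k] A →ₐ[k] A :=
  (Algebra.TensorProduct.lid k A).toAlgHom.comp (Algebra.TensorProduct.map g (AlgHom.id k A))

/-- Evaluation of the right factor. -/
noncomputable def evR (x : A →ₐ[k] k) : B ⊗[k] A →ₐ[k] B :=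
  (Algebra.TensorProduct.rid k k B).toAlgHom.comp (Algebra.TensorProduct.map (AlgHom.id k B) x)

@[simp] theorem evL_tmul (g : B →ₐ[k] k) (b : B) (a : A) : evL g (b ⊗ₜ a) = g b • a := by
  simp [evL]

@[simp] theorem evR_tmul (x : A →ₐ[k] k) (b : B) (a : A) : evR x (b ⊗ₜ a) = x a • b := by
  simp [evR]

theorem ev_comm (g : B →ₐ[k] k) (x : A →ₐ[k] k) (z : B ⊗[k] A) : x (evL g z) = g (evR x z) := by
  induction z with
  | zero => simp
  | tmul b a => simp [mul_comm]
  | add a b ha hb => simp [ha, hb]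

/-- Evaluation of both factors. -/
theorem exists_pair [IsAlgClosed k] [IsDomain B] [Algebra.FiniteType k B] [Algebra.FiniteType k A] (p : Ideal A) [p.IsPrime]
    (z : B ⊗[k] A) (hz : Algebra.TensorProduct.map (AlgHom.id k B) (Ideal.Quotient.mkₐ k p) z ≠ 0) :
    ∃ (g : B →ₐ[k] k) (x : A →ₐ[k] k), (∀ a ∈ p, x a = 0) ∧ x (evL g z) ≠ 0 ∧ evL g z ∉ p := by
  haveI := GrpSchLib.isDomain_tensor_of_isAlgClosed (K := k) (A := B) (B := A ⧸ p)
  haveI : Algebra.FiniteType k (B ⊗[k] (A ⧸ p)) := (inferInstance : Algebra.FiniteType k B).trans inferInstance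
  obtain ⟨ψ, hψ⟩ := Obs28.exists_point_ne_zero (k := k) hz
  let g : B →ₐ[k] k := ψ.comp Algebra.TensorProduct.includeLeft
  let x : A →ₐ[k] k := (ψ.comp Algebra.TensorProduct.includeRight).comp (Ideal.Quotient.mkₐ k p)
  have hp : ∀ a ∈ p, x a = 0 := fun a ha => by
    simp [x, Ideal.Quotient.eq_zero_iff_mem.mpr ha]
  have h : ∀ w, x (evL g w) = ψ (Algebra.TensorProduct.map (AlgHom.id k B) (Ideal.Quotient.mkₐ k p) w) := by
    intro w
    induction w with
    | zero => simp
    | tmul b a => simp [g, x, ← map_mul]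
    | add a b ha hb => simp [ha, hb]
  have h2 : x (evL g z) ≠ 0 := h z ▸ hψ
  exact ⟨g, x, hp, h2, fun hm => h2 (hp _ hm)⟩

theorem sub_evR_mem (x : A →ₐ[k] k) (z : B ⊗[k] A) :
    z - evR x z ⊗ₜ[k] (1 : A) ∈ (RingHom.ker x).map (Algebra.TensorProduct.includeRight : A →ₐ[k] B ⊗[k] A) := by
  induction z with
  | zero => simp
  | tmul b a =>
    have h : b ⊗ₜ[k] a - evR x (b ⊗ₜ[k] a) ⊗ₜ[k] (1 : A) =
        (b ⊗ₜ[k] (1 : A)) * Algebra.TensorProduct.includeRight (a - algebraMap k A (x a)) := by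
      simp only [evR_tmul, Algebra.TensorProduct.includeRight_apply, TensorProduct.tmul_sub, mul_sub,
        Algebra.algebraMap_eq_smul_one, Algebra.TensorProduct.tmul_mul_tmul, one_mul, mul_one, TensorProduct.smul_tmul]
    rw [h]
    exact Ideal.mul_mem_left _ _ (Ideal.mem_map_of_mem _ (by simp [RingHom.mem_ker]))
  | add a b ha hb =>
    rw [map_add, TensorProduct.add_tmul, add_sub_add_comm]
    exact add_mem ha hb

/-- An inverse modulo a power of the maximal ideal of a rational point, with denominators. -/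
theorem exists_inverse (x : A →ₐ[k] k) (N : ℕ) (D : B ⊗[k] A) :
    ∃ G : B ⊗[k] A, ∀ g : B →ₐ[k] k,
      algebraMap k A (g (evR x D) ^ N) - evL g D * evL g G ∈ RingHom.ker x ^ N := by
  let δ : B ⊗[k] A := evR x D ⊗ₜ[k] (1 : A)
  obtain ⟨G, hG⟩ := sub_dvd_pow_sub_pow δ (δ - D) N
  refine ⟨G, fun g => ?_⟩
  have h1 : δ ^ N - D * G ∈ ((RingHom.ker x).map (Algebra.TensorProduct.includeRight : A →ₐ[k] B ⊗[k] A)) ^ N := by
    rw [sub_sub_cancel] at hG
    rw [← hG, sub_sub_cancel]
    refine Ideal.pow_mem_pow ?_ N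
    rw [← neg_sub]
    exact neg_mem (sub_evR_mem x D)
  have h2 := Ideal.mem_map_of_mem (evL g) h1
  rw [Ideal.map_pow, Ideal.map_mapₐ] at h2
  have he : (evL g).comp (Algebra.TensorProduct.includeRight : A →ₐ[k] B ⊗[k] A) = AlgHom.id k A := by
    ext a; simp
  rw [he, Ideal.map_idₐ, map_sub, map_pow, map_mul] at h2
  simpa [δ, Algebra.algebraMap_eq_smul_one, smul_pow] using h2

end Eval

section Loc

variable (A : Subalgebra k K) (x : A →ₐ[k] k)

/-- The local ring of a rational point of the model. -/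
def loc : Subalgebra k K where
  carrier := {f | ∃ a b : A, x b ≠ 0 ∧ f * (b : K) = a}
  mul_mem' := by
    rintro f f' ⟨a, b, hb, h⟩ ⟨a', b', hb', h'⟩
    exact ⟨a * a', b * b', by simp [hb, hb'], by push_cast; rw [← h, ← h']; ring⟩
  add_mem' := by
    rintro f f' ⟨a, b, hb, h⟩ ⟨a', b', hb', h'⟩
    exact ⟨a * b' + a' * b, b * b', by simp [hb, hb'], by push_cast; rw [← h, ← h']; ring⟩
  algebraMap_mem' c := ⟨algebraMap k A c, 1, by simp, by simp⟩

variable {A x}

theorem mem_loc {f : K} : f ∈ loc A x ↔ ∃ a b : A, x b ≠ 0 ∧ f * (b : K) = a := Iff.rfl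

theorem coe_mem_loc (a : A) : (a : K) ∈ loc A x := ⟨a, 1, by simp, by simp⟩

theorem coe_ne_zero {b : A} (hb : x b ≠ 0) : (b : K) ≠ 0 := fun h => hb (by
  rw [Subtype.ext (h.trans (ZeroMemClass.coe_zero A).symm) (a2 := (0 : A)), map_zero])

theorem inv_coe_mem_loc {b : A} (hb : x b ≠ 0) : (b : K)⁻¹ ∈ loc A x :=
  ⟨1, b, hb, by simp [coe_ne_zero hb]⟩

theorem cross_eq {f : K} {a b a' b' : A} (h : f * (b : K) = a) (h' : f * (b' : K) = a') :
    a * b' = a' * b := Subtype.ext (by push_cast; rw [← h, ← h']; ring)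

/-- The value at the point, as a function. -/
noncomputable def valFun (A : Subalgebra k K) (x : A →ₐ[k] k) (f : loc A x) : k :=
  x (mem_loc.mp f.2).choose / x (mem_loc.mp f.2).choose_spec.choose

theorem valFun_eq {f : loc A x} {a b : A} (hb : x b ≠ 0) (h : (f : K) * (b : K) = a) : valFun A x f = x a / x b := by
  obtain ⟨hb', h'⟩ := (mem_loc.mp f.2).choose_spec.choose_spec
  rw [valFun, div_eq_div_iff hb' hb, ← map_mul, ← map_mul, cross_eq h' h]

theorem valFun_coe (a : A) : valFun A x ⟨(a : K), coe_mem_loc a⟩ = x a := by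
  rw [valFun_eq (a := a) (b := 1) (by simp) (by simp), map_one, div_one]

/-- The value at the point. -/
noncomputable def val (A : Subalgebra k K) (x : A →ₐ[k] k) : loc A x →ₐ[k] k where
  toFun := valFun A x
  map_one' := by rw [valFun_eq (a := 1) (b := 1) (by simp) (by simp), map_one, div_one]
  map_zero' := by rw [valFun_eq (a := 0) (b := 1) (by simp) (by simp), map_zero, zero_div]
  map_add' f f' := by
    obtain ⟨a, b, hb, h⟩ := mem_loc.mp f.2
    obtain ⟨a', b', hb', h'⟩ := mem_loc.mp f'.2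
    rw [valFun_eq hb h, valFun_eq hb' h', valFun_eq (a := a * b' + b * a') (b := b * b') (by simp [hb, hb'])
      (by push_cast; linear_combination (b' : K) * h + (b : K) * h'), div_add_div _ _ hb hb']
    simp
  map_mul' f f' := by
    obtain ⟨a, b, hb, h⟩ := mem_loc.mp f.2
    obtain ⟨a', b', hb', h'⟩ := mem_loc.mp f'.2
    rw [valFun_eq hb h, valFun_eq hb' h', valFun_eq (a := a * a') (b := b * b') (by simp [hb, hb'])
      (by push_cast; linear_combination ((f' : K) * (b' : K)) * h + (a : K) * h'), div_mul_div_comm]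
    simp
  commutes' c := by rw [valFun_eq (a := algebraMap k A c) (b := 1) (by simp) (by simp)]; simp

theorem val_eq {f : loc A x} {a b : A} (hb : x b ≠ 0) (h : (f : K) * (b : K) = a) : val A x f = x a / x b :=
  valFun_eq hb h

theorem val_coe (a : A) : val A x ⟨(a : K), coe_mem_loc a⟩ = x a := by
  rw [val_eq (a := a) (b := 1) (by simp) (by simp), map_one, div_one]

theorem inv_mem_loc_iff {f : K} (hf : f ∈ loc A x) :
    (f ≠ 0 ∧ f⁻¹ ∈ loc A x) ↔ val A x ⟨f, hf⟩ ≠ 0 := by
  refine ⟨fun ⟨h0, hi⟩ hv => ?_, fun hv => ?_⟩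
  · have : (⟨f, hf⟩ : loc A x) * ⟨f⁻¹, hi⟩ = 1 := Subtype.ext (by simp [h0])
    have h := congrArg (val A x) this
    rw [map_mul, map_one, hv, zero_mul] at h
    exact zero_ne_one h
  · obtain ⟨a, b, hb, h⟩ := mem_loc.mp hf
    rw [val_eq (f := ⟨f, hf⟩) hb h] at hv
    have ha : x a ≠ 0 := fun e => hv (by simp [e])
    have hf0 : f ≠ 0 := fun e => coe_ne_zero ha (by rw [← h, e, zero_mul])
    exact ⟨hf0, b, a, ha, by rw [← h]; field_simp⟩

theorem isUnit_mk {b : A} (hb : x b ≠ 0) (N : ℕ) : IsUnit (Ideal.Quotient.mk (RingHom.ker x ^ N) b) := by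
  obtain ⟨G, hG⟩ := sub_dvd_pow_sub_pow (algebraMap k A (x b)) (algebraMap k A (x b) - b) N
  rw [sub_sub_cancel] at hG
  have h1 : (algebraMap k A (x b) - b) ^ N ∈ RingHom.ker x ^ N := Ideal.pow_mem_pow (by simp [RingHom.mem_ker]) N
  have h2 : Ideal.Quotient.mk (RingHom.ker x ^ N) (b * G) = algebraMap k (A ⧸ RingHom.ker x ^ N) (x b ^ N) := by
    rw [← hG, map_sub, Ideal.Quotient.eq_zero_iff_mem.mpr h1, sub_zero, ← map_pow]
    rfl
  rw [map_mul] at h2
  exact isUnit_of_mul_isUnit_left (h2 ▸ (isUnit_iff_ne_zero.mpr (pow_ne_zero N hb)).map _)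

/-- The jet of order `N` at the point of an element of the local ring. -/
noncomputable def jet (A : Subalgebra k K) (x : A →ₐ[k] k) (N : ℕ) (f : loc A x) : A ⧸ RingHom.ker x ^ N :=
  Ideal.Quotient.mk (RingHom.ker x ^ N) (mem_loc.mp f.2).choose * ↑(isUnit_mk (mem_loc.mp f.2).choose_spec.choose_spec.1 N).unit⁻¹

theorem jet_mul {f : loc A x} {a b : A} (hb : x b ≠ 0) (h : (f : K) * (b : K) = a) (N : ℕ) :
    jet A x N f * Ideal.Quotient.mk (RingHom.ker x ^ N) b = Ideal.Quotient.mk (RingHom.ker x ^ N) a := by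
  obtain ⟨hb', h'⟩ := (mem_loc.mp f.2).choose_spec.choose_spec
  have e : Ideal.Quotient.mk (RingHom.ker x ^ N) (mem_loc.mp f.2).choose * Ideal.Quotient.mk _ b =
      Ideal.Quotient.mk (RingHom.ker x ^ N) a * Ideal.Quotient.mk _ (mem_loc.mp f.2).choose_spec.choose := by
    rw [← map_mul, cross_eq h' h, map_mul]
  rw [jet, mul_right_comm, e, mul_assoc, IsUnit.mul_val_inv, mul_one]

/-- Jets separate the local ring. -/
theorem exists_jet_ne (hA : A.FG) {f f' : loc A x} (hne : f ≠ f') : ∃ N, jet A x N f ≠ jet A x N f' := by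
  obtain ⟨a, b, hb, h⟩ := mem_loc.mp f.2
  obtain ⟨a', b', hb', h'⟩ := mem_loc.mp f'.2
  have hd : a * b' - a' * b ≠ 0 := fun h0 => hne (Subtype.ext (by
    have := congrArg Subtype.val (sub_eq_zero.mp h0)
    push_cast at this
    rw [← h, ← h'] at this
    exact mul_right_cancel₀ (mul_ne_zero (coe_ne_zero hb) (coe_ne_zero hb')) (by linear_combination this)))
  haveI : Algebra.FiniteType k A := (Subalgebra.fg_iff_finiteType _).mp hA
  haveI : IsNoetherianRing A := Algebra.FiniteType.isNoetherianRing k A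
  have hJ : RingHom.ker x ≠ ⊤ := RingHom.ker_ne_top _
  obtain ⟨N, hN⟩ : ∃ N, a * b' - a' * b ∉ RingHom.ker x ^ N := by
    by_contra! hall
    have : a * b' - a' * b ∈ ⨅ i : ℕ, RingHom.ker x ^ i := Ideal.mem_iInf.mpr hall
    rw [Ideal.iInf_pow_eq_bot_of_isDomain _ hJ] at this
    exact hd this
  refine ⟨N, fun e => hN ?_⟩
  rw [← Ideal.Quotient.eq, map_mul, map_mul, ← jet_mul hb h N, ← jet_mul hb' h' N, e]
  ring

end Loc

end Groth.Agent.AGStr.Chev
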