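import Groth.Agent.AGStr.Chev.Points
import Groth.Agent.GrpSchLib.ReducedPoints
import Groth.Agent.GrpSchLib.MonoSubgroup
import Groth.Agent.GrpSchLib.FieldReduced
import Groth.Agent.GrpSchLib.PerfectSmooth
import Groth.Agent.GrpSchLib.Affinization
import Groth.Agent.AGStr.FixedFaithful
import Groth.Agent.H23.RedSub
import Groth.Agent.VarDim.Top
import Mathlib.Topology.Sober
import Mathlib.Topology.KrullDimension

/-!
Closed subgroups given by their rational points, and an affineness criterion: the functions separate
the rational points.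
-/

set_option autoImplicit false

universe u

open CategoryTheory CategoryTheory.Limits AlgebraicGeometry MonoidalCategory CartesianMonoidalCategory MonObj GrpObj

namespace Groth.Agent.AGStr.Chev

variable {k : Type u} [Field k] [IsAlgClosed k]

omit [IsAlgClosed k] in
theorem spec_self : Spec.map (CommRingCat.ofHom (algebraMap k k)) = 𝟙 (Spec (CommRingCat.of k)) := Spec.map_id _

theorem point_comp {X : Over (Spec (CommRingCat.of k))} (r : pts k k ⟶ X) : r.left ≫ X.hom = 𝟙 _ :=
  (Over.w r).trans spec_self

theorem point_ext {X : Over (Spec (CommRingCat.of k))} [LocallyOfFiniteType X.hom] {r r' : pts k k ⟶ X}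
    (h : r.left (IsLocalRing.closedPoint k) = r'.left (IsLocalRing.closedPoint k)) : r = r' :=
  Over.OverMorphism.ext (ext_of_apply_closedPoint_eq X.hom (point_comp r) (point_comp r') h)

theorem point_closed {X : Over (Spec (CommRingCat.of k))} [LocallyOfFiniteType X.hom] (r : pts k k ⟶ X) :
    IsClosed ({r.left (IsLocalRing.closedPoint k)} : Set X.left) :=
  ((pointEquivClosedPoint X.hom) ⟨r.left, point_comp r⟩).2

theorem point_exists {X : Over (Spec (CommRingCat.of k))} [LocallyOfFiniteType X.hom] {x : X.left}
    (hx : IsClosed ({x} : Set X.left)) : ∃ r : pts k k ⟶ X, r.left (IsLocalRing.closedPoint k) = x :=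
  GrpSchLib.exists_point_of_isClosed (K := k) X hx

/-- Every nonempty locally closed set contains a rational point. -/
theorem point_exists_mem {X : Over (Spec (CommRingCat.of k))} [LocallyOfFiniteType X.hom] {Z : Set X.left}
    (hZ : IsLocallyClosed Z) (hne : Z.Nonempty) : ∃ r : pts k k ⟶ X, r.left (IsLocalRing.closedPoint k) ∈ Z := by
  haveI : JacobsonSpace X.left := LocallyOfFiniteType.jacobsonSpace X.hom
  obtain ⟨x, hx, hxc⟩ := nonempty_inter_closedPoints hne hZ
  obtain ⟨r, rfl⟩ := point_exists hxc
  exact ⟨r, hx⟩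

theorem hom_ext_points {W Y : Over (Spec (CommRingCat.of k))} [LocallyOfFiniteType W.hom] [IsReduced W.left]
    [LocallyOfFiniteType Y.hom] [IsSeparated Y.hom] {f g : W ⟶ Y} (h : ∀ r : pts k k ⟶ W, r ≫ f = r ≫ g) : f = g := by
  haveI : LocallyOfFiniteType (f.left ≫ Y.hom) := by rw [Over.w f]; infer_instance
  refine Over.OverMorphism.ext (ext_of_apply_eq Y.hom Set.univ isClosed_univ.isLocallyClosed dense_univ (fun x _ hx => ?_)
    (by rw [Over.w f, Over.w g]))
  obtain ⟨r, rfl⟩ := point_exists hx
  rw [← Scheme.Hom.comp_apply, ← Scheme.Hom.comp_apply, ← Over.comp_left, ← Over.comp_left, h]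

variable {G : Over (Spec (CommRingCat.of k))} [GrpObj G] [LocallyOfFiniteType G.hom]

/-- A closed set whose rational points form a subgroup underlies a smooth closed subgroup scheme. -/
theorem exists_closedSubgroup [QuasiCompact G.hom] (S : Subgroup (pts k k ⟶ G)) (T : Set G.left) (hT : IsClosed T)
    (hS : ∀ g : pts k k ⟶ G, g.left (IsLocalRing.closedPoint k) ∈ T ↔ g ∈ S) :
    ∃ (H : Over (Spec (CommRingCat.of k))) (_ : GrpObj H) (i : H ⟶ G), IsMonHom i ∧ IsClosedImmersion i.left ∧
      IsReduced H.left ∧ Smooth H.hom ∧ LocallyOfFiniteType H.hom ∧ QuasiCompact H.hom ∧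
      ∀ g : pts k k ⟶ G, (∃ r : pts k k ⟶ H, r ≫ i = g) ↔ g ∈ S := by
  let I := Scheme.IdealSheafData.vanishingIdeal (⟨T, hT⟩ : TopologicalSpace.Closeds G.left)
  let H : Over (Spec (CommRingCat.of k)) := Over.mk (I.subschemeι ≫ G.hom)
  let i : H ⟶ G := Over.homMk I.subschemeι rfl
  haveI : IsReduced H.left := H23.RedSub.isReduced_vanishingIdeal _
  haveI : IsClosedImmersion i.left := inferInstanceAs (IsClosedImmersion I.subschemeι)
  haveI : LocallyOfFiniteType H.hom := inferInstanceAs (LocallyOfFiniteType (I.subschemeι ≫ G.hom))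
  haveI : QuasiCompact H.hom := inferInstanceAs (QuasiCompact (I.subschemeι ≫ G.hom))
  haveI : Mono i := (Over.forget _).mono_of_mono_map (inferInstanceAs (Mono i.left))
  have hr : Set.range i.left = T := H23.RedSub.range_vanishingIdeal _
  have hmem : ∀ g : pts k k ⟶ G, (∃ r : pts k k ⟶ H, r ≫ i = g) ↔ g ∈ S := by
    intro g
    rw [← hS, ← hr]
    constructor
    · rintro ⟨r, rfl⟩; exact ⟨_, rfl⟩
    · rintro ⟨h, hh⟩
      obtain ⟨r, hr'⟩ := point_exists (X := H) (x := h) (by
        rw [← i.left.injective.preimage_image {h}, Set.image_singleton, hh]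
        exact (point_closed g).preimage i.left.continuous)
      exact ⟨r, point_ext (by rw [Over.comp_left, Scheme.Hom.comp_apply, hr', hh])⟩
  haveI : LocallyOfFiniteType (H ⊗ H).hom := by
    show LocallyOfFiniteType (pullback.fst H.hom H.hom ≫ H.hom); infer_instance
  haveI : IsReduced (H ⊗ H).left := GrpSchLib.isReduced_pullback_of_perfectField H.hom H.hom
  haveI : LocallyOfFiniteType (𝟙_ (Over (Spec (CommRingCat.of k)))).hom := inferInstanceAs (LocallyOfFiniteType (𝟙 _))
  haveI : IsReduced (𝟙_ (Over (Spec (CommRingCat.of k)))).left := inferInstanceAs (IsReduced (Spec (CommRingCat.of k)))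
  have hl : ∀ (W : Over (Spec (CommRingCat.of k))) (_ : LocallyOfFiniteType W.hom) (_ : IsReduced W.left) (f : W ⟶ G),
      (∀ r : pts k k ⟶ W, r ≫ f ∈ S) → ∃ f' : W ⟶ H, f' ≫ i = f :=
    fun W _ _ f hf => GrpSchLib.exists_fac_of_points (K := k) f i fun r => (hmem _).mpr (hf r)
  obtain ⟨e, he⟩ := hl _ inferInstance inferInstance η[G] fun r => by
    rw [show r ≫ η[G] = 1 by rw [Hom.one_def]; congr 1; exact toUnit_unique _ _]
    exact S.one_mem
  obtain ⟨m, hm⟩ := hl _ inferInstance inferInstance ((fst H H ≫ i) * (snd H H ≫ i)) fun r => by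
    rw [MonObj.comp_mul]
    exact S.mul_mem ((hmem _).mp ⟨r ≫ fst H H, Category.assoc _ _ _⟩) ((hmem _).mp ⟨r ≫ snd H H, Category.assoc _ _ _⟩)
  obtain ⟨v, hv⟩ := hl _ inferInstance inferInstance i⁻¹ fun r => by
    rw [GrpObj.comp_inv]
    exact S.inv_mem ((hmem _).mp ⟨r, rfl⟩)
  obtain ⟨str, hi⟩ := GrpSchLib.exists_grpObj_of_mono i e he m hm v hv
  letI := str
  exact ⟨H, str, i, hi, inferInstance, inferInstance, GrpSchLib.smooth_of_perfectField_of_isReduced H, inferInstance,
    inferInstance, hmem⟩

/-- A group whose functions separate the rational points from the origin is affine. -/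
theorem isAffine_of_separated {H : Over (Spec (CommRingCat.of k))} [GrpObj H] [LocallyOfFiniteType H.hom] [QuasiCompact H.hom]
    (hsep : ∀ s : pts k k ⟶ H, s ≠ 1 → ∃ f : H ⟶ pts k (Polynomial k), s ≫ f ≠ 1 ≫ f) :
    IsAffine H.left := by
  obtain ⟨I, _, p, hp, hI, hlft, -, -, hb⟩ := GrpSchLib.Affinization.exists_affinization H
  haveI := hp; haveI := hI; haveI := hlft
  haveI : QuasiCompact (p.left ≫ I.hom) := by rw [Over.w p]; infer_instance
  haveI : IsSeparated I.hom := inferInstance
  haveI : QuasiCompact p.left := QuasiCompact.of_comp p.left I.hom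
  haveI : IsFinite p.left := by
    refine isFinite_of_ker_points p fun g hg => ?_
    let toU : pts k k ⟶ 𝟙_ (Over (Spec (CommRingCat.of k))) := toUnit _
    let s : pts k k ⟶ H := toU ≫ g
    suffices hs : s = 1 by
      refine Over.OverMorphism.ext ?_
      have h1 : s.left = (1 : pts k k ⟶ H).left := congrArg CommaMorphism.left hs
      rw [Over.comp_left, show toU.left = 𝟙 _ from spec_self, Category.id_comp] at h1
      rw [h1, Hom.one_def, Over.comp_left, show (toUnit (pts k k)).left = 𝟙 _ from spec_self]
      exact Category.id_comp _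
    by_contra hne
    obtain ⟨f, hf⟩ := hsep s hne
    refine hf ?_
    have hsp : s ≫ p = 1 ≫ p := by
      rw [MonObj.one_comp, Category.assoc, hg, Hom.one_def]
    haveI : IsAffine (pts k (Polynomial k)).left := inferInstanceAs (IsAffine (Spec _))
    refine Over.OverMorphism.ext (ext_of_isAffine ?_)
    refine CommRingCat.hom_ext (RingHom.ext fun y => ?_)
    obtain ⟨z, hz⟩ := hb.surjective (f.left.appTop y)
    simp only [Over.comp_left, Scheme.Hom.comp_appTop]
    show s.left.appTop (f.left.appTop y) = (1 : pts k k ⟶ H).left.appTop (f.left.appTop y)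
    rw [← hz]
    show (p.left.appTop ≫ s.left.appTop) z = (p.left.appTop ≫ (1 : pts k k ⟶ H).left.appTop) z
    rw [← Scheme.Hom.comp_appTop, ← Scheme.Hom.comp_appTop, ← Over.comp_left, ← Over.comp_left, hsp]
  exact isAffine_of_isAffineHom p.left

/-- An infinite set of rational points gives positive dimension. -/
theorem krullDim_pos {X : Over (Spec (CommRingCat.of k))} [LocallyOfFiniteType X.hom] [QuasiCompact X.hom]
    (h : Infinite (pts k k ⟶ X)) : 0 < topologicalKrullDim X.left := by
  haveI : IsLocallyNoetherian X.left := LocallyOfFiniteType.isLocallyNoetherian X.hom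
  haveI : CompactSpace X.left := QuasiCompact.compactSpace_of_compactSpace X.hom
  haveI : IsNoetherian X.left := {}
  by_contra hle
  push Not at hle
  rw [VarDim.topologicalKrullDim_eq_iSup_height, iSup_le_iff] at hle
  have hcl : ∀ x y : X.left, x ⤳ y → x = y := by
    intro x y hxy
    by_contra hne
    have h1 : Order.height x = 0 := by
      have := hle x
      exact_mod_cast le_antisymm (by exact_mod_cast this) bot_le
    have hlt : y < x := lt_of_le_not_ge hxy fun h' => hne (Specializes.antisymm hxy h').eq
    have := Order.height_strictMono hlt (lt_top_iff_ne_top.mpr (by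
      exact ne_top_of_le_ne_top (by rw [h1]; simp) (Order.height_mono hlt.le)))
    rw [h1] at this
    exact not_lt_bot this
  suffices Finite (pts k k ⟶ X) from not_finite (pts k k ⟶ X)
  haveI : Finite X.left := by
    have hfin := TopologicalSpace.NoetherianSpace.finite_irreducibleComponents (α := X.left)
    haveI := hfin.to_subtype
    refine Finite.of_injective (fun x : X.left => (⟨closure {x}, ?_⟩ : irreducibleComponents X.left)) fun x y e => ?_
    · rw [irreducibleComponents_eq_maximals_closed]
      refine ⟨⟨isClosed_closure, isIrreducible_singleton.closure⟩, fun Z ⟨hZc, hZi⟩ hle' => ?_⟩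
      obtain ⟨z, hz⟩ := QuasiSober.sober hZi hZc
      have := hcl z x (hz.specializes (hle' (subset_closure rfl)))
      subst this
      exact hz.def.ge
    · have h1 : x ⤳ y := specializes_iff_mem_closure.mpr (by rw [show closure {x} = closure {y} from congrArg Subtype.val e]; exact subset_closure rfl)
      exact hcl x y h1
  exact Finite.of_injective (fun r : pts k k ⟶ X => r.left (IsLocalRing.closedPoint k)) fun _ _ => point_ext

end Groth.Agent.AGStr.Chev
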