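import Groth.Agent.AGStr.Chev.Isotropy
import Groth.Agent.AGStr.Chev.Invariant
import Groth.Agent.AGStr.Chev.Subgroup
import Groth.Agent.AGStr.Neutral
import Groth.Agent.ConsPropLib.FibreProper
import Groth.Agent.GrpSchLib.SmoothReduced

/-!
Rosenlicht's theorem: a nonproper algebraic group over an algebraically closed field contains an
affine smooth subgroup of positive dimension.
-/

set_option autoImplicit false
set_option maxHeartbeats 1000000

universe u

open CategoryTheory CategoryTheory.Limits AlgebraicGeometry MonoidalCategory CartesianMonoidalCategory MonObj GrpObj TensorProduct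

namespace Groth.Agent.AGStr.Chev

variable {k : Type u} [Field k] [IsAlgClosed k]

omit [IsAlgClosed k] in
theorem cst_self {G : Over (Spec (CommRingCat.of k))} (g : pts k k ⟶ G) : cst g k = g := by
  rw [cst, show Algebra.ofId k k = AlgHom.id k k from Subsingleton.elim _ _, pm_id, Category.id_comp]

theorem exists_affine_subgroup_irreducible (G : Over (Spec (CommRingCat.of k))) [GrpObj G] [LocallyOfFiniteType G.hom]
    [QuasiCompact G.hom] [IrreducibleSpace G.left] [IsReduced G.left] (hG : ¬ IsProper G.hom) :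
    ∃ (H : Over (Spec (CommRingCat.of k))) (_ : GrpObj H) (i : H ⟶ G), IsMonHom i ∧ IsClosedImmersion i.left ∧
      Smooth H.hom ∧ IsAffine H.left ∧ LocallyOfFiniteType H.hom ∧ QuasiCompact H.hom ∧
      Infinite (pts k k ⟶ H) := by
  classical
  haveI := GrpSchLib.AntiAffine.isSeparated_grp G
  haveI : JacobsonSpace G.left := LocallyOfFiniteType.jacobsonSpace G.hom
  -- a chart and the function field
  obtain ⟨B, _, _, j, hj, hzj⟩ := exists_chart G (genericPoint G.left)
  haveI : Nonempty (pts k B).left := by obtain ⟨w, -⟩ := hzj; exact ⟨w⟩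
  haveI : IsIntegral G.left := isIntegral_of_irreducibleSpace_of_isReduced _
  haveI : IsIntegral (pts k B).left := isIntegral_of_isOpenImmersion j.left
  haveI : IsDomain B := (affine_isIntegral_iff (CommRingCat.of B)).mp (show IsIntegral (pts k B).left from inferInstance)
  haveI : Algebra.FiniteType k B := by
    haveI : LocallyOfFiniteType (j.left ≫ G.hom) := inferInstance
    rw [Over.w j] at this
    exact RingHom.finiteType_algebraMap.mp ((HasRingHomProperty.Spec_iff (P := @LocallyOfFiniteType)).mp this)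
  let K := FractionRing B
  obtain ⟨n, -, hnB⟩ := VarDim.exists_dim_eq_trdeg k B
  have hn : Algebra.trdeg k K = n := by
    haveI : FaithfulSMul k B := (faithfulSMul_iff_algebraMap_injective k B).mpr (algebraMap k B).injective
    haveI : Algebra.IsAlgebraic B K := IsLocalization.isAlgebraic K (nonZeroDivisors B)
    have h := trdeg_add_eq k B (A := K)
    rw [trdeg_eq_zero (R := B) (A := K), add_zero, hnB] at h
    exact h.symm
  obtain ⟨σ, hσ, hση⟩ := exists_sigma j (K := K)
  obtain ⟨O, hk, hOtop, hres, hO⟩ := exists_invariant j (K := K) hG hn σ hση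
  have hfg : ∃ t : Finset K, IntermediateField.adjoin k (t : Set K) = ⊤ := by
    obtain ⟨t, ht⟩ := ‹Algebra.FiniteType k B›
    refine ⟨t.image (algebraMap B K), top_unique fun x _ => ?_⟩
    obtain ⟨a, b, -, rfl⟩ := IsFractionRing.div_surjective B x
    have hmem : ∀ a : B, algebraMap B K a ∈ IntermediateField.adjoin k ((t.image (algebraMap B K) : Finset K) : Set K) := by
      intro a
      have ha : a ∈ Algebra.adjoin k (t : Set B) := ht ▸ Algebra.mem_top
      refine IntermediateField.algebra_adjoin_le_adjoin k _ ?_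
      rw [Finset.coe_image]
      exact (AlgHom.map_adjoin (IsScalarTower.toAlgHom k B K) (t : Set B)) ▸ ⟨a, ha, rfl⟩
    exact IntermediateField.div_mem _ (hmem a) (hmem b)
  obtain ⟨A, p, hA, hM, htr⟩ := exists_model O hk hfg hn hOtop hres
  haveI := hA
  haveI : Algebra.FiniteType k A := (Subalgebra.fg_iff_finiteType _).mp hM.fg
  -- translation of functions as fractions on `B ⊗ A`
  let jA : B ⊗[k] A →ₐ[k] B ⊗[k] K := Algebra.TensorProduct.map (AlgHom.id k B) A.val
  have hjA : ∀ (g : B →ₐ[k] k) z, evL g (jA z) = ((evL g z : A) : K) := fun g z => by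
    induction z with
    | zero => simp
    | tmul b a => simp [jA]
    | add a b ha hb => simp [ha, hb]
  have hscale : ∀ z : B ⊗[k] K, ∃ (d : A) (w : B ⊗[k] A), (d : K) ≠ 0 ∧ ((1 : B) ⊗ₜ[k] (d : K)) * z = jA w := by
    intro z
    induction z with
    | zero => exact ⟨1, 0, by simp, by simp⟩
    | tmul b a =>
      obtain ⟨x, y, hy, rfl⟩ := IsFractionRing.div_surjective A a
      have hy0 : (y : K) ≠ 0 := fun h => nonZeroDivisors.ne_zero hy (Subtype.ext h)
      refine ⟨y, b ⊗ₜ x, hy0, ?_⟩
      show ((1 : B) ⊗ₜ[k] (y : K)) * (b ⊗ₜ[k] ((x : K) / (y : K))) = b ⊗ₜ[k] (x : K)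
      rw [Algebra.TensorProduct.tmul_mul_tmul, _root_.one_mul, mul_div_cancel₀ _ hy0]
    | add a b ha hb =>
      obtain ⟨d, t, hd, ht⟩ := ha
      obtain ⟨d', t', hd', ht'⟩ := hb
      refine ⟨d * d', ((1 : B) ⊗ₜ[k] d') * t + ((1 : B) ⊗ₜ[k] d) * t', by simp [hd, hd'], ?_⟩
      rw [map_add, map_mul, map_mul, ← ht, ← ht',
        show jA ((1 : B) ⊗ₜ[k] d') = (1 : B) ⊗ₜ[k] (d' : K) from rfl,
        show jA ((1 : B) ⊗ₜ[k] d) = (1 : B) ⊗ₜ[k] (d : K) from rfl, Subalgebra.coe_mul, mul_add, ← _root_.mul_assoc,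
        ← _root_.mul_assoc, Algebra.TensorProduct.tmul_mul_tmul, Algebra.TensorProduct.tmul_mul_tmul, _root_.one_mul,
        mul_comm (d' : K) (d : K)]
  haveI : IsDomain (B ⊗[k] A) := GrpSchLib.isDomain_tensor_of_isAlgClosed
  have hevne : ∀ z : B ⊗[k] A, z ≠ 0 → ∃ g : B →ₐ[k] k, evL g z ≠ 0 := fun z hz => by
    haveI : Algebra.FiniteType k (B ⊗[k] A) := (inferInstance : Algebra.FiniteType k B).trans inferInstance
    obtain ⟨ψ, hψ⟩ := Obs28.exists_point_ne_zero (k := k) hz
    refine ⟨ψ.comp Algebra.TensorProduct.includeLeft, fun e => hψ ?_⟩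
    let x : A →ₐ[k] k := ψ.comp Algebra.TensorProduct.includeRight
    have h : ∀ w, x (evL (ψ.comp Algebra.TensorProduct.includeLeft) w) = ψ w := fun w => by
      induction w with
      | zero => simp
      | tmul b a => simp [x, ← map_mul]
      | add a b ha hb => simp [ha, hb]
    rw [← h, e, map_zero]
  have hrepB : ∀ (τ : G ⟶ G) (b : B), ∃ c h : B ⊗[k] A, h ≠ 0 ∧ ∀ g, evL g h ≠ 0 →
      σ (pm g ≫ j ≫ τ) (algebraMap B K b) * (evL g h : A) = (evL g c : A) := by
    intro τ b
    obtain ⟨c, h, hh, hev, -⟩ := exists_repr_chart j σ hση τ b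
    obtain ⟨d, w, hd, hw⟩ := hscale h
    obtain ⟨d', w', hd', hw'⟩ := hscale c
    haveI : IsDomain (B ⊗[k] K) := GrpSchLib.isDomain_tensor_of_isAlgClosed
    refine ⟨((1 : B) ⊗ₜ[k] d) * w', ((1 : B) ⊗ₜ[k] d') * w, fun e => ?_, fun g hg => ?_⟩
    · have e1 := congrArg jA e
      rw [map_mul, map_zero, ← hw, show jA ((1 : B) ⊗ₜ[k] d') = (1 : B) ⊗ₜ[k] (d' : K) from rfl] at e1
      rcases mul_eq_zero.mp e1 with e2 | e2
      · exact hd' (Algebra.TensorProduct.includeRight_injective (algebraMap k B).injective (e2.trans (map_zero _).symm))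
      · rcases mul_eq_zero.mp e2 with e3 | e3
        · exact hd (Algebra.TensorProduct.includeRight_injective (algebraMap k B).injective (e3.trans (map_zero _).symm))
        · exact hh e3
    · have hgh : evL g h ≠ 0 := by
        intro h0
        apply hg
        refine Subtype.ext ?_
        rw [← hjA, map_mul, ← hw, map_mul, map_mul, h0, mul_zero, mul_zero]
        rfl
      rw [← hjA, ← hjA, map_mul jA, map_mul jA, ← hw, ← hw', map_mul, map_mul, map_mul, map_mul,
        show jA ((1 : B) ⊗ₜ[k] d') = (1 : B) ⊗ₜ[k] (d' : K) from rfl,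
        show jA ((1 : B) ⊗ₜ[k] d) = (1 : B) ⊗ₜ[k] (d : K) from rfl, ← hev g hgh]
      simp only [evL_tmul, map_one, one_smul]
      ring
  have hrep : ∀ (τ : G ⟶ G) (f : K), ∃ c h : B ⊗[k] A, h ≠ 0 ∧ ∀ g, evL g h ≠ 0 →
      σ (pm g ≫ j ≫ τ) f * (evL g h : A) = (evL g c : A) := by
    intro τ f
    obtain ⟨b₁, b₂, hb₂, rfl⟩ := IsFractionRing.div_surjective B f
    obtain ⟨c₁, h₁, hh₁, he₁⟩ := hrepB τ b₁
    obtain ⟨c₂, h₂, hh₂, he₂⟩ := hrepB τ b₂
    have hc₂ : c₂ ≠ 0 := by
      intro hc
      obtain ⟨g, hg⟩ := hevne h₂ hh₂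
      have h := he₂ g hg
      rw [hc, map_zero, ZeroMemClass.coe_zero, mul_eq_zero, map_eq_zero] at h
      exact h.elim (fun e => nonZeroDivisors.ne_zero hb₂ (IsFractionRing.injective B K (e.trans (map_zero _).symm)))
        (fun e => hg (Subtype.ext e))
    refine ⟨c₁ * h₂ * h₂, c₂ * h₁ * h₂, mul_ne_zero (mul_ne_zero hc₂ hh₁) hh₂, fun g hg => ?_⟩
    simp only [map_mul, mul_ne_zero_iff] at hg
    have e1 := he₁ g hg.1.2
    have e2 := he₂ g hg.2
    have hb : σ (pm g ≫ j ≫ τ) (algebraMap B K b₂) ≠ 0 := fun e => hg.1.1 (Subtype.ext (by rw [← e2, e, zero_mul]; rfl))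
    simp only [map_mul, map_div₀, Subalgebra.coe_mul]
    rw [← e1, ← e2, div_mul_eq_mul_div, div_eq_iff hb]
    ring
  obtain ⟨S, h₁, u, Z, hmemS, hinf, ⟨g₁, hg₁u, hg₁⟩, hsep⟩ := exists_isotropy σ hσ
    (fun s hs => eq_one_of_sigma j σ hση s hs) hM hO (fun g => pm g ≫ j)
    (fun f => by simpa using hrep (𝟙 G) f)
    (fun f => by
      obtain ⟨c, h, hh, he⟩ := hrep ((𝟙 G : G ⟶ G)⁻¹) f
      refine ⟨c, h, hh, fun g hg => ?_⟩
      have := he g hg
      rwa [GrpObj.comp_inv, GrpObj.comp_inv, Category.comp_id] at this)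
    (hnB ▸ htr)
  -- the subgroup is closed
  let pt0 : (pts k k ⟶ G) → G.left := fun g => g.left (IsLocalRing.closedPoint k)
  let T := closure (pt0 '' S)
  have hptB : ∀ g : B →ₐ[k] k, pt0 (pm g ≫ j) = j.left ((pm g).left (IsLocalRing.closedPoint k)) := fun g => rfl
  let Dset : B → Set (pts k B).left := fun b => {w : PrimeSpectrum B | b ∉ w.asIdeal}
  have hDo : ∀ b, IsOpen (Dset b) := fun b => (PrimeSpectrum.basicOpen b).2
  have hbasic : ∀ (g : B →ₐ[k] k) (b : B), (pm g).left (IsLocalRing.closedPoint k) ∈ Dset b ↔ g b ≠ 0 := by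
    intro g b
    show b ∉ Ideal.comap g.toRingHom (IsLocalRing.maximalIdeal k) ↔ _
    rw [Ideal.mem_comap, IsLocalRing.mem_maximalIdeal, mem_nonunits_iff, not_not, isUnit_iff_ne_zero]
    rfl
  have hpoint : ∀ v : pts k k ⟶ G, ∀ w : (pts k B).left, j.left w = pt0 v → ∃ g : B →ₐ[k] k, v = pm g ≫ j ∧
      (pm g).left (IsLocalRing.closedPoint k) = w := by
    intro v w hw
    obtain ⟨g, rfl⟩ := exists_lift_point j v ⟨w, hw⟩
    exact ⟨g, rfl, j.left.isOpenEmbedding.injective hw.symm⟩
  let W : Set G.left := j.left '' Dset u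
  have hWo : IsOpen W := j.left.isOpenEmbedding.isOpenMap _ (hDo u)
  have htransl : ∀ a v : pts k k ⟶ G, (transl a).left (pt0 v) = pt0 (a * v) := by
    intro a v
    show _ = (a * v).left _
    rw [← cst_self a, ← comp_transl, cst_self]
    rfl
  have hclosed : ∀ g : pts k k ⟶ G, pt0 g ∈ T ↔ g ∈ S := by
    refine fun g => ⟨fun hg => ?_, fun hg => subset_closure ⟨g, hg, rfl⟩⟩
    -- a point of the subgroup close to `g`
    let ρ : G ⟶ G := transl h₁
    let inv_g : G ⟶ G := (𝟙 G)⁻¹ * (toPt G ≫ g)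
    have hρ : ∀ s : pts k k ⟶ G, s ≫ inv_g = s⁻¹ * g := fun s => by
      rw [MonObj.comp_mul, GrpObj.comp_inv, Category.comp_id, ← Category.assoc, toPt_unique (s ≫ toPt G) (𝟙 _),
        Category.id_comp]
    have hopen : IsOpen (inv_g.left ⁻¹' (ρ.left ⁻¹' W)) :=
      (hWo.preimage ρ.left.continuous).preimage inv_g.left.continuous
    have hgmem : pt0 g ∈ inv_g.left ⁻¹' (ρ.left ⁻¹' W) := by
      show ρ.left (inv_g.left (pt0 g)) ∈ W
      rw [show inv_g.left (pt0 g) = pt0 (g ≫ inv_g) from rfl, hρ, inv_mul_cancel, htransl, _root_.mul_one, ← hg₁, hptB]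
      exact ⟨_, (hbasic g₁ u).mpr hg₁u, rfl⟩
    obtain ⟨_, hsW, s, hs, rfl⟩ := mem_closure_iff.mp hg _ hopen hgmem
    let v := s⁻¹ * g
    have hvT : pt0 v ∈ T := by
      have h1 := image_closure_subset_closure_image (transl s⁻¹).left.continuous ⟨_, hg, rfl⟩
      rw [htransl] at h1
      refine closure_mono ?_ h1
      rintro _ ⟨_, ⟨t, ht, rfl⟩, rfl⟩
      exact ⟨s⁻¹ * t, S.mul_mem (S.inv_mem hs) ht, (htransl _ _).symm⟩
    obtain ⟨w, hwu, hw⟩ : ρ.left (pt0 v) ∈ W := by
      have : inv_g.left (pt0 s) = pt0 v := by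
        show pt0 (s ≫ inv_g) = _
        rw [hρ]
      rw [← this]; exact hsW
    rw [htransl] at hw
    obtain ⟨g', hg', rfl⟩ := hpoint _ w hw
    have hg'u := (hbasic g' u).mp hwu
    suffices hvS : v ∈ S by simpa [v] using S.mul_mem hs hvS
    have hv : v = h₁⁻¹ * (pm g' ≫ j) := by rw [← hg', inv_mul_cancel_left]
    rw [hv, hmemS g' hg'u]
    intro z hz
    by_contra hne
    let O' : Set G.left := ρ.left ⁻¹' (j.left '' Dset (u * z))
    have hO' : IsOpen O' :=
      (j.left.isOpenEmbedding.isOpenMap _ (hDo (u * z))).preimage ρ.left.continuous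
    have hvO : pt0 v ∈ O' := by
      show ρ.left (pt0 v) ∈ (j.left '' Dset (u * z) : Set G.left)
      rw [htransl, hg', hptB]
      exact ⟨_, (hbasic g' (u * z)).mpr (by rw [map_mul]; exact mul_ne_zero hg'u hne), rfl⟩
    obtain ⟨_, hO2, t, ht, rfl⟩ := mem_closure_iff.mp hvT _ hO' hvO
    have hO3 : pt0 (h₁ * t) ∈ j.left '' Dset (u * z) := htransl h₁ t ▸ hO2
    obtain ⟨w', hw'u, hw'⟩ := hO3
    obtain ⟨g'', hg'', rfl⟩ := hpoint _ w' hw'
    have h2 := (hbasic g'' (u * z)).mp hw'u
    rw [map_mul, mul_ne_zero_iff] at h2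
    refine h2.2 ((hmemS g'' h2.1).mp ?_ z hz)
    show h₁⁻¹ * (pm g'' ≫ j) ∈ S
    rw [← hg'', inv_mul_cancel_left]
    exact ht
  obtain ⟨H, _, i, hi, hci, hred, hsm, hlft, hqc, hmem⟩ := exists_closedSubgroup S T isClosed_closure hclosed
  haveI := hlft; haveI := hqc; haveI := hred; haveI := hci; haveI := hi
  refine ⟨H, inferInstance, i, hi, hci, hsm, isAffine_of_separated fun s hs1 => ?_, hlft, hqc, ?_⟩
  · -- jets separate
    have hsS : s ≫ i ∈ S := (hmem _).mp ⟨s, rfl⟩
    have hs1' : s ≫ i ≠ 1 := fun e => hs1 (Over.OverMorphism.ext ((cancel_mono i.left).mp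
      (congrArg CommaMorphism.left (e.trans (MonObj.one_comp i).symm))))
    obtain ⟨Φ, hΦ, hΦreg⟩ := hsep _ hsS hs1'
    have hrS : ∀ r : pts k k ⟶ H, r ≫ i ∈ S := fun r => (hmem _).mp ⟨r, rfl⟩
    choose c d hcd using fun r : pts k k ⟶ H => hΦreg _ (hrS r)
    let R := fun r : pts k k ⟶ H => Localization.Away (u * d r)
    let ιR : ∀ r, B →ₐ[k] R r := fun r => IsScalarTower.toAlgHom k B (R r)
    have hud : ∀ r, IsUnit (ιR r (d r)) := fun r => isUnit_of_mul_isUnit_right (x := ιR r u)
      (by rw [← map_mul]; exact IsLocalization.Away.algebraMap_isUnit _)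
    let φ : ∀ r, Polynomial k →ₐ[k] R r := fun r => Polynomial.aeval (ιR r (c r) * ↑(hud r).unit⁻¹)
    let jc : ∀ r, pts k (R r) ⟶ G := fun r => pm (ιR r) ≫ j ≫ transl ((r ≫ i) * h₁⁻¹)
    haveI hjc : ∀ r, IsOpenImmersion (jc r).left := fun r => by
      haveI : IsOpenImmersion (pm (ιR r)).left := IsOpenImmersion.of_isLocalization (u * d r)
      have h1 : ∀ a : pts k k ⟶ G, transl a ≫ transl a⁻¹ = 𝟙 G := fun a => by rw [transl_comp, inv_mul_cancel, transl_one]
      haveI : IsIso (transl ((r ≫ i) * h₁⁻¹)).left :=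
        ⟨(transl ((r ≫ i) * h₁⁻¹)⁻¹).left, by rw [← Over.comp_left, h1]; rfl,
          by rw [← Over.comp_left, transl_comp, mul_inv_cancel, transl_one]; rfl⟩
      show IsOpenImmersion ((pm (ιR r)).left ≫ j.left ≫ (transl _).left)
      infer_instance
    let P : ∀ r, Over (Spec (CommRingCat.of k)) := fun r => Over.mk (pullback.snd (jc r).left i.left ≫ H.hom)
    let toH : ∀ r, P r ⟶ H := fun r => Over.homMk (pullback.snd (jc r).left i.left) rfl
    let toR : ∀ r, P r ⟶ pts k (R r) := fun r => Over.homMk (pullback.fst (jc r).left i.left) (by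
      show pullback.fst _ _ ≫ (pts k (R r)).hom = _ ≫ H.hom
      rw [← Over.w (jc r), ← Over.w i, pullback.condition_assoc])
    have hsq : ∀ r, toR r ≫ jc r = toH r ≫ i := fun r => Over.OverMorphism.ext pullback.condition
    let F : ∀ r, P r ⟶ pts k (Polynomial k) := fun r => toR r ≫ pm (φ r)
    have hval : ∀ r (q : pts k k ⟶ P r), q ≫ F r = pm (Polynomial.aeval (Φ ((q ≫ toH r) ≫ i))) := by
      intro r q
      obtain ⟨ψ, hψ⟩ := eq_pm (q ≫ toR r)
      have hψu : (ψ.comp (ιR r)) (u * d r) ≠ 0 := ((IsLocalization.Away.algebraMap_isUnit (u * d r)).map ψ).ne_zero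
      rw [map_mul, mul_ne_zero_iff] at hψu
      let g := ψ.comp (ιR r)
      have he : (q ≫ toH r) ≫ i = (r ≫ i) * (h₁⁻¹ * (pm g ≫ j)) := by
        rw [Category.assoc, ← hsq, ← Category.assoc, hψ]
        show pm ψ ≫ pm (ιR r) ≫ j ≫ transl _ = _
        rw [← pm_comp_assoc, ← Category.assoc, comp_transl, cst_self, _root_.mul_assoc]
      have hgS : h₁⁻¹ * (pm g ≫ j) ∈ S := by
        have h2 := hrS (q ≫ toH r)
        rw [he] at h2
        simpa using S.mul_mem (S.inv_mem (hrS r)) h2
      obtain ⟨hgd, hΦe⟩ := hcd r g hψu.1 ((hmemS g hψu.1).mp hgS)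
      show q ≫ toR r ≫ pm (φ r) = _
      rw [← Category.assoc, hψ, ← pm_comp, he, hΦe]
      congr 1
      refine Polynomial.algHom_ext ?_
      show ψ (φ r Polynomial.X) = Polynomial.aeval _ Polynomial.X
      rw [Polynomial.aeval_X, Polynomial.aeval_X, map_mul, eq_div_iff hgd, _root_.mul_assoc]
      show g (c r) * (ψ _ * ψ (ιR r (d r))) = g (c r)
      rw [← map_mul, IsUnit.val_inv_mul, map_one, _root_.mul_one]
    have hlftP : ∀ r, LocallyOfFiniteType (P r).hom := fun r =>
      inferInstanceAs (LocallyOfFiniteType (pullback.snd (jc r).left i.left ≫ H.hom))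
    haveI : JacobsonSpace H.left := LocallyOfFiniteType.jacobsonSpace H.hom
    have hcov : ∀ x : H.left, ∃ r, x ∈ Set.range (toH r).left := by
      by_contra! hne
      obtain ⟨x, hx⟩ := hne
      let U : Set H.left := ⋃ r, Set.range (toH r).left
      have hU : IsOpen U := isOpen_iUnion fun r => by
        haveI : IsOpenImmersion (toH r).left := inferInstanceAs (IsOpenImmersion (pullback.snd (jc r).left i.left))
        exact (toH r).left.isOpenEmbedding.isOpen_range
      obtain ⟨r, hr⟩ := point_exists_mem (X := H) (Z := Uᶜ) hU.isClosed_compl.isLocallyClosed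
        ⟨x, fun hm => by obtain ⟨r, hr⟩ := Set.mem_iUnion.mp hm; exact hx r hr⟩
      refine hr (Set.mem_iUnion.mpr ⟨r, ?_⟩)
      show _ ∈ Set.range (pullback.snd (jc r).left i.left)
      rw [Scheme.Pullback.range_snd]
      have hd1 : g₁ (u * d r) ≠ 0 := by
        rw [map_mul]
        refine mul_ne_zero hg₁u (hcd r g₁ hg₁u ((hmemS g₁ hg₁u).mp ?_)).1
        rw [← hg₁, inv_mul_cancel]
        exact S.one_mem
      let ψ : R r →ₐ[k] k :=
        { IsLocalization.Away.lift (u * d r) (g := g₁.toRingHom) (isUnit_iff_ne_zero.mpr hd1) with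
          commutes' := fun a => by
            show IsLocalization.Away.lift _ (g := g₁.toRingHom) _ (algebraMap k (R r) a) = _
            rw [IsScalarTower.algebraMap_apply k B (R r), IsLocalization.Away.lift_eq]
            exact g₁.commutes a }
      have hψ : pm ψ ≫ jc r = r ≫ i := by
        show pm ψ ≫ pm (ιR r) ≫ j ≫ transl _ = _
        rw [← pm_comp_assoc, show ψ.comp (ιR r) = g₁ from AlgHom.ext fun a => IsLocalization.Away.lift_eq (g := g₁.toRingHom) (u * d r) (isUnit_iff_ne_zero.mpr hd1) a,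
          ← Category.assoc, comp_transl, cst_self, hg₁, inv_mul_cancel_right]
      exact ⟨(pm ψ).left (IsLocalRing.closedPoint k), congrArg (fun m : pts k k ⟶ G => m.left (IsLocalRing.closedPoint k)) hψ⟩
    let 𝒰 : H.left.OpenCover := Scheme.Cover.mkOfCovers (pts k k ⟶ H) (fun r => (P r).left) (fun r => (toH r).left)
      (fun x => by obtain ⟨r, y, hy⟩ := hcov x; exact ⟨r, y, hy⟩)
      (fun r => inferInstanceAs (IsOpenImmersion (pullback.snd (jc r).left i.left)))
    haveI : LocallyOfFiniteType (pts k (Polynomial k)).hom :=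
      (HasRingHomProperty.Spec_iff (P := @LocallyOfFiniteType)).mpr (RingHom.finiteType_algebraMap.mpr inferInstance)
    haveI : IsSeparated (pts k (Polynomial k)).hom := inferInstanceAs (IsSeparated (Spec.map _))
    have hagree : ∀ a b, pullback.fst (𝒰.f a) (𝒰.f b) ≫ (F a).left = pullback.snd (𝒰.f a) (𝒰.f b) ≫ (F b).left := by
      intro a b
      let Q : Over (Spec (CommRingCat.of k)) := Over.mk (pullback.fst (toH a).left (toH b).left ≫ (P a).hom)
      let qa : Q ⟶ P a := Over.homMk (pullback.fst (toH a).left (toH b).left) rfl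
      let qb : Q ⟶ P b := Over.homMk (pullback.snd (toH a).left (toH b).left) (by
        show pullback.snd _ _ ≫ (toH b).left ≫ H.hom = pullback.fst _ _ ≫ (toH a).left ≫ H.hom
        rw [pullback.condition_assoc])
      haveI : IsOpenImmersion (toH b).left := inferInstanceAs (IsOpenImmersion (pullback.snd (jc b).left i.left))
      haveI := hlftP a
      haveI : LocallyOfFiniteType Q.hom :=
        inferInstanceAs (LocallyOfFiniteType (pullback.fst (toH a).left (toH b).left ≫ (P a).hom))
      haveI : IsOpenImmersion (toH a).left := inferInstanceAs (IsOpenImmersion (pullback.snd (jc a).left i.left))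
      haveI : IsReduced (P a).left := isReduced_of_isOpenImmersion (toH a).left
      haveI : IsOpenImmersion qa.left := inferInstanceAs (IsOpenImmersion (pullback.fst (toH a).left (toH b).left))
      haveI : IsReduced Q.left := isReduced_of_isOpenImmersion qa.left
      have h := hom_ext_points (f := qa ≫ F a) (g := qb ≫ F b) fun r => by
        rw [← Category.assoc r qa, ← Category.assoc r qb, hval, hval]
        congr 4
        rw [Category.assoc, Category.assoc]
        congr 1
        exact Over.OverMorphism.ext pullback.condition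
      exact congrArg CommaMorphism.left h
    let f₀ : H.left ⟶ (pts k (Polynomial k)).left := 𝒰.glueMorphisms (fun r => (F r).left) hagree
    let f : H ⟶ pts k (Polynomial k) := Over.homMk f₀ (Scheme.Cover.hom_ext 𝒰 _ _ fun r => by
      rw [Scheme.Cover.«ι_glueMorphisms_assoc»]
      exact Over.w (F r))
    have hf : ∀ r : pts k k ⟶ H, r ≫ f = pm (Polynomial.aeval (Φ (r ≫ i))) := by
      intro r
      obtain ⟨a, y, hy⟩ := hcov (r.left (IsLocalRing.closedPoint k))
      haveI : IsOpenImmersion (toH a).left := inferInstanceAs (IsOpenImmersion (pullback.snd (jc a).left i.left))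
      let l := IsOpenImmersion.lift (toH a).left r.left (by
        rintro _ ⟨z, rfl⟩
        rw [Subsingleton.elim (α := PrimeSpectrum k) z (IsLocalRing.closedPoint k)]
        exact ⟨y, hy⟩)
      let q : pts k k ⟶ P a := Over.homMk l (by
        show l ≫ (toH a).left ≫ H.hom = _
        rw [IsOpenImmersion.lift_fac_assoc]
        exact Over.w r)
      have hq : q ≫ toH a = r := Over.OverMorphism.ext (IsOpenImmersion.lift_fac _ _ _)
      have haF : toH a ≫ f = F a := Over.OverMorphism.ext (Scheme.Cover.«ι_glueMorphisms» 𝒰 _ hagree a)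
      rw [← hq, Category.assoc, haF, hval]
    refine ⟨f, fun e => hΦ ?_⟩
    rw [hf, hf, MonObj.one_comp] at e
    simpa using AlgHom.congr_fun (pm_injective e) Polynomial.X
  · haveI := hinf.to_subtype
    have hS' : ∀ g : {g : B →ₐ[k] k | g u ≠ 0 ∧ ∀ z ∈ Z, g z = 0}, h₁⁻¹ * (pm g.1 ≫ j) ∈ S :=
      fun g => (hmemS g.1 g.2.1).mpr g.2.2
    choose r hr using fun g => (hmem _).mpr (hS' g)
    refine Infinite.of_injective r fun a b e => Subtype.ext (lift_unique j ?_)
    have := (hr a).symm.trans ((congrArg (· ≫ i) e).trans (hr b))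
    exact mul_left_cancel this

/-- A separated scheme of finite type covered by finitely many proper schemes is proper. -/
theorem isProper_of_cover {X S : Scheme.{u}} (f : X ⟶ S) [IsSeparated f] [LocallyOfFiniteType f] {J : Type*} [Finite J]
    {Z : J → Scheme.{u}} (π : ∀ i, Z i ⟶ X) (h : ∀ i, IsProper (π i ≫ f)) (hs : ∀ x : X, ∃ i, x ∈ Set.range (π i)) :
    IsProper f := by
  haveI : ∀ i, UniversallyClosed (π i ≫ f) := fun i => (h i).toUniversallyClosed
  haveI : UniversallyClosed f := ConsPropLib.universallyClosed_of_jointly_surjective f π fun x => by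
    obtain ⟨i, z, hz⟩ := hs x
    exact ⟨i, z, hz⟩
  exact IsProper.mk

/-- Rosenlicht's theorem. -/
theorem exists_affine_subgroup (G : Over (Spec (CommRingCat.of k))) [GrpObj G] [Smooth G.hom] [QuasiCompact G.hom]
    (hG : ¬ IsProper G.hom) :
    ∃ (H : Over (Spec (CommRingCat.of k))) (_ : GrpObj H) (i : H ⟶ G), IsMonHom i ∧ IsClosedImmersion i.left ∧
      Smooth H.hom ∧ IsAffine H.left ∧ LocallyOfFiniteType H.hom ∧ QuasiCompact H.hom ∧
      Infinite (pts k k ⟶ H) ∧ 0 < topologicalKrullDim H.left := by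
  haveI : LocallyOfFiniteType G.hom := inferInstance
  obtain ⟨G₀, _, e, he, heo, hec, hlft, hqc, hconn, hgi, -, hsm, hr⟩ := exists_neutral G
  haveI := he; haveI := heo; haveI := hec; haveI := hlft; haveI := hqc; haveI := hgi
  haveI := hsm inferInstance
  haveI : IsReduced G₀.left := GrpSchLib.isReduced_of_smooth_field G₀.hom
  haveI : UniversallyOpen G₀.hom := inferInstance
  haveI : IrreducibleSpace G₀.left := GeometricallyIrreducible.irreducibleSpace G₀.hom G₀.hom.isOpenMap
  have hG₀ : ¬ IsProper G₀.hom := by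
    intro hp
    apply hG
    haveI := hp
    haveI := GrpSchLib.AntiAffine.isSeparated_grp G
    haveI : CompactSpace G.left := QuasiCompact.compactSpace_of_compactSpace G.hom
    haveI : JacobsonSpace G.left := LocallyOfFiniteType.jacobsonSpace G.hom
    obtain ⟨cov, hcov⟩ := (isCompact_univ (X := G.left)).elim_finite_subcover
      (fun g : pts k k ⟶ G => Set.range (e ≫ transl g).left)
      (fun g => by
        haveI : IsIso (transl g).left := ⟨(transl g⁻¹).left,
          by rw [← Over.comp_left, transl_comp, inv_mul_cancel, transl_one]; rfl,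
          by rw [← Over.comp_left, transl_comp, mul_inv_cancel, transl_one]; rfl⟩
        haveI : IsOpenImmersion (e ≫ transl g).left := inferInstanceAs (IsOpenImmersion (e.left ≫ (transl g).left))
        exact (e ≫ transl g).left.isOpenEmbedding.isOpen_range)
      (by
        by_contra hne
        obtain ⟨x, -, hx⟩ := Set.not_subset.mp hne
        let U : Set G.left := ⋃ g : pts k k ⟶ G, Set.range (e ≫ transl g).left
        have hU : IsOpen U := isOpen_iUnion fun g => by
          haveI : IsIso (transl g).left := ⟨(transl g⁻¹).left,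
            by rw [← Over.comp_left, transl_comp, inv_mul_cancel, transl_one]; rfl,
            by rw [← Over.comp_left, transl_comp, mul_inv_cancel, transl_one]; rfl⟩
          haveI : IsOpenImmersion (e ≫ transl g).left := inferInstanceAs (IsOpenImmersion (e.left ≫ (transl g).left))
          exact (e ≫ transl g).left.isOpenEmbedding.isOpen_range
        obtain ⟨g, hg⟩ := point_exists_mem (X := G) (Z := Uᶜ) hU.isClosed_compl.isLocallyClosed ⟨x, hx⟩
        refine hg (Set.mem_iUnion.mpr ⟨g, ((1 : pts k k ⟶ G₀)).left (IsLocalRing.closedPoint k), ?_⟩)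
        rw [← Scheme.Hom.comp_apply, ← Over.comp_left, ← Category.assoc, MonObj.one_comp, comp_transl, cst_self, _root_.mul_one])
    -- a finite union of translates of a proper scheme is proper
    exact isProper_of_cover G.hom (fun g : cov => (e ≫ transl g.1).left)
      (fun g => by rw [Over.w]; exact hp) (fun x => by
        obtain ⟨g, hg, hx⟩ := Set.mem_iUnion₂.mp (hcov (Set.mem_univ x))
        exact ⟨⟨g, hg⟩, hx⟩)
  obtain ⟨H, _, i, hi, hci, hsH, haH, hl, hq, hd⟩ := exists_affine_subgroup_irreducible G₀ hG₀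
  haveI := hi; haveI := hci
  haveI := hl; haveI := hq
  exact ⟨H, inferInstance, i ≫ e, inferInstance, inferInstanceAs (IsClosedImmersion (i.left ≫ e.left)), hsH, haH, hl, hq, hd, krullDim_pos hd⟩

end Groth.Agent.AGStr.Chev
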