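import Groth.Agent.AGStr.Chev.Local
import Groth.Agent.GrpSchLib.AntiAffine
import Mathlib.AlgebraicGeometry.FunctionField
import Mathlib.RingTheory.Localization.FractionRing
import Mathlib.CategoryTheory.Monoidal.Cartesian.Grp

/-!
Points of a scheme with values in algebras, the generic point and translations of the function field.
-/

set_option autoImplicit false

universe u

open CategoryTheory AlgebraicGeometry MonoidalCategory CartesianMonoidalCategory MonObj GrpObj TensorProduct

namespace Groth.Agent.AGStr.Chev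

variable {k : Type u} [Field k]

/-- The spectrum of an algebra as a scheme over the base field. -/
noncomputable abbrev pts (k : Type u) [Field k] (F : Type u) [CommRing F] [Algebra k F] : Over (Spec (CommRingCat.of k)) :=
  Over.mk (Spec.map (CommRingCat.ofHom (algebraMap k F)))

/-- The morphism of spectra given by a homomorphism of algebras. -/
noncomputable def pm {F F' : Type u} [CommRing F] [Algebra k F] [CommRing F'] [Algebra k F'] (f : F →ₐ[k] F') :
    pts k F' ⟶ pts k F :=
  Over.homMk (Spec.map (CommRingCat.ofHom f.toRingHom)) (by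
    show Spec.map _ ≫ Spec.map _ = Spec.map _
    rw [← Spec.map_comp, ← CommRingCat.ofHom_comp]
    exact congrArg (fun q => Spec.map (CommRingCat.ofHom q)) f.comp_algebraMap)

@[simp] theorem pm_left {F F' : Type u} [CommRing F] [Algebra k F] [CommRing F'] [Algebra k F'] (f : F →ₐ[k] F') :
    (pm f).left = Spec.map (CommRingCat.ofHom f.toRingHom) := rfl

theorem pm_comp {F F' F'' : Type u} [CommRing F] [Algebra k F] [CommRing F'] [Algebra k F'] [CommRing F''] [Algebra k F'']
    (f : F →ₐ[k] F') (g : F' →ₐ[k] F'') : pm (g.comp f) = pm g ≫ pm f := by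
  refine Over.OverMorphism.ext ?_
  rw [Over.comp_left, pm_left, pm_left, pm_left, ← Spec.map_comp, ← CommRingCat.ofHom_comp]
  rfl

theorem pm_comp_assoc {F F' F'' : Type u} [CommRing F] [Algebra k F] [CommRing F'] [Algebra k F'] [CommRing F''] [Algebra k F'']
    (f : F →ₐ[k] F') (g : F' →ₐ[k] F'') {X : Over (Spec (CommRingCat.of k))} (p : pts k F ⟶ X) :
    pm (g.comp f) ≫ p = pm g ≫ pm f ≫ p := by rw [pm_comp, Category.assoc]

theorem pm_id (F : Type u) [CommRing F] [Algebra k F] : pm (AlgHom.id k F) = 𝟙 (pts k F) := by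
  refine Over.OverMorphism.ext ?_
  rw [pm_left, Over.id_left]
  exact Spec.map_id _

theorem eq_pm {F F' : Type u} [CommRing F] [Algebra k F] [CommRing F'] [Algebra k F'] (p : pts k F' ⟶ pts k F) :
    ∃ f : F →ₐ[k] F', p = pm f := by
  obtain ⟨φ, hφ⟩ := Spec.map_surjective p.left
  have h : φ.hom.comp (algebraMap k F) = algebraMap k F' := by
    have h1 := Over.w p
    dsimp at h1
    rw [← hφ, ← Spec.map_comp] at h1
    exact congrArg CommRingCat.Hom.hom (Spec.map_injective h1)
  exact ⟨⟨φ.hom, fun r => congrArg (fun q : k →+* F' => q r) h⟩, Over.OverMorphism.ext hφ.symm⟩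

theorem pm_injective {F F' : Type u} [CommRing F] [Algebra k F] [CommRing F'] [Algebra k F'] {f g : F →ₐ[k] F'}
    (h : pm f = pm g) : f = g := by
  have h1 := congrArg CommRingCat.Hom.hom (Spec.map_injective (congrArg CommaMorphism.left h : _))
  exact AlgHom.ext fun x => congrArg (fun q : F →+* F' => q x) h1

variable {G : Over (Spec (CommRingCat.of k))}

/-- Morphisms into an open chart through which a point factors. -/
theorem exists_lift {C F : Type u} [CommRing C] [Algebra k C] [CommRing F] [Algebra k F] (i : pts k C ⟶ G)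
    [IsOpenImmersion i.left] (p : pts k F ⟶ G) (hp : Set.range p.left ⊆ Set.range i.left) :
    ∃ f : C →ₐ[k] F, pm f ≫ i = p := by
  let l := IsOpenImmersion.lift i.left p.left hp
  let p' : pts k F ⟶ pts k C := Over.homMk l (by
    rw [← Over.w i, IsOpenImmersion.lift_fac_assoc, Over.w p])
  obtain ⟨f, hf⟩ := eq_pm p'
  exact ⟨f, by rw [← hf]; exact Over.OverMorphism.ext (IsOpenImmersion.lift_fac _ _ _)⟩

theorem lift_unique {C F : Type u} [CommRing C] [Algebra k C] [CommRing F] [Algebra k F] (i : pts k C ⟶ G)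
    [IsOpenImmersion i.left] {f g : C →ₐ[k] F} (h : pm f ≫ i = pm g ≫ i) : f = g := by
  refine pm_injective (Over.OverMorphism.ext ?_)
  have := congrArg CommaMorphism.left h
  exact (cancel_mono i.left).mp this

/-- An affine chart around a point. -/
theorem exists_chart (G : Over (Spec (CommRingCat.of k))) (z : G.left) :
    ∃ (C : Type u) (_ : CommRing C) (_ : Algebra k C) (i : pts k C ⟶ G), IsOpenImmersion i.left ∧ z ∈ Set.range i.left := by
  obtain ⟨U, hU, hzU, -⟩ := exists_isAffineOpen_mem_and_subset (X := G.left) (x := z) (U := ⊤) trivial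
  obtain ⟨φ, hφ⟩ := Spec.map_surjective (hU.fromSpec ≫ G.hom)
  letI : Algebra k Γ(G.left, U) := φ.hom.toAlgebra
  refine ⟨Γ(G.left, U), inferInstance, inferInstance, Over.homMk hU.fromSpec (by exact hφ.symm), ?_, ?_⟩
  · exact inferInstanceAs (IsOpenImmersion hU.fromSpec)
  · show z ∈ Set.range hU.fromSpec
    rw [hU.range_fromSpec]
    exact hzU

section Field

variable {F : Type u} [Field F] [Algebra k F]

theorem range_point (p : pts k F ⟶ G) : Set.range p.left = {p.left (IsLocalRing.closedPoint F)} :=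
  Set.eq_singleton_iff_unique_mem.mpr ⟨⟨_, rfl⟩, by
    rintro _ ⟨y, rfl⟩
    congr 1
    exact Subsingleton.elim (α := PrimeSpectrum F) y _⟩

theorem exists_lift_point {C : Type u} [CommRing C] [Algebra k C] (i : pts k C ⟶ G) [IsOpenImmersion i.left]
    (p : pts k F ⟶ G) (hp : p.left (IsLocalRing.closedPoint F) ∈ Set.range i.left) :
    ∃ f : C →ₐ[k] F, pm f ≫ i = p :=
  exists_lift i p (by rw [range_point]; simpa using hp)

end Field

section Generic

variable {B : Type u} [CommRing B] [IsDomain B] [Algebra k B] (j : pts k B ⟶ G) [IsOpenImmersion j.left]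
  {K : Type u} [Field K] [Algebra k K] [Algebra B K] [IsScalarTower k B K] [IsFractionRing B K]

/-- The generic point. -/
noncomputable def eta (j : pts k B ⟶ G) (K : Type u) [Field K] [Algebra k K] [Algebra B K] [IsScalarTower k B K] :
    pts k K ⟶ G :=
  pm (IsScalarTower.toAlgHom k B K) ≫ j

theorem eta_unique {F : Type u} [Field F] [Algebra k F] {f g : K →ₐ[k] F} (h : pm f ≫ eta j K = pm g ≫ eta j K) :
    f = g := by
  unfold eta at h
  rw [← pm_comp_assoc, ← pm_comp_assoc] at h
  exact IsLocalization.algHom_ext (nonZeroDivisors B) (lift_unique j h)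

theorem exists_eq_eta_of_injective {F : Type u} [Field F] [Algebra k F] (f : B →ₐ[k] F) (hf : Function.Injective f) :
    ∃ g : K →ₐ[k] F, pm f ≫ j = pm g ≫ eta j K := by
  refine ⟨IsFractionRing.liftAlgHom hf, ?_⟩
  unfold eta
  rw [← pm_comp_assoc]
  congr 2
  exact AlgHom.ext fun b => (IsFractionRing.lift_algebraMap hf b).symm

theorem eta_apply [IrreducibleSpace G.left] :
    (eta j K).left (IsLocalRing.closedPoint K) = genericPoint G.left := by
  haveI : IrreducibleSpace ↥(pts k B).left := inferInstanceAs (IrreducibleSpace (PrimeSpectrum B))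
  rw [show (eta j K).left = (pm (IsScalarTower.toAlgHom k B K)).left ≫ j.left from rfl, Scheme.Hom.comp_apply,
    ← genericPoint_eq_of_isOpenImmersion j.left]
  congr 1
  refine Eq.trans ?_ (genericPoint_eq_bot_of_affine (CommRingCat.of B)).symm
  refine PrimeSpectrum.ext ?_
  show Ideal.comap (algebraMap B K) (IsLocalRing.maximalIdeal K) = ⊥
  rw [IsLocalRing.isField_iff_maximalIdeal_eq.mp (Field.toIsField K),
    Ideal.comap_bot_of_injective _ (IsFractionRing.injective B K)]

theorem exists_eq_eta [IrreducibleSpace G.left] {F : Type u} [Field F] [Algebra k F] (p : pts k F ⟶ G)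
    (hp : p.left (IsLocalRing.closedPoint F) = genericPoint G.left) : ∃ g : K →ₐ[k] F, p = pm g ≫ eta j K := by
  have hmem : p.left (IsLocalRing.closedPoint F) ∈ Set.range j.left := by
    rw [hp, ← eta_apply j (K := K)]
    exact ⟨_, rfl⟩
  obtain ⟨f, rfl⟩ := exists_lift_point j p hmem
  refine exists_eq_eta_of_injective j f ((injective_iff_map_eq_zero f).mpr fun b hb => ?_)
  haveI : IrreducibleSpace ↥(pts k B).left := inferInstanceAs (IrreducibleSpace (PrimeSpectrum B))
  have h1 : (pm f).left (IsLocalRing.closedPoint F) = genericPoint ↥(pts k B).left := by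
    refine j.left.isOpenEmbedding.injective ?_
    rw [← Scheme.Hom.comp_apply, genericPoint_eq_of_isOpenImmersion j.left]
    exact hp
  have h2 := congrArg PrimeSpectrum.asIdeal (h1.trans (genericPoint_eq_bot_of_affine (CommRingCat.of B)))
  have h3 : b ∈ Ideal.comap f.toRingHom (IsLocalRing.maximalIdeal F) := by
    show f b ∈ IsLocalRing.maximalIdeal F
    rw [hb]; exact zero_mem _
  exact Ideal.mem_bot.mp ((SetLike.ext_iff.mp h2 b).mp h3)

variable [GrpObj G]

/-- A rational point as a point with values in an algebra. -/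
noncomputable def cst (g : pts k k ⟶ G) (F : Type u) [CommRing F] [Algebra k F] : pts k F ⟶ G :=
  pm (Algebra.ofId k F) ≫ g

omit [GrpObj G] in
theorem pm_cst {F F' : Type u} [CommRing F] [Algebra k F] [CommRing F'] [Algebra k F'] (f : F →ₐ[k] F')
    (g : pts k k ⟶ G) : pm f ≫ cst g F = cst g F' := by
  unfold cst
  rw [← pm_comp_assoc]
  congr 2
  exact Subsingleton.elim _ _

theorem cst_mul (g h : pts k k ⟶ G) (F : Type u) [CommRing F] [Algebra k F] : cst (g * h) F = cst g F * cst h F :=
  MonObj.comp_mul _ _ _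

/-- The structure morphism, as a morphism to the spectrum of the base field. -/
noncomputable def toPt (X : Over (Spec (CommRingCat.of k))) : X ⟶ pts k k :=
  Over.homMk X.hom (by
    show X.hom ≫ Spec.map _ = X.hom
    rw [show CommRingCat.ofHom (algebraMap k k) = 𝟙 (CommRingCat.of k) from rfl, Spec.map_id, Category.comp_id])

omit [GrpObj G] in
theorem toPt_unique {X : Over (Spec (CommRingCat.of k))} (f g : X ⟶ pts k k) : f = g := by
  have h : ∀ f : X ⟶ pts k k, f.left = X.hom := fun f => by
    rw [← Over.w f]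
    show f.left = f.left ≫ Spec.map _
    rw [show CommRingCat.ofHom (algebraMap k k) = 𝟙 (CommRingCat.of k) from rfl, Spec.map_id]
    exact (Category.comp_id f.left).symm
  exact Over.OverMorphism.ext ((h f).trans (h g).symm)

/-- Left translation by a rational point. -/
noncomputable def transl (g : pts k k ⟶ G) : G ⟶ G := (toPt G ≫ g) * 𝟙 G

theorem comp_transl (g : pts k k ⟶ G) {F : Type u} [CommRing F] [Algebra k F] (p : pts k F ⟶ G) :
    p ≫ transl g = cst g F * p := by
  rw [transl, MonObj.comp_mul, Category.comp_id, ← Category.assoc, toPt_unique (p ≫ toPt G) (pm (Algebra.ofId k F))]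
  rfl

theorem transl_one : transl (1 : pts k k ⟶ G) = 𝟙 G := by
  rw [transl, MonObj.comp_one, _root_.one_mul]

theorem transl_comp (g h : pts k k ⟶ G) : transl h ≫ transl g = transl (g * h) := by
  show transl h ≫ ((toPt G ≫ g) * 𝟙 G) = _
  rw [MonObj.comp_mul, Category.comp_id, ← Category.assoc, toPt_unique (transl h ≫ toPt G) (toPt G)]
  rw [transl, transl, MonObj.comp_mul, _root_.mul_assoc]

theorem transl_generic [IrreducibleSpace G.left] (g : pts k k ⟶ G) :
    (transl g).left (genericPoint G.left) = genericPoint G.left := by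
  have h1 : transl g⁻¹ ≫ transl g = 𝟙 G := by rw [transl_comp, mul_inv_cancel, transl_one]
  have h2 : transl g ≫ transl g⁻¹ = 𝟙 G := by rw [transl_comp, inv_mul_cancel, transl_one]
  haveI : IsIso (transl g).left := ⟨(transl g⁻¹).left, by rw [← Over.comp_left, h2]; rfl, by rw [← Over.comp_left, h1]; rfl⟩
  exact genericPoint_eq_of_isOpenImmersion (transl g).left

/-- Translation by a rational point moves the generic point to the generic point. -/
theorem exists_translate [IrreducibleSpace G.left] (g : pts k k ⟶ G) :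
    ∃ σ : K →ₐ[k] K, pm σ ≫ eta j K = cst g K * eta j K := by
  obtain ⟨σ, h⟩ := exists_eq_eta j (K := K) (cst g K * eta j K) (by
    rw [← comp_transl, Over.comp_left, Scheme.Hom.comp_apply, eta_apply, transl_generic])
  exact ⟨σ, h.symm⟩

/-- The automorphisms of the function field given by translations. -/
theorem exists_sigma [IrreducibleSpace G.left] :
    ∃ σ : (pts k k ⟶ G) → (K ≃ₐ[k] K),
      (∀ g h f, σ (g * h) f = σ h (σ g f)) ∧
      ∀ g, pm (σ g).toAlgHom ≫ eta j K = cst g K * eta j K := by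
  choose s hs using fun g : pts k k ⟶ G => exists_translate j (K := K) g
  have hcomp : ∀ g h, s (g * h) = (s h).comp (s g) := fun g h => eta_unique j (by
    rw [hs, pm_comp_assoc, hs, MonObj.comp_mul, hs, pm_cst, cst_mul, _root_.mul_assoc])
  have hone : s 1 = AlgHom.id k K := eta_unique j (by
    rw [hs, pm_id, Category.id_comp, cst, MonObj.comp_one, _root_.one_mul])
  let σ : (pts k k ⟶ G) → (K ≃ₐ[k] K) := fun g => AlgEquiv.ofAlgHom (s g) (s g⁻¹)
    (by rw [← hcomp, inv_mul_cancel, hone]) (by rw [← hcomp, mul_inv_cancel, hone])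
  exact ⟨σ, fun g h f => AlgHom.congr_fun (hcomp g h) f, fun g => hs g⟩

theorem eq_one_of_sigma [IsAlgClosed k] [LocallyOfFiniteType G.hom] (σ : (pts k k ⟶ G) → (K ≃ₐ[k] K))
    (hσ : ∀ g, pm (σ g).toAlgHom ≫ eta j K = cst g K * eta j K) (g : pts k k ⟶ G) (h : ∀ f, σ g f = f) : g = 1 := by
  have h1 : (σ g).toAlgHom = AlgHom.id k K := AlgHom.ext h
  have h2 := hσ g
  rw [h1, pm_id, Category.id_comp] at h2
  have h3 : cst g K = 1 := by
    have := congrArg (· * (eta j K)⁻¹) h2
    simp only [mul_inv_cancel_right, mul_inv_cancel] at this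
    exact this.symm
  refine Over.OverMorphism.ext (ext_of_apply_closedPoint_eq G.hom
    (by rw [Over.w]; show Spec.map _ = 𝟙 _; exact Spec.map_id _)
    (by rw [Over.w]; show Spec.map _ = 𝟙 _; exact Spec.map_id _) ?_)
  have h4 : cst g K = cst (1 : pts k k ⟶ G) K := by rw [h3, cst, MonObj.comp_one]
  have h5 : ∀ q : pts k k ⟶ G, (cst q K).left (IsLocalRing.closedPoint K) = q.left (IsLocalRing.closedPoint k) := by
    intro q
    show q.left _ = _
    congr 1
    exact Subsingleton.elim (α := PrimeSpectrum k) _ _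
  rw [← h5, h4, h5]

/-- Translation, read on the product of a chart and the generic point. -/
theorem exists_repr_chart [IsAlgClosed k] [Algebra.FiniteType k B] [IrreducibleSpace G.left]
    (σ : (pts k k ⟶ G) → (K ≃ₐ[k] K)) (hσ : ∀ g, pm (σ g).toAlgHom ≫ eta j K = cst g K * eta j K) (τ : G ⟶ G) (b : B) :
    ∃ c h : B ⊗[k] K, h ≠ 0 ∧
      (∀ g : B →ₐ[k] k, evL g h ≠ 0 → σ (pm g ≫ j ≫ τ) (algebraMap B K b) * evL g h = evL g c) ∧
      ∀ (L : Type u) [Field L] [Algebra k L] (ψ : B ⊗[k] K →ₐ[k] L), ψ h ≠ 0 →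
        ∃ f : B →ₐ[k] L, pm ψ ≫ ((pm Algebra.TensorProduct.includeLeft ≫ j ≫ τ) *
          (pm Algebra.TensorProduct.includeRight ≫ eta j K)) = pm f ≫ j ∧ f b * ψ h = ψ c := by
  let P : pts k (B ⊗[k] K) ⟶ G := (pm Algebra.TensorProduct.includeLeft ≫ j ≫ τ) *
    (pm Algebra.TensorProduct.includeRight ≫ eta j K)
  obtain ⟨g₀, -⟩ : ∃ g : B →ₐ[k] k, g 1 ≠ 0 := Obs28.exists_point_ne_zero one_ne_zero
  have hev : ∀ g : B →ₐ[k] k, pm (evL (A := K) g) ≫ P = pm (σ (pm g ≫ j ≫ τ)).toAlgHom ≫ eta j K := by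
    intro g
    rw [hσ, MonObj.comp_mul, ← pm_comp_assoc, ← pm_comp_assoc,
      show (evL (A := K) g).comp Algebra.TensorProduct.includeLeft = (Algebra.ofId k K).comp g from
        AlgHom.ext fun x => by simp [Algebra.algebraMap_eq_smul_one],
      show (evL (A := K) g).comp Algebra.TensorProduct.includeRight = AlgHom.id k K from AlgHom.ext fun x => by simp,
      pm_id, Category.id_comp, pm_comp, Category.assoc]
    rfl
  let D : TopologicalSpace.Opens (PrimeSpectrum (B ⊗[k] K)) :=
    ⟨P.left ⁻¹' Set.range j.left, j.left.isOpenEmbedding.isOpen_range.preimage P.left.continuous⟩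
  have hD : (pm (evL (A := K) g₀)).left (IsLocalRing.closedPoint K) ∈ D := by
    show P.left ((pm (evL (A := K) g₀)).left _) ∈ Set.range j.left
    have e : ∀ q : pts k K ⟶ G, q = pm (evL (A := K) g₀) ≫ P →
        P.left ((pm (evL (A := K) g₀)).left (IsLocalRing.closedPoint K)) = q.left (IsLocalRing.closedPoint K) := by
      rintro q rfl; rfl
    rw [e _ ((hev g₀).trans (show pm (σ (pm g₀ ≫ j ≫ τ)).toAlgHom ≫ eta j K = pm ((σ (pm g₀ ≫ j ≫ τ)).toAlgHom.comp (IsScalarTower.toAlgHom k B K)) ≫ j from (pm_comp_assoc _ _ _).symm)).symm]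
    exact ⟨_, rfl⟩
  obtain ⟨_, ⟨h, rfl⟩, hh, hhD⟩ := PrimeSpectrum.isTopologicalBasis_basic_opens.exists_subset_of_mem_open hD D.2
  have hh0 : evL g₀ h ≠ 0 := fun e => hh (by
    show evL (A := K) g₀ h ∈ IsLocalRing.maximalIdeal K
    rw [e]; exact zero_mem _)
  let R := Localization.Away h
  let ιR : B ⊗[k] K →ₐ[k] R := IsScalarTower.toAlgHom k (B ⊗[k] K) R
  obtain ⟨β, hβ⟩ := exists_lift j (pm ιR ≫ P) (by
    rintro _ ⟨z, rfl⟩
    refine hhD ?_
    show h ∉ Ideal.comap (algebraMap (B ⊗[k] K) R) z.asIdeal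
    exact fun hm => z.isPrime.ne_top (Ideal.eq_top_of_isUnit_mem _ hm (IsLocalization.Away.algebraMap_isUnit h)))
  obtain ⟨⟨c, ⟨_, N, rfl⟩⟩, hc⟩ := IsLocalization.surj (Submonoid.powers h) (β b)
  have hL : ∀ (L : Type u) [Field L] [Algebra k L] (ψ : B ⊗[k] K →ₐ[k] L), ψ (h ^ (N + 1)) ≠ 0 →
      ∃ f : B →ₐ[k] L, pm ψ ≫ P = pm f ≫ j ∧ f b * ψ (h ^ (N + 1)) = ψ (c * h) := by
    intro L _ _ ψ hψ
    have hu : IsUnit (ψ h) := isUnit_iff_ne_zero.mpr fun e => hψ (by rw [map_pow, e, zero_pow N.succ_ne_zero])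
    let ψ' : R →ₐ[k] L :=
      { IsLocalization.Away.lift h (g := ψ.toRingHom) hu with
        commutes' := fun r => by
          show IsLocalization.Away.lift h (g := ψ.toRingHom) hu (algebraMap k R r) = _
          rw [IsScalarTower.algebraMap_apply k (B ⊗[k] K) R, IsLocalization.Away.lift_eq]
          exact ψ.commutes r }
    have hψ' : ψ'.comp ιR = ψ := AlgHom.ext fun x => IsLocalization.Away.lift_eq h hu x
    refine ⟨ψ'.comp β, by rw [pm_comp_assoc, hβ, ← pm_comp_assoc, hψ'], ?_⟩
    have h1 := congrArg ψ' hc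
    rw [map_mul] at h1
    rw [pow_succ, map_mul ψ c h, map_mul ψ (h ^ N) h, AlgHom.comp_apply, ← _root_.mul_assoc, ← hψ']
    exact congrArg (· * _) h1
  refine ⟨c * h, h ^ (N + 1), (fun e => hh0 (eq_zero_of_pow_eq_zero (n := N + 1) (by rw [← map_pow, e, map_zero]))), fun g hg => ?_, hL⟩
  obtain ⟨f, hf, hfb⟩ := hL K (evL g) hg
  rw [hev] at hf
  unfold eta at hf
  rw [← pm_comp_assoc] at hf
  rw [← hfb, ← lift_unique j hf]
  rfl

end Generic

end Groth.Agent.AGStr.Chev
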