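import Groth.Agent.AGStr.Chev.Local

/-!
Translations of functions, read on an affine model with an invariant prime divisor: at a point of an
open set of the group, translation of a regular function is given by a fraction whose denominator
does not vanish identically on the divisor.
-/

set_option autoImplicit false

universe u

open TensorProduct

namespace Groth.Agent.AGStr.Chev

variable {k : Type u} [Field k] [IsAlgClosed k] {K : Type u} [Field K] [Algebra k K]
  {B : Type u} [CommRing B] [IsDomain B] [Algebra k B] [Algebra.FiniteType k B]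
  (A : Subalgebra k K) (p : Ideal A) (O : ValuationSubring K)

/-- `A` is a model of the divisorial valuation ring `O`, centred at the prime `p`. -/
structure Model : Prop where
  fg : A.FG
  prime : p.IsPrime
  le : ∀ a : A, (a : K) ∈ O
  inv_mem : ∀ a : A, a ∉ p → (a : K)⁻¹ ∈ O
  inv_notMem : ∀ a ∈ p, (a : K) ≠ 0 → (a : K)⁻¹ ∉ O
  frac : ∀ f ∈ O, ∃ num den : A, den ∉ p ∧ f * (den : K) = num
  uniformizer : ∃ π ∈ p, π ≠ 0 ∧ ∀ a : A, a ≠ 0 → ∃ (r : ℕ) (d a' : A), d ∉ p ∧ a' ∉ p ∧ d * a = π ^ r * a'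

variable {A p O}

/-- An element of `B ⊗ A` which does not vanish identically on the divisor. -/
def Gen (p : Ideal A) (z : B ⊗[k] A) : Prop :=
  Algebra.TensorProduct.map (AlgHom.id k B) (Ideal.Quotient.mkₐ k p) z ≠ 0

theorem Gen.mul [p.IsPrime] {y z : B ⊗[k] A} (hy : Gen p y) (hz : Gen p z) : Gen p (y * z) := by
  haveI := GrpSchLib.isDomain_tensor_of_isAlgClosed (K := k) (A := B) (B := A ⧸ p)
  rw [Gen, map_mul]
  exact mul_ne_zero hy hz

theorem Gen.one [p.IsPrime] : Gen p (1 : B ⊗[k] A) := by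
  haveI := GrpSchLib.isDomain_tensor_of_isAlgClosed (K := k) (A := B) (B := A ⧸ p)
  rw [Gen, map_one]
  exact one_ne_zero

theorem Gen.prod [p.IsPrime] {ι : Type*} (s : Finset ι) {z : ι → B ⊗[k] A} (hz : ∀ i ∈ s, Gen p (z i)) :
    Gen p (∏ i ∈ s, z i) :=
  Finset.prod_induction z (Gen p) (fun _ _ => Gen.mul) Gen.one hz

theorem Gen.tmul [p.IsPrime] {d : A} (hd : d ∉ p) : Gen p ((1 : B) ⊗ₜ[k] d) := by
  obtain ⟨g, -⟩ : ∃ g : B →ₐ[k] k, g 1 ≠ 0 := Obs28.exists_point_ne_zero one_ne_zero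
  intro h
  have h2 : evL g (Algebra.TensorProduct.map (AlgHom.id k B) (Ideal.Quotient.mkₐ k p) ((1 : B) ⊗ₜ[k] d)) = 0 := by
    rw [h, map_zero]
  simp [Ideal.Quotient.eq_zero_iff_mem] at h2
  exact hd h2

omit [Algebra.FiniteType k B] in
theorem normalForm (hM : Model A p O) {π : A} (hπ : ∀ a : A, a ≠ 0 → ∃ (r : ℕ) (d a' : A), d ∉ p ∧ a' ∉ p ∧ d * a = π ^ r * a')
    {z : B ⊗[k] A} (hz : z ≠ 0) :
    ∃ (r : ℕ) (d : A) (z' : B ⊗[k] A), d ∉ p ∧ Gen p z' ∧ ((1 : B) ⊗ₜ[k] d) * z = ((1 : B) ⊗ₜ[k] (π ^ r)) * z' := by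
  classical
  haveI := hM.prime
  let ℬ := Module.Free.chooseBasis k B
  let e : B ⊗[k] A ≃ₗ[k] _ →₀ A := TensorProduct.equivFinsuppOfBasisLeft ℬ
  have hmul : ∀ (a : A) (w : B ⊗[k] A) i, e (((1 : B) ⊗ₜ[k] a) * w) i = a * e w i := by
    intro a w i
    induction w with
    | zero => simp
    | tmul b c => simp [e, mul_smul_comm]
    | add v w hv hw => simp [mul_add, hv, hw]
  have hgen : ∀ (w : B ⊗[k] A) i, TensorProduct.equivFinsuppOfBasisLeft ℬ
      (Algebra.TensorProduct.map (AlgHom.id k B) (Ideal.Quotient.mkₐ k p) w) i = Ideal.Quotient.mk p (e w i) := by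
    intro w i
    induction w with
    | zero => simp
    | tmul b c =>
      simp only [e, Algebra.TensorProduct.map_tmul, TensorProduct.equivFinsuppOfBasisLeft_apply_tmul_apply]
      exact (map_smul (Ideal.Quotient.mkₐ k p) _ _).symm
    | add v w hv hw => simp [hv, hw]
  choose rr dd aa hd ha heq using hπ
  let s := (e z).support
  have hs : ∀ i : s, e z i ≠ 0 := fun i => Finsupp.mem_support_iff.mp i.2
  have hne : (Finset.univ : Finset s).Nonempty := by
    obtain ⟨i, hi⟩ := Finsupp.support_nonempty_iff.mpr (fun h => hz (e.map_eq_zero_iff.mp h) : e z ≠ 0)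
    exact ⟨⟨i, hi⟩, Finset.mem_univ _⟩
  obtain ⟨i₀, -, hi₀⟩ := Finset.exists_min_image Finset.univ (fun i : s => rr _ (hs i)) hne
  let D : A := ∏ i : s, dd _ (hs i)
  have hD : D ∉ p := fun h => by
    obtain ⟨i, -, hi⟩ := (Ideal.IsPrime.prod_mem_iff (p := p)).mp h
    exact hd _ (hs i) hi
  let coeff : s → A := fun i => π ^ (rr _ (hs i) - rr _ (hs i₀)) * aa _ (hs i) * ∏ j ∈ Finset.univ.erase i, dd _ (hs j)
  let z' : B ⊗[k] A := ∑ i : s, ℬ i ⊗ₜ[k] coeff i
  have hz' : ∀ j, e z' j = if h : j ∈ s then coeff ⟨j, h⟩ else 0 := by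
    intro j
    simp only [z', map_sum, Finsupp.finsetSum_apply, e, TensorProduct.equivFinsuppOfBasisLeft_apply_tmul_apply]
    by_cases h : j ∈ s
    · rw [dif_pos h, Finset.sum_eq_single ⟨j, h⟩]
      · simp
      · intro i _ hi
        simp [Finsupp.single_eq_of_ne (a := (i : Module.Free.ChooseBasisIndex k B)) (a' := j)
          (fun he => hi (Subtype.ext he.symm))]
      · simp
    · rw [dif_neg h]
      refine Finset.sum_eq_zero fun i _ => ?_
      simp [Finsupp.single_eq_of_ne (a := (i : Module.Free.ChooseBasisIndex k B)) (a' := j)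
        (fun he => h (he ▸ i.2))]
  refine ⟨rr _ (hs i₀), D, z', hD, fun h => ?_, e.injective (Finsupp.ext fun j => ?_)⟩
  · have h1 := hgen z' i₀
    rw [h, map_zero, hz', dif_pos i₀.2] at h1
    have h2 : coeff i₀ ∈ p := Ideal.Quotient.eq_zero_iff_mem.mp h1.symm
    simp only [coeff, Nat.sub_self, pow_zero, one_mul] at h2
    rcases hM.prime.mem_or_mem h2 with h3 | h3
    · exact ha _ (hs i₀) h3
    · obtain ⟨j, -, hj⟩ := (Ideal.IsPrime.prod_mem_iff (p := p)).mp h3
      exact hd _ (hs j) hj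
  · rw [hmul, hmul, hz']
    by_cases h : j ∈ s
    · rw [dif_pos h]
      simp only [D, coeff]
      rw [← Finset.mul_prod_erase _ _ (Finset.mem_univ (⟨j, h⟩ : s))]
      have hr := hi₀ ⟨j, h⟩ (Finset.mem_univ _)
      have e1 : π ^ rr _ (hs ⟨j, h⟩) = π ^ rr _ (hs i₀) * π ^ (rr _ (hs ⟨j, h⟩) - rr _ (hs i₀)) := by
        rw [← pow_add, Nat.add_sub_cancel' hr]
      linear_combination (∏ x ∈ Finset.univ.erase (⟨j, h⟩ : s), dd _ (hs x)) * heq _ (hs ⟨j, h⟩) +
        (aa _ (hs ⟨j, h⟩) * ∏ x ∈ Finset.univ.erase (⟨j, h⟩ : s), dd _ (hs x)) * e1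
    · rw [dif_neg h, Finsupp.notMem_support_iff.mp h, mul_zero, mul_zero]

/-- A translation map given by fractions, and preserving the valuation ring, is given at a regular
function by a fraction with denominator not vanishing on the divisor. -/
theorem exists_gen_repr (hM : Model A p O) (s : (B →ₐ[k] k) → (K → K)) (hs : ∀ g, ∀ f ∈ O, s g f ∈ O) (a : A)
    (hrep : ∃ c h : B ⊗[k] A, h ≠ 0 ∧ ∀ g, evL g h ≠ 0 → s g (a : K) * (evL g h : A) = (evL g c : A)) :
    ∃ c h : B ⊗[k] A, Gen p h ∧ ∀ g, evL g h ≠ 0 → s g (a : K) * (evL g h : A) = (evL g c : A) := by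
  haveI := hM.prime
  haveI : Algebra.FiniteType k A := (Subalgebra.fg_iff_finiteType _).mp hM.fg
  obtain ⟨π, hπp, hπ0, hπ⟩ := hM.uniformizer
  obtain ⟨c, h, hh, heq⟩ := hrep
  obtain ⟨v, dh, h', hdh, hgh', ehh⟩ := normalForm hM hπ hh
  have hev : ∀ (g : B →ₐ[k] k) (d : A) (w : B ⊗[k] A), evL g (((1 : B) ⊗ₜ[k] d) * w) = d * evL g w := by
    intro g d w; simp
  have hne : ∀ g, evL g h' ≠ 0 → evL g h ≠ 0 := by
    intro g hg h0
    have := congrArg (evL g) ehh
    rw [hev, hev, h0, mul_zero] at this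
    exact mul_ne_zero (pow_ne_zero v hπ0) hg this.symm
  by_cases hc : c = 0
  · refine ⟨0, h', hgh', fun g hg => ?_⟩
    have h1 := heq g (hne g hg)
    rw [hc, map_zero, ZeroMemClass.coe_zero] at h1
    rcases mul_eq_zero.mp h1 with h2 | h2
    · rw [h2, zero_mul, map_zero, ZeroMemClass.coe_zero]
    · exact absurd (Subtype.ext h2) (hne g hg)
  obtain ⟨r, dc, c', hdc, hgc', ecc⟩ := normalForm hM hπ hc
  have key : ∀ g, evL g h' ≠ 0 → s g (a : K) * ((π : K) ^ v * (dc : K) * (evL g h' : A)) =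
      (π : K) ^ r * (dh : K) * (evL g c' : A) := by
    intro g hg
    have h1 := heq g (hne g hg)
    have e1 := congrArg (fun z => ((evL g z : A) : K)) ehh
    have e2 := congrArg (fun z => ((evL g z : A) : K)) ecc
    simp only [hev, Subalgebra.coe_mul, Subalgebra.coe_pow] at e1 e2
    linear_combination ((dh : K) * (dc : K)) * h1 + (-(s g (a : K)) * (dc : K)) * e1 + (dh : K) * e2
  have hvr : v ≤ r := by
    by_contra hlt
    push Not at hlt
    obtain ⟨g, x, hxp, -, hgp⟩ := exists_pair p (c' * h') (hgc'.mul hgh')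
    rw [map_mul] at hgp
    have hc'g : evL g c' ∉ p := fun e => hgp (p.mul_mem_right _ e)
    have hh'g : evL g h' ∉ p := fun e => hgp (p.mul_mem_left _ e)
    have h0 : evL g h' ≠ 0 := fun e => hh'g (e ▸ p.zero_mem)
    have h1 := key g h0
    have hπK : (π : K) ≠ 0 := fun e => hπ0 (Subtype.ext e)
    have hdhK : (dh : K) ≠ 0 := fun e => hdh (Subtype.ext e (a2 := (0 : A)) ▸ p.zero_mem)
    have hcK : ((evL g c' : A) : K) ≠ 0 := fun e => hc'g (Subtype.ext e (a2 := (0 : A)) ▸ p.zero_mem)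
    refine hM.inv_notMem π hπp hπK ?_
    have h2 : (π : K)⁻¹ = s g (a : K) * (π : K) ^ (v - r - 1) * ((dc : K) * (evL g h' : A)) *
        ((dh : K)⁻¹ * ((evL g c' : A) : K)⁻¹) := by
      have e3 : (π : K) ^ v = (π : K) ^ r * ((π : K) ^ (v - r - 1) * π) := by
        rw [← pow_succ, ← pow_add]; congr 1; omega
      rw [e3] at h1
      field_simp
      refine mul_left_cancel₀ (pow_ne_zero r hπK) ?_
      linear_combination -h1
    rw [h2]
    exact mul_mem (mul_mem (mul_mem (hs g _ (hM.le a)) (pow_mem (hM.le π) _)) (mul_mem (hM.le dc) (hM.le _)))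
      (mul_mem (hM.inv_mem _ hdh) (hM.inv_mem _ hc'g))
  refine ⟨((1 : B) ⊗ₜ[k] (π ^ (r - v) * dh)) * c', ((1 : B) ⊗ₜ[k] dc) * h', (Gen.tmul hdc).mul hgh', fun g hg => ?_⟩
  rw [hev] at hg ⊢
  have hg' : evL g h' ≠ 0 := fun e => hg (by rw [e, mul_zero])
  have h1 := key g hg'
  have hπK : (π : K) ≠ 0 := fun e => hπ0 (Subtype.ext e)
  rw [show r = v + (r - v) from (Nat.add_sub_cancel' hvr).symm, pow_add] at h1
  rw [hev]
  push_cast
  refine mul_left_cancel₀ (pow_ne_zero v hπK) ?_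
  linear_combination h1

end Groth.Agent.AGStr.Chev
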