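import Groth.Agent.AGStr.Chev.AntiAffPart
import Groth.Agent.AGStr.Chev.Image

/-!
Rosenlicht's decomposition: an affine normal subgroup with proper quotient and the anti-affine part
generate the group.
-/

set_option autoImplicit false
set_option maxHeartbeats 1000000

universe u

open CategoryTheory CategoryTheory.Limits AlgebraicGeometry MonoidalCategory CartesianMonoidalCategory MonObj GrpObj

namespace Groth.Agent.AGStr.Chev

variable {k : Type u} [Field k] [IsAlgClosed k]

/-- A homomorphism to a connected smooth commutative group with finitely many cosets on points is surjective. -/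
theorem surjective_of_finite_cosets {H A : Over (Spec (CommRingCat.of k))} [GrpObj H] [GrpObj A] [IsCommMonObj A]
    [LocallyOfFiniteType H.hom] [QuasiCompact H.hom] [Smooth A.hom] [QuasiCompact A.hom] [ConnectedSpace A.left]
    (f : H ⟶ A) [IsMonHom f] (F : Finset (pts k k ⟶ A))
    (hF : ∀ y : pts k k ⟶ A, ∃ a ∈ F, ∃ x : pts k k ⟶ H, a * (x ≫ f) = y) : Surjective f.left := by
  haveI : IsSeparated A.hom := GrpSchLib.AntiAffine.isSeparated_grp A
  haveI : QuasiCompact f.left := quasiCompact_left f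
  obtain ⟨S, _, j, p, hj, hp, hpj, hjc, -, -, hs⟩ := GrpSchLib.DomHom.exists_schImage f
  haveI := hj; haveI := hp; haveI := hjc; haveI := hs
  have hnS : AlgGrp.IsNormalHom j := fun T g s => ⟨s, by rw [mul_comm g, mul_inv_cancel_right]⟩
  obtain ⟨T, _, t, _, ht, hk, _, hTl, hTq, hTsm, hTc⟩ := QuotAlgClosed.exists_quotGrp A S j hnS
  obtain ⟨hts, htf, -, -⟩ := ht
  haveI := hts; haveI := htf; haveI := hTl; haveI := hTq
  haveI := hTsm inferInstance; haveI := hTc inferInstance
  have hft : f ≫ t = 1 := by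
    rw [← hpj, Category.assoc, hk.w, ← Category.assoc, comp_toUnit]
    rfl
  haveI : Finite (pts k k ⟶ T) := by
    refine Finite.of_surjective (fun a : F => a.1 ≫ t) fun y => ?_
    obtain ⟨y', rfl⟩ := point_lift t y
    obtain ⟨a, ha, x, rfl⟩ := hF y'
    exact ⟨⟨a, ha⟩, by simp [MonObj.mul_comp, hft]⟩
  haveI := isIso_of_finite_points T
  haveI : IsSeparated T.hom := GrpSchLib.AntiAffine.isSeparated_grp T
  haveI : LocallyOfFiniteType S.hom := by rw [← Over.w j]; infer_instance
  refine surjective_of_points f fun y => ?_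
  have hy : y ≫ t = 1 := by
    refine Over.OverMorphism.ext ((cancel_mono T.hom).mp ?_)
    rw [Over.w, Over.w]
  obtain ⟨x, hx⟩ := point_lift p (hk.lift y (toUnit _) hy)
  exact ⟨x, by rw [← hpj, ← Category.assoc, hx, hk.lift_fst]⟩

/-- The anti-affine kernel of a connected group surjects onto every abelian variety it maps onto. -/
theorem surjective_antiAffine_comp {H M I A : Over (Spec (CommRingCat.of k))} [GrpObj H] [GrpObj M] [GrpObj I] [GrpObj A]
    [Smooth H.hom] [QuasiCompact H.hom] [ConnectedSpace H.left] [LocallyOfFiniteType M.hom] [QuasiCompact M.hom]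
    (a : M ⟶ H) [IsMonHom a] (p : H ⟶ I) [IsMonHom p] [IsAffine I.left] [LocallyOfFiniteType I.hom] [Flat p.left]
    [Surjective p.left] (hk : AlgGrp.IsKernel a p)
    [IsProper A.hom] [Smooth A.hom] [ConnectedSpace A.left] (f : H ⟶ A) [IsMonHom f] [Surjective f.left] :
    Surjective (a ≫ f).left := by
  haveI : IsCommMonObj A := by
    haveI := geometricallyIntegral_of_proper A
    exact isCommMonObj_of_isProper_of_geometricallyIntegral A
  haveI : Smooth I.hom := GrpSchLib.smooth_of_quotient p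
  haveI : ConnectedSpace I.left := FBaseLib.connectedSpace_of_surjective p.left
  haveI : QuasiCompact (a ≫ f).left := quasiCompact_left (a ≫ f)
  obtain ⟨S, _, j, s, hj, hs', hsj, hjc, -, -, hss⟩ := GrpSchLib.DomHom.exists_schImage (a ≫ f)
  haveI := hj; haveI := hs'; haveI := hjc; haveI := hss
  have hnS : AlgGrp.IsNormalHom j := fun T g x => ⟨x, by rw [mul_comm g, mul_inv_cancel_right]⟩
  obtain ⟨T, _, t, _, ht, hkt, hTsp, hTl, hTq, -, -⟩ := QuotAlgClosed.exists_quotGrp A S j hnS
  obtain ⟨hts, htf, -, -⟩ := ht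
  haveI := hts; haveI := htf; haveI := hTl; haveI := hTq; haveI := hTsp
  haveI : IsProper T.hom := by
    haveI : UniversallyClosed (t.left ≫ T.hom) := by rw [Over.w]; infer_instance
    haveI : UniversallyClosed T.hom := UniversallyClosed.of_comp_surjective t.left T.hom
    exact ⟨⟩
  have ha : a ≫ f ≫ t = toUnit M ≫ η[T] := by
    rw [← Category.assoc, ← hsj, Category.assoc, hkt.w, ← Category.assoc, comp_toUnit]
  obtain ⟨r, _, hr, -⟩ := S3280.result k H M I T p a hk (f ≫ t) ha
  have hft : f ≫ t = 1 := by rw [← hr, hom_eq_one r, MonObj.comp_one]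
  haveI : LocallyOfFiniteType S.hom := by rw [← Over.w j]; infer_instance
  refine surjective_of_points (a ≫ f) fun y => ?_
  obtain ⟨h, rfl⟩ := point_lift f y
  have hy : (h ≫ f) ≫ t = toUnit _ ≫ η[T] := by
    rw [Category.assoc, hft, MonObj.comp_one]; rfl
  obtain ⟨x, hx⟩ := point_lift s (hkt.lift (h ≫ f) (toUnit _) hy)
  exact ⟨x, by rw [← hsj, ← Category.assoc, hx, hkt.lift_fst]⟩

/-- An anti-affine subgroup of a connected group commutes with everything. -/
theorem commute_antiAffine {G M : Over (Spec (CommRingCat.of k))} [GrpObj G] [GrpObj M] [LocallyOfFiniteType G.hom]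
    [ConnectedSpace G.left] [LocallyOfFiniteType M.hom] [QuasiCompact M.hom] (hM : Function.Bijective M.hom.appTop)
    (j : M ⟶ G) [IsMonHom j] {T : Over (Spec (CommRingCat.of k))} (m : T ⟶ M) (g : T ⟶ G) :
    (m ≫ j) * g = g * (m ≫ j) :=
  GrpSchLib.AntiAffine.commute hM j (by rw [IsMonHom.one_hom, MonObj.one_eq_one]) m g

/-- Multiplication with a central subgroup is a homomorphism. -/
theorem isMonHom_mul {G N M : Over (Spec (CommRingCat.of k))} [GrpObj G] [GrpObj N] [GrpObj M]
    (i : N ⟶ G) [IsMonHom i] (j : M ⟶ G) [IsMonHom j]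
    (hc : ∀ {T : Over (Spec (CommRingCat.of k))} (x : T ⟶ N) (y : T ⟶ M), Commute (x ≫ i) (y ≫ j)) :
    IsMonHom ((i ⊗ₘ j) ≫ μ[G]) := by
  have e : (i ⊗ₘ j) ≫ μ[G] = (fst N M ≫ i) * (snd N M ≫ j) := by
    rw [MonObj.mul_eq_mul, MonObj.comp_mul, tensorHom_fst, tensorHom_snd]
  rw [e]
  constructor
  · simp [MonObj.comp_mul, MonObj.one_eq_one]
  · rw [MonObj.mul_eq_mul, MonObj.mul_eq_mul]
    haveI : IsMonHom (fst N M) := inferInstance
    haveI : IsMonHom (snd N M) := inferInstance
    simp only [MonObj.comp_mul, tensorHom_fst, tensorHom_snd, ← Category.assoc]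
    simp only [MonObj.mul_comp, ← Category.assoc]
    refine (hc _ _).mul_mul_mul_comm _ _

/-- The affine part and the anti-affine part generate. -/
theorem surjective_mul_antiAffine {G N A M : Over (Spec (CommRingCat.of k))} [GrpObj G] [GrpObj N] [GrpObj A] [GrpObj M]
    [Smooth G.hom] [QuasiCompact G.hom] [ConnectedSpace G.left] (i : N ⟶ G) [IsMonHom i] [QuasiCompact N.hom]
    [LocallyOfFiniteType N.hom]
    [IsProper A.hom] [Smooth A.hom] [ConnectedSpace A.left]
    (q : G ⟶ A) [IsMonHom q] [Surjective q.left] (hk : AlgGrp.IsKernel i q)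
    (j : M ⟶ G) [IsMonHom j] [IsClosedImmersion j.left] (hM : Function.Bijective M.hom.appTop)
    (hmax : ∀ (M' : Over (Spec (CommRingCat.of k))) [GrpObj M'] [LocallyOfFiniteType M'.hom] [QuasiCompact M'.hom]
      (j' : M' ⟶ G) [IsMonHom j'] [IsClosedImmersion j'.left], Function.Bijective M'.hom.appTop →
      ∃ f : M' ⟶ M, f ≫ j = j') :
    IsMonHom ((i ⊗ₘ j) ≫ μ[G]) ∧ Surjective ((i ⊗ₘ j) ≫ μ[G]).left := by
  haveI : LocallyOfFiniteType M.hom := by rw [← Over.w j]; infer_instance
  haveI : QuasiCompact M.hom := by rw [← Over.w j]; infer_instance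
  have hhom := isMonHom_mul i j fun x y => (commute_antiAffine hM j y (x ≫ i)).symm
  refine ⟨hhom, ?_⟩
  haveI := hhom
  obtain ⟨M₀, _, a, I, _, p, _, _, hl, hqc, hM₀, -, -, _, hIa, hIl, hfl, hs, -, hka⟩ := exists_antiAffine_kernel G
  haveI := hl; haveI := hqc; haveI := hIa; haveI := hIl; haveI := hfl; haveI := hs
  obtain ⟨u, hu⟩ := hmax M₀ a hM₀
  haveI := surjective_antiAffine_comp a p hka q
  haveI : LocallyOfFiniteType (N ⊗ M).hom := inferInstanceAs (LocallyOfFiniteType (pullback.fst N.hom M.hom ≫ N.hom))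
  haveI : QuasiCompact (N ⊗ M).hom := inferInstanceAs (QuasiCompact (pullback.fst N.hom M.hom ≫ N.hom))
  refine surjective_of_points _ fun g => ?_
  obtain ⟨m, hm⟩ := point_lift (a ≫ q) (g ≫ q)
  have hn : (g * (m ≫ a)⁻¹) ≫ q = toUnit _ ≫ η[A] := by
    rw [MonObj.mul_comp, GrpObj.inv_comp, Category.assoc, hm, mul_inv_cancel]; rfl
  refine ⟨lift (hk.lift _ (toUnit _) hn) (m ≫ u), ?_⟩
  rw [MonObj.mul_eq_mul, MonObj.comp_mul, MonObj.comp_mul, lift_map_assoc, lift_map_assoc, lift_fst, lift_snd,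
    hk.lift_fst, Category.assoc, hu, inv_mul_cancel_right]

/-- The anti-affine part is the smallest subgroup generating the group with the affine part. -/
theorem exists_factor_antiAffine {G N A M H : Over (Spec (CommRingCat.of k))} [GrpObj G] [GrpObj N] [GrpObj A] [GrpObj M]
    [GrpObj H] [Smooth G.hom] [QuasiCompact G.hom] [ConnectedSpace G.left] (i : N ⟶ G) [IsMonHom i] [IsAffine N.left]
    [IsClosedImmersion i.left]
    [IsProper A.hom] [Smooth A.hom] [ConnectedSpace A.left]
    (q : G ⟶ A) [IsMonHom q] [Surjective q.left] (hk : AlgGrp.IsKernel i q)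
    (j : M ⟶ G) [IsMonHom j] [IsClosedImmersion j.left] (hM : Function.Bijective M.hom.appTop)
    (hmax : ∀ (M' : Over (Spec (CommRingCat.of k))) [GrpObj M'] [LocallyOfFiniteType M'.hom] [QuasiCompact M'.hom]
      (j' : M' ⟶ G) [IsMonHom j'] [IsClosedImmersion j'.left], Function.Bijective M'.hom.appTop →
      ∃ f : M' ⟶ M, f ≫ j = j')
    (h : H ⟶ G) [IsMonHom h] [IsClosedImmersion h.left]
    (hs : ∀ g : pts k k ⟶ G, ∃ (n : pts k k ⟶ N) (x : pts k k ⟶ H), (n ≫ i) * (x ≫ h) = g ∨ (x ≫ h) * (n ≫ i) = g) :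
    ∃ f : M ⟶ H, f ≫ h = j := by
  haveI : LocallyOfFiniteType M.hom := by rw [← Over.w j]; infer_instance
  haveI : QuasiCompact M.hom := by rw [← Over.w j]; infer_instance
  haveI : LocallyOfFiniteType H.hom := by rw [← Over.w h]; infer_instance
  haveI : QuasiCompact H.hom := by rw [← Over.w h]; infer_instance
  haveI : LocallyOfFiniteType N.hom := by rw [← Over.w i]; infer_instance
  haveI : QuasiCompact N.hom := inferInstance
  haveI : IsCommMonObj A := by
    haveI := geometricallyIntegral_of_proper A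
    exact isCommMonObj_of_isProper_of_geometricallyIntegral A
  classical
  obtain ⟨H₁, _, e, _, hec, hHs, hHc, hHq, -, -, -, F, hF⟩ := exists_core h
  haveI := hec; haveI := hHs; haveI := hHc; haveI := hHq
  have hi : i ≫ q = 1 := hk.w.trans rfl
  haveI : Surjective ((e ≫ h) ≫ q).left := by
    refine surjective_of_finite_cosets _ (F.image fun a => (a ≫ h) ≫ q) fun y => ?_
    obtain ⟨g, rfl⟩ := point_lift q y
    obtain ⟨n, x, hg⟩ := hs g
    obtain ⟨a, ha, x₁, hx₁⟩ := hF x
    refine ⟨_, Finset.mem_image_of_mem _ ha, x₁, ?_⟩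
    have hxq : g ≫ q = (x ≫ h) ≫ q := by
      rcases hg with hg | hg <;> rw [← hg, MonObj.mul_comp, Category.assoc n i q, hi, MonObj.comp_one]
      · rw [_root_.one_mul]
      · rw [_root_.mul_one]
    rw [hxq, ← hx₁, MonObj.mul_comp, MonObj.mul_comp]
    simp only [Category.assoc]
  obtain ⟨M', _, a, I, _, p, _, _, hl, hqc, hM', -, -, _, hIa, hIl, hfl, hps, -, hka⟩ := exists_antiAffine_kernel H₁
  haveI := hl; haveI := hqc; haveI := hIa; haveI := hIl; haveI := hfl; haveI := hps
  haveI := surjective_antiAffine_comp a p hka ((e ≫ h) ≫ q)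
  haveI : IsClosedImmersion (a ≫ e ≫ h).left := inferInstanceAs (IsClosedImmersion (a.left ≫ e.left ≫ h.left))
  obtain ⟨u, hu⟩ := hmax M' (a ≫ e ≫ h) hM'
  haveI : Mono j := (Over.forget _).mono_of_mono_map (inferInstanceAs (Mono j.left))
  haveI : IsMonHom u := by
    constructor
    · rw [← cancel_mono j, Category.assoc, hu, IsMonHom.one_hom, IsMonHom.one_hom]
    · rw [← cancel_mono j, Category.assoc, hu, IsMonHom.mul_hom, Category.assoc, IsMonHom.mul_hom,
        tensorHom_comp_tensorHom_assoc, hu]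
  haveI : IsSeparated M.hom := GrpSchLib.AntiAffine.isSeparated_grp M
  haveI : IsClosedImmersion u.left := by
    haveI : IsClosedImmersion (u.left ≫ j.left) := by rw [← Over.comp_left, hu]; infer_instance
    exact IsClosedImmersion.of_comp u.left j.left
  have hn : AlgGrp.IsNormalHom u := fun T g x => ⟨x, by
    have := commute_antiAffine hM j g ((x ≫ u) ≫ j)
    rw [← MonObj.mul_comp, ← MonObj.mul_comp, cancel_mono] at this
    rw [this, mul_inv_cancel_right]⟩
  haveI : Smooth M.hom := GrpSchLib.AntiAffineSmooth.smooth hM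
  haveI := GrpSchLib.AntiAffine.connectedSpace_of_bijective hM
  obtain ⟨T, _, t, _, ht, hkt, _, hTl, hTq, hTsm, -⟩ := QuotAlgClosed.exists_quotGrp M M' u hn
  obtain ⟨hts, htf, -, -⟩ := ht
  haveI := hts; haveI := htf; haveI := hTl; haveI := hTq; haveI := hTsm inferInstance
  haveI : IsReduced T.left := GrpSchLib.isReduced_of_smooth_field T.hom
  -- the intersection with the affine subgroup maps onto the quotient
  obtain ⟨K, _, κ, _, _, -, hK⟩ := GrpSchLib.exists_kernel (j ≫ q)
  haveI : LocallyOfFiniteType K.hom := by rw [← Over.w κ]; infer_instance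
  haveI : QuasiCompact K.hom := by rw [← Over.w κ]; infer_instance
  haveI : IsAffine K.left := by
    have hκ : (κ ≫ j) ≫ q = toUnit K ≫ η[A] := by rw [Category.assoc]; exact hK.w
    let b : K ⟶ N := hk.lift (κ ≫ j) (toUnit K) hκ
    haveI : IsClosedImmersion (b.left ≫ i.left) := by
      rw [← Over.comp_left, show b ≫ i = κ ≫ j from hk.lift_fst _ _ _]
      exact inferInstanceAs (IsClosedImmersion (κ.left ≫ j.left))
    haveI : IsClosedImmersion b.left := IsClosedImmersion.of_comp b.left i.left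
    exact isAffine_of_isAffineHom b.left
  haveI : QuasiCompact (κ ≫ t).left := quasiCompact_left (κ ≫ t)
  haveI : Surjective (κ ≫ t).left := by
    refine surjective_of_points _ fun y => ?_
    obtain ⟨m, rfl⟩ := point_lift t y
    obtain ⟨m', hm'⟩ := point_lift (a ≫ (e ≫ h) ≫ q) ((m ≫ j) ≫ q)
    have hm : (m * (m' ≫ u)⁻¹) ≫ j ≫ q = toUnit _ ≫ η[A] := by
      rw [MonObj.mul_comp, GrpObj.inv_comp, ← Category.assoc, ← Category.assoc (m' ≫ u), Category.assoc m' u j, hu,
        show (m' ≫ a ≫ e ≫ h) ≫ q = m' ≫ a ≫ (e ≫ h) ≫ q by simp only [Category.assoc], hm', mul_inv_cancel]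
      rfl
    refine ⟨hK.lift _ (toUnit _) hm, ?_⟩
    rw [← Category.assoc, hK.lift_fst, MonObj.mul_comp, GrpObj.inv_comp, Category.assoc m', hkt.w,
      ← Category.assoc m', comp_toUnit, show toUnit (pts k k) ≫ η[T] = 1 from rfl, inv_one, _root_.mul_one]
  haveI : Flat (κ ≫ t).left := GrpSchLib.DomHom.flat (κ ≫ t) (κ ≫ t).left.surjective.denseRange
  haveI : IsAffine T.left := GrpSchLib.isAffine_of_quotient (κ ≫ t)
  have ht1 : t = 1 := by
    rw [GrpSchLib.AntiAffine.eq_const_of_isAffine hM t η[M], IsMonHom.one_hom]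
    rfl
  let r : M ⟶ M' := hkt.lift (𝟙 M) (toUnit M) ((Category.id_comp t).trans ht1)
  exact ⟨r ≫ a ≫ e, by
    rw [Category.assoc, Category.assoc, ← hu, ← Category.assoc, show r ≫ u = 𝟙 M from hkt.lift_fst _ _ _,
      Category.id_comp]⟩

end Groth.Agent.AGStr.Chev
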