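import Groth.Agent.AGStr.Chev.Nonproper
import Groth.Agent.AGStr.Complement
import Groth.Agent.AGStr.QuotAlgClosed
import Groth.Agent.AGStr.AffineKernel
import Groth.Agent.GrpSchLib.AffinizationKer
import Groth.Agent.GrpSchLib.AntiAffineSmoothAny
import Groth.Agent.GrpSchLib.RedSubgroup
import Groth.Agent.GrpSchLib.KernelGrp

/-!
Chevalley's structure theorem over an algebraically closed field.
-/

set_option autoImplicit false
set_option maxHeartbeats 1000000

universe u

open CategoryTheory CategoryTheory.Limits AlgebraicGeometry MonoidalCategory CartesianMonoidalCategory MonObj GrpObj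

namespace Groth.Agent.AGStr.Chev

variable {k : Type u} [Field k] [IsAlgClosed k]

/-- The unit of the category as a point. -/
theorem one_left_apply (G : Over (Spec (CommRingCat.of k))) [GrpObj G] :
    (1 : pts k k ⟶ G).left (IsLocalRing.closedPoint k) = η[G].left (IsLocalRing.closedPoint k) := by
  rw [Hom.one_def, Over.comp_left, Scheme.Hom.comp_apply]
  congr 1

/-- A homomorphism with finitely many rational points in the kernel is finite. -/
theorem isFinite_of_finite_ker {G H : Over (Spec (CommRingCat.of k))} [GrpObj G] [GrpObj H] [LocallyOfFiniteType G.hom]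
    [QuasiCompact G.hom] [LocallyOfFiniteType H.hom] (u : G ⟶ H) [IsMonHom u] (hf : {g : pts k k ⟶ G | g ≫ u = 1}.Finite) :
    IsFinite u.left := by
  haveI : QuasiCompact u.left := quasiCompact_left u
  haveI : JacobsonSpace G.left := LocallyOfFiniteType.jacobsonSpace G.hom
  let y₀ : H.left := η[H].left (IsLocalRing.closedPoint k)
  let Z : Set G.left := u.left ⁻¹' {y₀}
  have hy₀ : IsClosed ({y₀} : Set H.left) := by
    have := point_closed (1 : pts k k ⟶ H)
    rwa [one_left_apply] at this
  have hZ : IsClosed Z := hy₀.preimage u.left.continuous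
  let P : Set G.left := (fun g : pts k k ⟶ G => g.left (IsLocalRing.closedPoint k)) '' {g | g ≫ u = 1}
  have hP : P.Finite := hf.image _
  have hPc : IsClosed P := by
    rw [← Set.biUnion_of_singleton P]
    refine hP.isClosed_biUnion fun x hx => ?_
    obtain ⟨g, -, rfl⟩ := hx
    exact point_closed g
  have hZP : Z ⊆ P := by
    intro x hx
    have h1 : x ∈ closure (Z ∩ closedPoints G.left) := by rw [closure_inter_closedPoints hZ]; exact hx
    refine closure_minimal ?_ hPc h1
    rintro z ⟨hz, hzc⟩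
    obtain ⟨g, rfl⟩ := point_exists hzc
    refine ⟨g, point_ext ?_, rfl⟩
    rw [Over.comp_left, Scheme.Hom.comp_apply, one_left_apply]
    exact hz
  haveI : LocallyQuasiFinite u.left := GrpSchLib.HomFinite.locallyQuasiFinite_of_finite_preimage u (hP.subset hZP)
  exact GrpSchLib.HomFinite.isFinite_of_isAlgClosed u

/-- A finite morphism has finitely many rational points over a rational point. -/
theorem finite_points_of_isFinite {X Y : Over (Spec (CommRingCat.of k))} [LocallyOfFiniteType X.hom] (f : X ⟶ Y)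
    [IsFinite f.left] (y : pts k k ⟶ Y) : {x : pts k k ⟶ X | x ≫ f = y}.Finite := by
  refine Set.Finite.of_finite_image (f := fun x => x.left (IsLocalRing.closedPoint k)) ?_ fun a _ b _ h => point_ext h
  refine (f.left.finite_preimage_singleton (y.left (IsLocalRing.closedPoint k))).subset ?_
  rintro _ ⟨x, hx, rfl⟩
  exact congrArg (fun m : pts k k ⟶ Y => m.left (IsLocalRing.closedPoint k)) hx

/-- An open subgroup has finitely many cosets. -/
theorem finite_cosets {G G₀ : Over (Spec (CommRingCat.of k))} [GrpObj G] [LocallyOfFiniteType G.hom] [QuasiCompact G.hom]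
    [GrpObj G₀] (e : G₀ ⟶ G) [IsMonHom e] [IsOpenImmersion e.left] :
    ∃ F : Finset (pts k k ⟶ G), ∀ g : pts k k ⟶ G, ∃ a ∈ F, ∃ g₀ : pts k k ⟶ G₀, a * (g₀ ≫ e) = g := by
  haveI : CompactSpace G.left := QuasiCompact.compactSpace_of_compactSpace G.hom
  let R : (pts k k ⟶ G) → Set G.left := fun a => Set.range (e ≫ transl a).left
  have hiso : ∀ a : pts k k ⟶ G, IsIso (transl a).left := fun a => ⟨(transl a⁻¹).left,
    by rw [← Over.comp_left, transl_comp, inv_mul_cancel, transl_one]; rfl,
    by rw [← Over.comp_left, transl_comp, mul_inv_cancel, transl_one]; rfl⟩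
  have hR : ∀ a, IsOpen (R a) := fun a => by
    haveI := hiso a
    haveI : IsOpenImmersion (e ≫ transl a).left := inferInstanceAs (IsOpenImmersion (e.left ≫ (transl a).left))
    exact (e ≫ transl a).left.isOpenEmbedding.isOpen_range
  obtain ⟨F, hF⟩ := (isCompact_univ (X := G.left)).elim_finite_subcover R hR (by
    by_contra hne
    obtain ⟨x, -, hx⟩ := Set.not_subset.mp hne
    obtain ⟨g, hg⟩ := point_exists_mem (X := G) (Z := (⋃ a, R a)ᶜ) (isOpen_iUnion hR).isClosed_compl.isLocallyClosed ⟨x, hx⟩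
    refine hg (Set.mem_iUnion.mpr ⟨g, (1 : pts k k ⟶ G₀).left (IsLocalRing.closedPoint k), ?_⟩)
    rw [← Scheme.Hom.comp_apply, ← Over.comp_left, ← Category.assoc, MonObj.one_comp, comp_transl, cst_self,
      _root_.mul_one])
  refine ⟨F, fun g => ?_⟩
  obtain ⟨a, ha, y, hy⟩ := Set.mem_iUnion₂.mp (hF (Set.mem_univ (g.left (IsLocalRing.closedPoint k))))
  haveI := hiso a
  haveI : IsOpenImmersion (e ≫ transl a).left := inferInstanceAs (IsOpenImmersion (e.left ≫ (transl a).left))
  let l := IsOpenImmersion.lift (e ≫ transl a).left g.left (by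
    rintro _ ⟨z, rfl⟩
    rw [Subsingleton.elim (α := PrimeSpectrum k) z (IsLocalRing.closedPoint k)]
    exact ⟨y, hy⟩)
  let g₀ : pts k k ⟶ G₀ := Over.homMk l (by
    rw [← Over.w (e ≫ transl a), IsOpenImmersion.lift_fac_assoc]; exact Over.w g)
  have hg : g₀ ≫ e ≫ transl a = g := Over.OverMorphism.ext (IsOpenImmersion.lift_fac _ _ _)
  exact ⟨a, ha, g₀, by rw [← cst_self a, ← comp_transl, Category.assoc, hg]⟩

/-- The points of an open subgroup control finiteness. -/
theorem finite_points_of_open {G G₀ : Over (Spec (CommRingCat.of k))} [GrpObj G] [LocallyOfFiniteType G.hom] [QuasiCompact G.hom]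
    [GrpObj G₀] (e : G₀ ⟶ G) [IsMonHom e] [IsOpenImmersion e.left] [Finite (pts k k ⟶ G₀)] : Finite (pts k k ⟶ G) := by
  obtain ⟨F, hF⟩ := finite_cosets e
  choose a ha g₀ hg using hF
  exact Finite.of_injective (fun g => ((⟨a g, ha g⟩ : F), g₀ g)) fun g g' h => by
    simp only [Prod.mk.injEq, Subtype.mk.injEq] at h
    rw [← hg g, ← hg g', h.1, h.2]

/-- The reduced subgroup of a normal subgroup is normal. -/
theorem isNormalHom_red {G N M : Over (Spec (CommRingCat.of k))} [GrpObj G] [GrpObj N] [GrpObj M] [Smooth G.hom]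
    (j : N ⟶ G) [IsMonHom j] [IsClosedImmersion j.left] (hn : AlgGrp.IsNormalHom j) (ρ : M ⟶ N) [IsMonHom ρ]
    [IsClosedImmersion ρ.left] [Surjective ρ.left] [Smooth M.hom] : AlgGrp.IsNormalHom (ρ ≫ j) := by
  haveI : Smooth (G ⊗ M).hom := inferInstanceAs (Smooth (pullback.fst G.hom M.hom ≫ G.hom))
  haveI : IsReduced (G ⊗ M).left := GrpSchLib.isReduced_of_smooth_field (G ⊗ M).hom
  obtain ⟨c, hc⟩ := hn (G ⊗ M) (fst G M) (snd G M ≫ ρ)
  obtain ⟨l, hl⟩ := H23.RedSub.exists_lift_closed c.left ρ.left (by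
    rw [ρ.left.surjective.range_eq]; exact Set.subset_univ _)
  let c₀ : G ⊗ M ⟶ M := Over.homMk l (by rw [← Over.w ρ, ← Category.assoc, hl]; exact Over.w c)
  have hc₀ : c₀ ≫ ρ = c := Over.OverMorphism.ext hl
  intro T g m
  refine ⟨lift g m ≫ c₀, ?_⟩
  rw [Category.assoc, ← Category.assoc c₀, hc₀, ← hc]
  simp [MonObj.comp_mul, GrpObj.comp_inv]

/-- The reduced identity component of a subgroup with infinitely many points. -/
theorem exists_core {G K : Over (Spec (CommRingCat.of k))} [GrpObj G] [GrpObj K] [Smooth G.hom] [QuasiCompact G.hom]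
    (j : K ⟶ G) [IsMonHom j] [IsClosedImmersion j.left] :
    ∃ (M : Over (Spec (CommRingCat.of k))) (_ : GrpObj M) (m : M ⟶ K), IsMonHom m ∧ IsClosedImmersion m.left ∧
      Smooth M.hom ∧ ConnectedSpace M.left ∧ QuasiCompact M.hom ∧
      (IsAffine K.left → IsAffine M.left) ∧ (AlgGrp.IsNormalHom j → AlgGrp.IsNormalHom (m ≫ j)) ∧
      (Infinite (pts k k ⟶ K) → Infinite (pts k k ⟶ M)) ∧
      ∃ F : Finset (pts k k ⟶ K), ∀ g : pts k k ⟶ K, ∃ a ∈ F, ∃ g₀ : pts k k ⟶ M, a * (g₀ ≫ m) = g := by
  haveI : LocallyOfFiniteType K.hom := by rw [← Over.w j]; infer_instance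
  haveI : QuasiCompact K.hom := by rw [← Over.w j]; infer_instance
  obtain ⟨R, _, ρ, _, _, _, _, _, _⟩ := GrpSchLib.RedSubgroup.exists_redSubgroup K
  haveI : Smooth R.hom := GrpSchLib.smooth_of_perfectField_of_isReduced R
  obtain ⟨M, _, e, _, heo, hec, hMl, hMq, hMc, hMgi, -, hMs, hr⟩ := exists_neutral R
  haveI := heo; haveI := hec; haveI := hMl; haveI := hMq; haveI := hMc; haveI := hMgi
  haveI := hMs inferInstance
  haveI : IsClosedImmersion (e ≫ ρ).left := inferInstanceAs (IsClosedImmersion (e.left ≫ ρ.left))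
  have hlift : ∀ g : pts k k ⟶ K, ∃ r : pts k k ⟶ R, r ≫ ρ = g := fun g => by
    obtain ⟨y, hy⟩ := ρ.left.surjective (g.left (IsLocalRing.closedPoint k))
    obtain ⟨r, hr'⟩ := point_exists (X := R) (x := y) (by
      rw [← ρ.left.injective.preimage_image {y}, Set.image_singleton, hy]
      exact (point_closed g).preimage ρ.left.continuous)
    exact ⟨r, point_ext (by rw [Over.comp_left, Scheme.Hom.comp_apply, hr', hy])⟩
  choose r hr' using hlift
  obtain ⟨F, hF⟩ := finite_cosets e
  classical
  refine ⟨M, inferInstance, e ≫ ρ, inferInstance, inferInstance, inferInstance, inferInstance, inferInstance,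
    fun h => ?_, fun hn => ?_, fun hinf => ?_, F.image (fun a => a ≫ ρ), fun g => ?_⟩
  · exact isAffine_of_isAffineHom (e ≫ ρ).left
  · haveI : Mono (ρ ≫ j) := (Over.forget _).mono_of_mono_map (inferInstanceAs (Mono (ρ.left ≫ j.left)))
    rw [Category.assoc]
    exact isNormalHom_comp_component (ρ ≫ j) (isNormalHom_red j hn ρ) e hr
  · by_contra hfin
    haveI : Finite (pts k k ⟶ M) := not_infinite_iff_finite.mp hfin
    haveI := finite_points_of_open e
    haveI : Finite (pts k k ⟶ K) := Finite.of_injective r fun a b h => by rw [← hr' a, ← hr' b, h]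
    exact not_finite (pts k k ⟶ K)
  · obtain ⟨a, ha, g₀, hg⟩ := hF (r g)
    refine ⟨a ≫ ρ, Finset.mem_image_of_mem _ ha, g₀, ?_⟩
    rw [← Category.assoc, ← MonObj.mul_comp, hg, hr']

/-- A connected nonproper group has an infinite normal connected affine subgroup. -/
theorem exists_normal_affine (G : Over (Spec (CommRingCat.of k))) [GrpObj G] [Smooth G.hom] [QuasiCompact G.hom]
    [ConnectedSpace G.left] (hG : ¬ IsProper G.hom) :
    ∃ (N : Over (Spec (CommRingCat.of k))) (_ : GrpObj N) (i : N ⟶ G), IsMonHom i ∧ IsClosedImmersion i.left ∧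
      Smooth N.hom ∧ ConnectedSpace N.left ∧ IsAffine N.left ∧ AlgGrp.IsNormalHom i ∧ Infinite (pts k k ⟶ N) := by
  haveI := GrpSchLib.AntiAffine.isSeparated_grp G
  obtain ⟨I, _, p, hp, hI, hlft, hfl, hs, hb⟩ := GrpSchLib.Affinization.exists_affinization G
  haveI := hp; haveI := hI; haveI := hlft; haveI := hfl; haveI := hs
  haveI : IsSeparated I.hom := inferInstance
  obtain ⟨A, _, a, _, _, han, hak⟩ := GrpSchLib.exists_kernel p
  haveI : LocallyOfFiniteType A.hom := by rw [← Over.w a]; infer_instance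
  haveI : QuasiCompact A.hom := by rw [← Over.w a]; infer_instance
  have hA : Function.Bijective A.hom.appTop := by
    obtain ⟨_, -, -, hker⟩ := GrpSchLib.AffinizationKer.main G
    haveI : IsIso p.left.appTop := (ConcreteCategory.isIso_iff_bijective _).mpr hb
    let m : I.left ⟶ Spec Γ(G.left, ⊤) := I.left.toSpecΓ ≫ inv (Spec.map p.left.appTop)
    have hm : G.left.toSpecΓ = p.left ≫ m := by
      rw [← Category.assoc, Scheme.toSpecΓ_naturality, Category.assoc, IsIso.hom_inv_id, Category.comp_id]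
    let N := GrpSchLib.AffinizationKer.ker G
    let n : N ⟶ G := Over.homMk (pullback.fst G.left.toSpecΓ (η[G].left ≫ G.left.toSpecΓ)) (by
      haveI : Mono m := inferInstance
      have hw : pullback.fst G.left.toSpecΓ (η[G].left ≫ G.left.toSpecΓ) ≫ p.left =
          pullback.snd G.left.toSpecΓ (η[G].left ≫ G.left.toSpecΓ) ≫ η[I].left := by
        rw [← cancel_mono m, Category.assoc, Category.assoc, ← hm, ← IsMonHom.one_hom p, Over.comp_left,
          Category.assoc, ← hm]
        exact pullback.condition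
      rw [← Over.w p, reassoc_of% hw, Over.w η[I]]
      rfl)
    have hn : n ≫ p = toUnit N ≫ η[I] := by
      refine Over.OverMorphism.ext ?_
      haveI : Mono m := inferInstance
      rw [← cancel_mono m]
      simp only [Over.comp_left, Category.assoc]
      show pullback.fst _ _ ≫ p.left ≫ m = (toUnit N).left ≫ η[I].left ≫ m
      rw [← hm, ← IsMonHom.one_hom p, Over.comp_left, Category.assoc, ← hm, pullback.condition]
      congr 1
    have ha : a.left ≫ G.left.toSpecΓ = A.hom ≫ η[G].left ≫ G.left.toSpecΓ := by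
      have h1 : a.left ≫ p.left = A.hom ≫ (η[G] ≫ p).left := by
        rw [← Over.comp_left, hak.w, IsMonHom.one_hom]; rfl
      rw [hm, ← Category.assoc, h1, Over.comp_left, Category.assoc, Category.assoc]
    let e₁ : A ⟶ N := Over.homMk (pullback.lift a.left A.hom ha) (by
      show pullback.lift _ _ _ ≫ pullback.snd _ _ ≫ _ = _
      rw [pullback.lift_snd_assoc]; exact Category.comp_id _)
    let e₂ : N ⟶ A := hak.lift n (toUnit N) hn
    have h12 : e₁ ≫ n = a := Over.OverMorphism.ext (pullback.lift_fst _ _ _)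
    have h21 : e₂ ≫ a = n := hak.lift_fst _ _ _
    haveI : Mono a := (Over.forget _).mono_of_mono_map (inferInstanceAs (Mono a.left))
    haveI : Mono n.left := by
      haveI : IsSplitMono η[G].left := ⟨⟨⟨G.hom, Over.w η[G]⟩⟩⟩
      haveI : Mono (η[G].left ≫ G.left.toSpecΓ) := by
        haveI : IsSplitMono η[I].left := ⟨⟨⟨I.hom, Over.w η[I]⟩⟩⟩
        rw [hm, ← Category.assoc, ← Over.comp_left, IsMonHom.one_hom]
        infer_instance
      exact inferInstanceAs (Mono (pullback.fst G.left.toSpecΓ (η[G].left ≫ G.left.toSpecΓ)))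
    haveI : Mono n := (Over.forget _).mono_of_mono_map (inferInstanceAs (Mono n.left))
    have hiso : IsIso e₁ := ⟨e₂, by rw [← cancel_mono a, Category.assoc, h21, h12, Category.id_comp],
      by rw [← cancel_mono n, Category.assoc, h12, h21, Category.id_comp]⟩
    haveI : IsIso e₁.left := (Over.forget _).map_isIso e₁
    haveI : IsIso e₁.left.appTop := inferInstanceAs (IsIso (Scheme.Γ.map e₁.left.op))
    rw [← Over.w e₁, Scheme.Hom.comp_appTop]
    exact (ConcreteCategory.bijective_of_isIso e₁.left.appTop).comp hker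
  haveI := GrpSchLib.AntiAffineSmooth.smooth (G := A) hA
  haveI := GrpSchLib.AntiAffine.connectedSpace_of_bijective hA
  have hcentral : ∀ (T : Over (Spec (CommRingCat.of k))) (x : T ⟶ A) (g : T ⟶ G), (x ≫ a) * g = g * (x ≫ a) :=
    fun T x g => GrpSchLib.AntiAffine.commute hA a (by rw [IsMonHom.one_hom, MonObj.one_eq_one]) x g
  by_cases hAp : IsProper A.hom
  · -- the affine kernel of a retraction onto the abelian part
    haveI := hAp
    obtain ⟨r, n, hn, _, hri⟩ := Complement.exists_retraction a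
    obtain ⟨K, _, κ, _, _, hKn, hKk⟩ := GrpSchLib.exists_kernel r
    haveI : LocallyOfFiniteType K.hom := by rw [← Over.w κ]; infer_instance
    haveI : QuasiCompact K.hom := by rw [← Over.w κ]; infer_instance
    haveI : IsFinite ((𝟙 A) ^ n : A ⟶ A).left := by
      haveI := geometricallyIntegral_of_proper A
      exact Groth.Agent.AVMulN.isFinite_pow n hn
    haveI : Mono κ := (Over.forget _).mono_of_mono_map (inferInstanceAs (Mono κ.left))
    haveI : IsFinite (κ ≫ p).left := by
      refine isFinite_of_finite_ker _ ?_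
      have h1 := finite_points_of_isFinite ((𝟙 A) ^ n) (1 : pts k k ⟶ A)
      refine Set.Finite.of_finite_image (f := fun g : pts k k ⟶ K => g ≫ κ) ((h1.image fun x => x ≫ a).subset ?_)
        fun x _ y _ h => (cancel_mono κ).mp h
      rintro _ ⟨g, hg, rfl⟩
      have hg' : (g ≫ κ) ≫ p = toUnit _ ≫ η[I] := by rw [Category.assoc]; exact hg
      refine ⟨hak.lift (g ≫ κ) (toUnit _) hg', ?_, hak.lift_fst _ _ _⟩
      show hak.lift (g ≫ κ) (toUnit _) hg' ≫ (𝟙 A) ^ n = 1
      rw [← hri, ← Category.assoc, hak.lift_fst, Category.assoc, hKk.w, ← Category.assoc, comp_toUnit]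
      rfl
    haveI : IsAffine K.left := isAffine_of_isAffineHom (κ ≫ p).left
    obtain ⟨M, _, m, _, _, hMs, hMc, -, hMa, hMn, hMi, -⟩ := exists_core κ
    refine ⟨M, inferInstance, m ≫ κ, inferInstance, inferInstanceAs (IsClosedImmersion (m.left ≫ κ.left)), hMs, hMc,
      hMa inferInstance, hMn hKn, hMi ?_⟩
    by_contra hfin
    apply hG
    haveI : Finite (pts k k ⟶ K) := not_infinite_iff_finite.mp hfin
    haveI : IsFinite r.left := by
      refine isFinite_of_finite_ker _ ((Set.finite_range fun g : pts k k ⟶ K => g ≫ κ).subset fun g hg => ?_)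
      exact ⟨hKk.lift g (toUnit _) (hg.trans rfl), hKk.lift_fst _ _ _⟩
    rw [← Over.w r]
    infer_instance
  · -- an affine subgroup of the central part
    obtain ⟨H, _, i, _, _, hHs, hHa, -, -, hHi, -⟩ := exists_affine_subgroup A hAp
    haveI : IsClosedImmersion (i ≫ a).left := inferInstanceAs (IsClosedImmersion (i.left ≫ a.left))
    obtain ⟨M, _, m, _, _, hMs, hMc, -, hMa, hMn, hMi, -⟩ := exists_core (i ≫ a)
    refine ⟨M, inferInstance, m ≫ i ≫ a, inferInstance, inferInstanceAs (IsClosedImmersion (m.left ≫ (i ≫ a).left)),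
      hMs, hMc, hMa hHa, hMn ?_, hMi hHi⟩
    intro T g x
    refine ⟨x, ?_⟩
    rw [← Category.assoc, ← hcentral T (x ≫ i) g]
    rw [mul_inv_cancel_right]

/-- Chevalley's theorem over an algebraically closed field. -/
theorem exists_chevalley (G : Over (Spec (CommRingCat.of k))) [GrpObj G] [Smooth G.hom] [QuasiCompact G.hom]
    [ConnectedSpace G.left] :
    ∃ (L : Over (Spec (CommRingCat.of k))) (_ : GrpObj L) (l : L ⟶ G) (Q : Over (Spec (CommRingCat.of k))) (_ : GrpObj Q)
      (q : G ⟶ Q), IsMonHom l ∧ IsClosedImmersion l.left ∧ IsAffine L.left ∧ Smooth L.hom ∧ ConnectedSpace L.left ∧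
      AlgGrp.IsNormalHom l ∧ IsMonHom q ∧ Surjective q.left ∧ Flat q.left ∧ AlgGrp.IsKernel l q ∧
      IsProper Q.hom ∧ Smooth Q.hom ∧ ConnectedSpace Q.left := by
  classical
  haveI : IsReduced G.left := GrpSchLib.isReduced_of_smooth_field G.hom
  haveI : LocallyOfFiniteType G.hom := inferInstance
  haveI : CompactSpace G.left := QuasiCompact.compactSpace_of_compactSpace G.hom
  haveI : IrreducibleSpace G.left := by
    haveI : GeometricallyIntegral G.hom := QuasiRetr.geometricallyIntegral_of_smooth G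
    haveI : UniversallyOpen G.hom := inferInstance
    exact GeometricallyIrreducible.irreducibleSpace G.hom G.hom.isOpenMap
  -- normal connected affine subgroups, measured by the degree of their generic points
  let good : ℕ → Prop := fun d => ∃ (N : Over (Spec (CommRingCat.of k))) (_ : GrpObj N) (i : N ⟶ G) (x : N.left),
    IsMonHom i ∧ IsClosedImmersion i.left ∧ Smooth N.hom ∧ ConnectedSpace N.left ∧ IsAffine N.left ∧
      AlgGrp.IsNormalHom i ∧ closure {x} = Set.univ ∧ VarDim.deg G.hom (i.left x) = d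
  have hgood : ∀ (N : Over (Spec (CommRingCat.of k))) [GrpObj N] (i : N ⟶ G) [IsMonHom i] [IsClosedImmersion i.left]
      [Smooth N.hom] [ConnectedSpace N.left] [IsAffine N.left], AlgGrp.IsNormalHom i →
      ∃ x : N.left, closure {x} = Set.univ ∧ good (VarDim.deg G.hom (i.left x)) := by
    intro N _ i _ _ _ _ _ hn
    haveI : QuasiCompact N.hom := by rw [← Over.w i]; infer_instance
    haveI : GeometricallyIntegral N.hom := QuasiRetr.geometricallyIntegral_of_smooth N
    haveI : UniversallyOpen N.hom := inferInstance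
    haveI : IrreducibleSpace N.left := GeometricallyIrreducible.irreducibleSpace N.hom N.hom.isOpenMap
    exact ⟨genericPoint N.left, genericPoint_spec N.left, N, inferInstance, i, genericPoint N.left, inferInstance,
      inferInstance, inferInstance, inferInstance, inferInstance, hn, genericPoint_spec N.left, rfl⟩
  have hbdd : ∀ d, good d → d ≤ VarDim.deg G.hom (genericPoint G.left) := by
    rintro d ⟨N, _, i, x, -, -, -, -, -, -, -, rfl⟩
    exact VarDim.deg_le_of_specializes G.hom (genericPoint_specializes _)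
  have hne : ∃ d, good d := by
    haveI : IsClosedImmersion η[G].left := by
      haveI : IsSeparated G.hom := GrpSchLib.AntiAffine.isSeparated_grp G
      haveI : IsClosedImmersion (η[G].left ≫ G.hom) := by rw [Over.w]; exact inferInstanceAs (IsClosedImmersion (𝟙 _))
      exact IsClosedImmersion.of_comp η[G].left G.hom
    haveI : Smooth (𝟙_ (Over (Spec (CommRingCat.of k)))).hom := inferInstanceAs (Smooth (𝟙 _))
    haveI : IsAffine (𝟙_ (Over (Spec (CommRingCat.of k)))).left := inferInstanceAs (IsAffine (Spec _))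
    haveI : ConnectedSpace (𝟙_ (Over (Spec (CommRingCat.of k)))).left := inferInstanceAs (ConnectedSpace (PrimeSpectrum k))
    obtain ⟨x, -, hx⟩ := hgood (𝟙_ (Over (Spec (CommRingCat.of k)))) η[G] fun T g m => ⟨m, by
      rw [show m ≫ η[G] = (1 : T ⟶ G) by rw [Hom.one_def]; congr 1; exact toUnit_unique _ _, _root_.mul_one, mul_inv_cancel]⟩
    exact ⟨_, hx⟩
  obtain ⟨d₀, hd₀⟩ := hne
  let D := Nat.findGreatest good (VarDim.deg G.hom (genericPoint G.left))
  have hD : good D := Nat.findGreatest_spec (hbdd _ hd₀) hd₀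
  obtain ⟨N, _, i, x, _, _, hNs, hNc, hNa, hn, hx, hdx⟩ := hD
  haveI := hNs; haveI := hNc; haveI := hNa
  haveI : QuasiCompact N.hom := by rw [← Over.w i]; infer_instance
  obtain ⟨Q, _, q, _, hq, hk, hQs, hQl, hQq, hQsm, hQc⟩ := QuotAlgClosed.exists_quotGrp G N i hn
  obtain ⟨hs, hf, hl, -⟩ := hq
  haveI := hs; haveI := hf; haveI := hQs; haveI := hQl; haveI := hQq
  haveI := hQsm inferInstance; haveI := hQc inferInstance
  refine ⟨N, inferInstance, i, Q, inferInstance, q, inferInstance, inferInstance, inferInstance, inferInstance,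
    inferInstance, hn, inferInstance, inferInstance, inferInstance, hk, ?_, inferInstance, inferInstance⟩
  by_contra hQ
  obtain ⟨N', _, i', _, _, _, _, _, hn', hinf⟩ := exists_normal_affine Q hQ
  -- the preimage
  let P : Over (Spec (CommRingCat.of k)) := pullback q i'
  let π : P ⟶ G := pullback.fst q i'
  haveI : Mono i' := (Over.forget _).mono_of_mono_map (inferInstanceAs (Mono i'.left))
  haveI : Mono π := inferInstance
  have hpl : IsPullback π.left (pullback.snd q i').left q.left i'.left :=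
    (IsPullback.of_hasPullback q i').map (Over.forget _)
  haveI : IsClosedImmersion π.left := MorphismProperty.of_isPullback hpl.flip ‹IsClosedImmersion i'.left›
  haveI : IsAffine P.left := by
    haveI := isAffineHom_of_isKernel i q hk
    haveI : IsAffineHom (pullback.snd q i').left := MorphismProperty.of_isPullback hpl ‹IsAffineHom q.left›
    exact isAffine_of_isAffineHom (pullback.snd q i').left
  have hpmem : ∀ {T : Over (Spec (CommRingCat.of k))} (g : T ⟶ G), (∃ y : T ⟶ N', y ≫ i' = g ≫ q) → ∃ z : T ⟶ P, z ≫ π = g :=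
    fun g ⟨y, hy⟩ => ⟨pullback.lift g y hy.symm, pullback.lift_fst _ _ _⟩
  obtain ⟨e, he⟩ := hpmem η[G] ⟨η[N'], by rw [IsMonHom.one_hom, IsMonHom.one_hom]⟩
  obtain ⟨μ', hμ'⟩ := hpmem ((fst P P ≫ π) * (snd P P ≫ π))
    ⟨(fst P P ≫ pullback.snd q i') * (snd P P ≫ pullback.snd q i'), by
      rw [MonObj.mul_comp, MonObj.mul_comp, Category.assoc, Category.assoc, Category.assoc, Category.assoc,
        ← pullback.condition]⟩
  obtain ⟨v, hv⟩ := hpmem π⁻¹ ⟨(pullback.snd q i')⁻¹, by rw [GrpObj.inv_comp, GrpObj.inv_comp, ← pullback.condition]⟩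
  obtain ⟨str, hπ⟩ := GrpSchLib.exists_grpObj_of_mono π e he μ' hμ' v hv
  letI := str
  haveI := hπ
  haveI : LocallyOfFiniteType P.hom := by rw [← Over.w π]; infer_instance
  have hPn : AlgGrp.IsNormalHom π := by
    intro T g z
    obtain ⟨y, hy⟩ := hn' T (g ≫ q) (z ≫ pullback.snd q i')
    obtain ⟨w, hw⟩ := hpmem (g * (z ≫ π) * g⁻¹) ⟨y, by
      rw [← hy, MonObj.mul_comp, MonObj.mul_comp, GrpObj.inv_comp, Category.assoc, Category.assoc, pullback.condition]⟩
    exact ⟨w, hw.symm⟩
  obtain ⟨M, _, m, _, _, hMs, hMc, -, hMa, hMn, -, F, hF⟩ := exists_core π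
  haveI := hMs; haveI := hMc; haveI := hMa inferInstance
  haveI : IsClosedImmersion (m ≫ π).left := inferInstanceAs (IsClosedImmersion (m.left ≫ π.left))
  obtain ⟨y, hy, hgy⟩ := hgood M (m ≫ π) (hMn hPn)
  have hle : VarDim.deg G.hom ((m ≫ π).left y) ≤ D := Nat.le_findGreatest (hbdd _ hgy) hgy
  -- `N` lies in `M`
  haveI : Mono i := (Over.forget _).mono_of_mono_map (inferInstanceAs (Mono i.left))
  obtain ⟨b, hb⟩ : ∃ b : N ⟶ P, b ≫ π = i := hpmem i ⟨toUnit N ≫ η[N'], by
    rw [Category.assoc, IsMonHom.one_hom, hk.w]⟩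
  have hbm : Set.range i.left ⊆ Set.range (m ≫ π).left := by
    let R : (pts k k ⟶ P) → Set N.left := fun a => (b ≫ transl a⁻¹).left ⁻¹' Set.range m.left
    have hRc : ∀ a, IsClosed (R a) := fun a =>
      m.left.isClosedEmbedding.isClosed_range.preimage (b ≫ transl a⁻¹).left.continuous
    have hcov : ∀ g : pts k k ⟶ N, ∃ a ∈ F, g.left (IsLocalRing.closedPoint k) ∈ R a := fun g => by
      obtain ⟨a, ha, g₀, hg₀⟩ := hF (g ≫ b)
      refine ⟨a, ha, g₀.left (IsLocalRing.closedPoint k), ?_⟩
      show (g₀ ≫ m).left _ = (g ≫ b ≫ transl a⁻¹).left _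
      rw [← Category.assoc g, comp_transl, cst_self, ← hg₀, inv_mul_cancel_left]
    have hall : (⋃ a ∈ F, R a) = Set.univ := by
      haveI : JacobsonSpace N.left := LocallyOfFiniteType.jacobsonSpace N.hom
      by_contra hne'
      obtain ⟨w, hw⟩ := (Set.ne_univ_iff_exists_notMem _).mp hne'
      obtain ⟨g, hg⟩ := point_exists_mem (X := N) (Z := (⋃ a ∈ F, R a)ᶜ)
        (F.finite_toSet.isClosed_biUnion fun a _ => hRc a).isOpen_compl.isLocallyClosed ⟨w, hw⟩
      obtain ⟨a, ha, hga⟩ := hcov g
      exact hg (Set.mem_iUnion₂.mpr ⟨a, ha, hga⟩)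
    obtain ⟨a, -, hxa⟩ := Set.mem_iUnion₂.mp (hall ▸ Set.mem_univ x)
    have hRa : R a = Set.univ := Set.eq_univ_of_univ_subset (hx ▸ closure_minimal (by simpa using hxa) (hRc a))
    rintro _ ⟨w, rfl⟩
    -- `a` itself lies in `M`
    obtain ⟨z, hz⟩ : (1 : pts k k ⟶ N).left (IsLocalRing.closedPoint k) ∈ R a := hRa ▸ Set.mem_univ _
    obtain ⟨c, hc⟩ : ∃ c : pts k k ⟶ M, c ≫ m = a⁻¹ := by
      obtain ⟨c, hc⟩ := point_exists (X := M) (x := z) (by
        rw [← m.left.injective.preimage_image {z}, Set.image_singleton, hz]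
        exact (point_closed ((1 : pts k k ⟶ N) ≫ b ≫ transl a⁻¹)).preimage m.left.continuous)
      refine ⟨c, ?_⟩
      have h1 : c ≫ m = (1 : pts k k ⟶ N) ≫ b ≫ transl a⁻¹ := point_ext (by
        rw [Over.comp_left, Scheme.Hom.comp_apply, hc, hz]
        rfl)
      rw [h1, ← Category.assoc, comp_transl, cst_self]
      have h2 : (1 : pts k k ⟶ N) ≫ b = 1 := by
        rw [← cancel_mono π, Category.assoc, hb, MonObj.one_comp, MonObj.one_comp]
      rw [h2, _root_.mul_one]
    obtain ⟨z', hz'⟩ : w ∈ R a := hRa ▸ Set.mem_univ _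
    refine ⟨(transl c⁻¹).left z', ?_⟩
    have e1 : transl c⁻¹ ≫ m = m ≫ transl a := by
      rw [transl, transl, MonObj.mul_comp, MonObj.comp_mul, Category.id_comp, Category.comp_id, Category.assoc,
        GrpObj.inv_comp, hc, _root_.inv_inv, ← Category.assoc m (toPt P), toPt_unique (m ≫ toPt P) (toPt M)]
    rw [← Scheme.Hom.comp_apply, ← Over.comp_left, reassoc_of% e1, Over.comp_left, Over.comp_left,
      Scheme.Hom.comp_apply, Scheme.Hom.comp_apply, hz', ← hb]
    show ((transl a).left ≫ π.left) ((b ≫ transl a⁻¹).left w) = (b ≫ π).left w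
    rw [← Scheme.Hom.comp_apply, ← Over.comp_left, ← Over.comp_left, Category.assoc, ← Category.assoc (transl a⁻¹),
      transl_comp, mul_inv_cancel, transl_one, Category.id_comp]
  -- by maximality they agree, so the points of `P` have finitely many images
  have hsp : (m ≫ π).left y ⤳ i.left x := by
    obtain ⟨z, hz⟩ := hbm ⟨x, rfl⟩
    rw [← hz]
    exact (specializes_iff_mem_closure.mpr (hy ▸ Set.mem_univ z)).map (m ≫ π).left.continuous
  have heq : i.left x = (m ≫ π).left y := (VarDim.eq_of_specializes_of_deg_le G.hom hsp (hle.trans hdx.ge)).symm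
  have hmi : Set.range (m ≫ π).left ⊆ Set.range i.left := by
    rintro _ ⟨z, rfl⟩
    have hz : (m ≫ π).left y ⤳ (m ≫ π).left z :=
      (specializes_iff_mem_closure.mpr (hy ▸ Set.mem_univ z)).map (m ≫ π).left.continuous
    rw [← heq] at hz
    exact hz.mem_closed i.left.isClosedEmbedding.isClosed_range ⟨x, rfl⟩
  have hMq : ∀ g₀ : pts k k ⟶ M, (g₀ ≫ m ≫ π) ≫ q = 1 := fun g₀ => by
    obtain ⟨z, hz⟩ := hmi ⟨g₀.left (IsLocalRing.closedPoint k), rfl⟩
    obtain ⟨g, hg⟩ := point_exists (X := N) (x := z) (by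
      rw [← i.left.injective.preimage_image {z}, Set.image_singleton, hz]
      exact (point_closed (g₀ ≫ m ≫ π)).preimage i.left.continuous)
    have h1 : g ≫ i = g₀ ≫ m ≫ π := point_ext (by rw [Over.comp_left, Scheme.Hom.comp_apply, hg, hz]; rfl)
    rw [← h1, Category.assoc, hk.w, ← Category.assoc, comp_toUnit]
    rfl
  haveI : Finite (pts k k ⟶ N') := by
    haveI : Mono i' := (Over.forget _).mono_of_mono_map (inferInstanceAs (Mono i'.left))
    have hfinrange : (Set.range fun g : pts k k ⟶ N' => g ≫ i').Finite := by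
      refine (F.finite_toSet.image fun a => a ≫ π ≫ q).subset ?_
      rintro _ ⟨g, rfl⟩
      obtain ⟨gG, hgG⟩ : ∃ gG : pts k k ⟶ G, gG ≫ q = g ≫ i' := by
        haveI : JacobsonSpace G.left := LocallyOfFiniteType.jacobsonSpace G.hom
        obtain ⟨gG, hgG⟩ := point_exists_mem (X := G) (Z := q.left ⁻¹' {(g ≫ i').left (IsLocalRing.closedPoint k)})
          ((point_closed (g ≫ i')).preimage q.left.continuous).isLocallyClosed
          (q.left.surjective _)
        exact ⟨gG, point_ext hgG⟩
      obtain ⟨z, hz⟩ := hpmem gG ⟨g, hgG.symm⟩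
      obtain ⟨a, ha, g₀, hg₀⟩ := hF z
      refine ⟨a, ha, ?_⟩
      show a ≫ π ≫ q = g ≫ i'
      rw [← hgG, ← hz, ← hg₀, MonObj.mul_comp, MonObj.mul_comp, Category.assoc g₀, hMq, _root_.mul_one, Category.assoc]
    haveI := hfinrange.to_subtype
    exact Finite.of_injective (fun g => (⟨g ≫ i', g, rfl⟩ : Set.range fun g : pts k k ⟶ N' => g ≫ i'))
      fun a b h => (cancel_mono i').mp (congrArg Subtype.val h)
  exact not_finite (pts k k ⟶ N')

end Groth.Agent.AGStr.Chev
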